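import Cfsg.Agent.Lib.Fusion.RankThree.Section
import Cfsg.Agent.Lib.Fusion.RankTwoResistant.Torus

/-!
The case of a single Jordan block: three conjugate maximal subgroups lead to a contradiction.
-/

set_option autoImplicit false
set_option linter.unusedSectionVars false
set_option linter.style.haveILetI false

namespace Cfsg.Agent.Fusion.RankThree

open Subgroup

variable {G : Type*} [Group G] [Finite G] {p : ℕ} [hp : Fact p.Prime]

theorem exists_relIndex_eq_pow (hG : IsPGroup p G) (A B : Subgroup G) : ∃ i, A.relIndex B = p ^ i :=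
  (hG.to_subgroup B).index (A.subgroupOf B)

theorem relIndex_eq_prime (hG : IsPGroup p G) {A B : Subgroup G} (h : A.relIndex B ≤ p) {z : G}
    (hz : z ∈ B) (hzA : z ∉ A) : A.relIndex B = p := by
  obtain ⟨i, hi⟩ := exists_relIndex_eq_pow hG A B
  rcases i with _ | i
  · exact absurd (relIndex_eq_one.1 (by rw [hi, pow_zero]) hz) hzA
  · refine le_antisymm h ?_
    rw [hi]
    exact Nat.le_self_pow (Nat.succ_ne_zero i) p

theorem card_map_mk {N : Subgroup G} [N.Normal] (A : Subgroup G) :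
    Nat.card (A.map (QuotientGroup.mk' N)) = N.relIndex A := (relIndex_eq_card_map A).symm

theorem mem_map_mk {N A : Subgroup G} [N.Normal] (h : N ≤ A) {v : G} :
    QuotientGroup.mk' N v ∈ A.map (QuotientGroup.mk' N) ↔ v ∈ A := by
  refine ⟨fun hv => ?_, mem_map_of_mem _⟩
  have h1 : v ∈ (A.map (QuotientGroup.mk' N)).comap (QuotientGroup.mk' N) := hv
  rwa [comap_map_eq, QuotientGroup.ker_mk', sup_eq_left.2 h] at h1

/-- A normal step of index `p` is central. -/
theorem cm_mem_of_relIndex (hG : IsPGroup p G) {A B : Subgroup G} [A.Normal] [hBn : B.Normal]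
    (h : A.relIndex B = p) {b : G} (hb : b ∈ B) (g : G) : cm b g ∈ A := by
  haveI : (B.map (QuotientGroup.mk' A)).Normal := hBn.map _ (QuotientGroup.mk'_surjective A)
  haveI := (hG.to_quotient A).isNilpotent
  have hc : Nat.card (B.map (QuotientGroup.mk' A)) = p := (card_map_mk B).trans h
  have hne : B.map (QuotientGroup.mk' A) ≠ ⊥ := fun e => by
    rw [e, card_bot] at hc; exact hp.out.ne_one hc.symm
  have h1 := Solvable.Basics.inf_center_ne_bot hne
  have h2 : B.map (QuotientGroup.mk' A) ⊓ center _ = B.map (QuotientGroup.mk' A) := by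
    refine eq_of_le_of_card_ge inf_le_left ?_
    rw [hc]
    rcases (Nat.dvd_prime hp.out).1 (hc ▸ card_dvd_of_le inf_le_left) with h3 | h3
    · exact absurd (eq_bot_of_card_eq _ h3) h1
    · exact h3.ge
  refine mk_cm_eq_one_iff.1 ?_
  exact ((mem_center_iff.1 (h2.ge (mem_map_of_mem _ hb)).2) _).symm

theorem pow_mem_of_relIndex (hG : IsPGroup p G) {A B : Subgroup G} [A.Normal]
    (h : A.relIndex B = p) {b : G} (hb : b ∈ B) : b ^ p ∈ A := by
  have h1 : (QuotientGroup.mk' A b) ^ p = 1 := by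
    have hc : Nat.card (B.map (QuotientGroup.mk' A)) = p := (card_map_mk B).trans h
    have := congrArg Subtype.val
      (pow_card_eq_one' (x := (⟨_, mem_map_of_mem (QuotientGroup.mk' A) hb⟩ : B.map (QuotientGroup.mk' A))))
    rw [hc] at this
    exact this
  rwa [← map_pow, QuotientGroup.mk'_apply, QuotientGroup.eq_one_iff] at h1

theorem exists_zpow_of_relIndex (hG : IsPGroup p G) {A B : Subgroup G} [A.Normal]
    (h : A.relIndex B = p) {z : G} (hz : z ∈ B) (hzA : z ∉ A) {v : G} (hv : v ∈ B) :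
    ∃ i : ℤ, QuotientGroup.mk' A v = (QuotientGroup.mk' A z) ^ i := by
  have hc : Nat.card (B.map (QuotientGroup.mk' A)) = p := (card_map_mk B).trans h
  have hle : zpowers (QuotientGroup.mk' A z) ≤ B.map (QuotientGroup.mk' A) :=
    zpowers_le.2 (mem_map_of_mem _ hz)
  have heq : zpowers (QuotientGroup.mk' A z) = B.map (QuotientGroup.mk' A) := by
    refine eq_of_le_of_card_ge hle ?_
    rw [hc]
    rcases (Nat.dvd_prime hp.out).1 (hc ▸ card_dvd_of_le hle) with h3 | h3
    · rw [Nat.card_zpowers, orderOf_eq_one_iff, QuotientGroup.mk'_apply, QuotientGroup.eq_one_iff] at h3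
      exact absurd h3 hzA
    · exact h3.ge
  obtain ⟨i, hi⟩ := mem_zpowers_iff.1 (heq.ge (mem_map_of_mem _ hv))
  exact ⟨i, hi.symm⟩

theorem phi_le_of_index (hG : IsPGroup p G) {A D : Subgroup G} [D.Normal] (hD : D.index = p) :
    phi p A ≤ D :=
  phi_le_iff.2 ⟨fun v _ => pow_mem_of_relIndex hG (by rw [relIndex_top_right, hD]) (mem_top v),
    fun u _ v _ => cm_mem_of_relIndex hG (by rw [relIndex_top_right, hD]) (mem_top u) v⟩

/-- No element outside `E` centralizes a hyperplane of `E / Φ(E)`. -/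
def Block (p : ℕ) (E : Subgroup G) : Prop :=
  ∀ g ∉ E, ∀ H : Subgroup G, phi p E ≤ H → H ≤ E → H.relIndex E = p → ∃ h ∈ H, cm h g ∉ phi p E

theorem Block.map {E : Subgroup G} (h : Block p E) (γ : G ≃* G) : Block p (E.map γ.toMonoidHom) := by
  intro g hg H hH hHE hidx
  rw [← phi_map] at hH ⊢
  have hcm : (H.comap γ.toMonoidHom).map γ.toMonoidHom = H :=
    map_comap_eq_self_of_surjective γ.surjective H
  obtain ⟨x, hx, hxn⟩ := h (γ.symm g) (fun hx => hg ⟨_, hx, γ.apply_symm_apply g⟩)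
    (H.comap γ.toMonoidHom) (map_le_iff_le_comap.1 hH)
    ((comap_mono hHE).trans (comap_map_eq_self_of_injective γ.injective E).le)
    (by rw [← relIndex_map_map_of_injective (f := γ.toMonoidHom) _ _ γ.injective, hcm]; exact hidx)
  refine ⟨γ x, hx, fun hc => hxn ?_⟩
  obtain ⟨y, hy, hye⟩ := hc
  rw [show g = γ (γ.symm g) from (γ.apply_symm_apply g).symm, ← map_cm] at hye
  exact γ.injective hye ▸ hy

/-- The shape of a single block. -/
theorem block_shape (hG : IsPGroup p G) {E Q : Subgroup G} [hE : E.Normal] [hQn : Q.Normal]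
    (hphi : (phi p E).relIndex E = p ^ 3) (hblock : Block p E) (hQ : phi p E ≤ Q) (hQE : Q ≤ E)
    (hQi : Q.relIndex E = p) {g : G} (hg : g ∉ E) {e : G} (he : e ∈ E) (heQ : e ∉ Q) :
    cm e g ∈ Q ∧ cm (cm e g) g ∈ Q ∧ cm (cm e g) g ∉ phi p E ∧ cm (cm (cm e g) g) g ∈ phi p E ∧
      (∀ v ∈ E, cm v g ∈ phi p E → v ∈ phi p E ⊔ zpowers (cm (cm e g) g)) ∧
      Q = phi p E ⊔ zpowers (cm e g) ⊔ zpowers (cm (cm e g) g) := by
  have hpp := hp.out
  haveI : (phi p E).Normal := phi_normal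
  set π := QuotientGroup.mk' (phi p E) with hπ
  have hπs : Function.Surjective π := QuotientGroup.mk'_surjective _
  set E' := E.map π
  set Q' := Q.map π
  have hGp : IsPGroup p (G ⧸ phi p E) := hG.to_quotient _
  haveI : E'.Normal := hE.map _ hπs
  haveI : Q'.Normal := hQn.map _ hπs
  have hE'c : Nat.card E' = p ^ 3 := (card_map_mk E).trans hphi
  have hQ'c : Nat.card Q' = p ^ 2 := by
    have h1 := relIndex_mul_relIndex _ _ _ hQ hQE
    rw [hphi, hQi, ← card_map_mk (N := phi p E) Q, pow_succ p 2] at h1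
    exact Nat.eq_of_mul_eq_mul_right hpp.pos h1
  have hE'e : Elem p E' := elem_map_iff.2 ⟨fun a ha b hb => cm_mem_phi ha hb, fun a ha => pow_mem_phi ha⟩
  have hQE' : Q' ≤ E' := map_mono hQE
  haveI := hGp.isNilpotent
  -- the fixed line
  obtain ⟨l, hlQ, hlZ, hl1⟩ : ∃ l ∈ Q', l ∈ center _ ∧ l ≠ 1 := by
    obtain ⟨l, hl, hl1⟩ := (bot_or_exists_ne_one (Q' ⊓ center _)).resolve_left
      (Solvable.Basics.inf_center_ne_bot (N := Q') (fun h => by
        rw [h, card_bot] at hQ'c; exact (Nat.one_lt_pow two_ne_zero hpp.one_lt).ne hQ'c))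
    exact ⟨l, hl.1, hl.2, hl1⟩
  have hlc : Nat.card (zpowers l) = p := by
    rw [Nat.card_zpowers, orderOf_eq_prime (hE'e.2 l (hQE' hlQ)) hl1]
  set g' := π g
  let χ : E' →* E' := MonoidHom.mk'
    (fun v => ⟨cm (v : G ⧸ phi p E) g', cm_mem v.2 g'⟩) fun v w => Subtype.ext (by
      show cm ((v : G ⧸ phi p E) * w) g' = cm (v : G ⧸ phi p E) g' * cm (w : G ⧸ phi p E) g'
      rw [cm_mul_left, mul_assoc (w : G ⧸ phi p E)⁻¹, (hE'e.1 _ (cm_mem v.2 g') _ w.2).eq,
        inv_mul_cancel_left])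
  set L' := (zpowers l).subgroupOf E' with hL'
  have hLE : zpowers l ≤ E' := zpowers_le.2 (hQE' hlQ)
  have hL'c : Nat.card L' = p := by
    rw [Nat.card_congr (subgroupOfEquivOfLe hLE).toEquiv, hlc]
  have hLker : L' ≤ χ.ker := by
    intro v hv
    refine Subtype.ext ?_
    show cm (v : G ⧸ phi p E) g' = 1
    exact cm_eq_one_iff.2 ((mem_center_iff.1 (zpowers_le.2 hlZ (mem_subgroupOf.1 hv)) g').symm)
  have hker : χ.ker = L' := by
    refine (eq_of_le_of_card_ge hLker ?_).symm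
    rw [hL'c]
    obtain ⟨i, hi⟩ := IsPGroup.iff_card.1 ((hGp.to_subgroup E').to_subgroup χ.ker)
    rw [hi]
    by_contra hlt
    have hi2 : 2 ≤ i := by
      by_contra h
      exact hlt ((Nat.pow_le_pow_right hpp.pos (show i ≤ 1 by omega)).trans (pow_one p).le)
    obtain ⟨H, hH⟩ := Sylow.exists_subgroup_card_pow_prime (G := χ.ker) p (n := 2)
      (by rw [hi]; exact pow_dvd_pow p hi2)
    set H' := (H.map χ.ker.subtype).map E'.subtype with hH'
    have hH'c : Nat.card H' = p ^ 2 := by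
      rw [hH', card_map_of_injective E'.subtype_injective,
        card_map_of_injective χ.ker.subtype_injective, hH]
    have hH'E : H' ≤ E' := map_subtype_le _
    set H0 := H'.comap π
    have hcap : H0.map π = H' := map_comap_eq_self_of_surjective hπs H'
    have h0 : phi p E ≤ H0 := fun x hx => by
      rw [mem_comap, show π x = 1 from (QuotientGroup.eq_one_iff x).2 hx]; exact one_mem _
    have h0E : H0 ≤ E := fun x hx => (mem_map_mk phi_le).1 (hH'E hx)
    obtain ⟨h, hh, hhn⟩ := hblock g hg H0 h0 h0E (by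
      have h1 := relIndex_mul_relIndex _ _ _ h0 h0E
      rw [hphi, ← card_map_mk (N := phi p E) H0, hcap, hH'c, pow_succ p 2] at h1
      exact Nat.eq_of_mul_eq_mul_left (pow_pos hpp.pos 2) h1)
    obtain ⟨w, ⟨u, -, rfl⟩, hw⟩ : π h ∈ H' := hh
    refine hhn ((QuotientGroup.eq_one_iff _).1 ?_)
    show π (cm h g) = 1
    rw [map_cm, ← hw]
    exact congrArg Subtype.val u.2
  have hkc : Nat.card χ.ker = p := by rw [hker, hL'c]
  have hkermem : ∀ v : E', χ v = 1 → (v : G ⧸ phi p E) ∈ zpowers l := fun v hv =>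
    mem_subgroupOf.1 (hker.le hv)
  have hQ1 : ∀ v ∈ E', cm v g' ∈ Q' := by
    rintro _ ⟨v, hv, rfl⟩
    exact ⟨cm v g, cm_mem_of_relIndex hG hQi hv g, map_cm π v g⟩
  have hL2 : ∀ v ∈ Q', cm v g' ∈ zpowers l := by
    intro v hv
    haveI : (zpowers l).Normal := ⟨fun a ha b => by
      rw [mem_center_iff.1 (zpowers_le.2 hlZ ha) b, mul_inv_cancel_right]; exact ha⟩
    refine cm_mem_of_relIndex hGp (A := zpowers l) (B := Q') ?_ hv g'
    have h1 := relIndex_mul_relIndex ⊥ (zpowers l) Q' bot_le (zpowers_le.2 hlQ)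
    rw [relIndex_bot_left, relIndex_bot_left, hlc, hQ'c, pow_two] at h1
    exact Nat.eq_of_mul_eq_mul_left hpp.pos h1
  have hrc : Nat.card χ.range = p ^ 2 := by
    have h1 := χ.ker.card_mul_index
    rw [index_ker, hkc, hE'c, pow_succ' p 2] at h1
    exact Nat.eq_of_mul_eq_mul_left hpp.pos h1
  set c1 := cm e g
  set c2 := cm c1 g
  have hc1E : c1 ∈ E := cm_mem he g
  have hc1Q : c1 ∈ Q := cm_mem_of_relIndex hG hQi he g
  have hc2Q : c2 ∈ Q := cm_mem hc1Q g
  have hc1L : π c1 ∉ zpowers l := by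
    intro h
    have hle : χ.range ≤ L' := by
      rintro _ ⟨⟨v, v0, hv0, rfl⟩, rfl⟩
      refine mem_subgroupOf.2 ?_
      show cm (π v0) g' ∈ zpowers l
      obtain ⟨i, hi⟩ := exists_zpow_of_relIndex hG hQi he heQ hv0
      obtain ⟨q, hq, hqe⟩ : ∃ q ∈ Q, v0 = e ^ i * q := by
        refine ⟨(e ^ i)⁻¹ * v0, QuotientGroup.eq.1 ?_, (mul_inv_cancel_left _ _).symm⟩
        rw [← QuotientGroup.mk'_apply, ← QuotientGroup.mk'_apply, hi, map_zpow]
      have h1 : χ (⟨π e, mem_map_of_mem π he⟩ ^ i * ⟨π q, mem_map_of_mem π (hQE hq)⟩) ∈ L' := by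
        rw [map_mul, map_zpow]
        refine mul_mem (zpow_mem (mem_subgroupOf.2 ?_) i) (mem_subgroupOf.2 (hL2 _ (mem_map_of_mem π hq)))
        show cm (π e) (π g) ∈ zpowers l
        rw [← map_cm]; exact h
      have h2 := mem_subgroupOf.1 h1
      rw [show ((⟨π e, mem_map_of_mem π he⟩ : E') ^ i * ⟨π q, mem_map_of_mem π (hQE hq)⟩) =
        ⟨π v0, mem_map_of_mem π hv0⟩ from Subtype.ext (by simp [hqe])] at h2
      exact h2
    have := card_le_of_le hle
    rw [hrc, hL'c, pow_two] at this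
    exact absurd this (not_le.2 (lt_mul_of_one_lt_right hpp.pos hpp.one_lt))
  have hc2n : c2 ∉ phi p E := fun h => hc1L (hkermem ⟨π c1, mem_map_of_mem π hc1E⟩ (Subtype.ext (by
    show cm (π c1) (π g) = 1
    rw [← map_cm]; exact (QuotientGroup.eq_one_iff _).2 h)))
  have hc2l : π c2 ∈ zpowers l := by
    rw [show π c2 = cm (π c1) g' from map_cm π c1 g]
    exact hL2 _ (mem_map_of_mem π hc1Q)
  have hlc2 : zpowers (π c2) = zpowers l := by
    refine eq_of_le_of_card_ge (zpowers_le.2 hc2l) ?_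
    rw [hlc, Nat.card_zpowers, orderOf_eq_prime (hE'e.2 _ (mem_map_of_mem π (hQE hc2Q)))
      (fun h => hc2n ((QuotientGroup.eq_one_iff _).1 h))]
  refine ⟨hc1Q, hc2Q, hc2n, ?_, fun v hv hvg => ?_, ?_⟩
  · refine (QuotientGroup.eq_one_iff _).1 ?_
    show π (cm c2 g) = 1
    rw [map_cm]
    exact cm_eq_one_iff.2 ((mem_center_iff.1 (zpowers_le.2 hlZ hc2l) g').symm)
  · have h1 : π v ∈ zpowers l := hkermem ⟨π v, mem_map_of_mem π hv⟩ (Subtype.ext (by
      show cm (π v) (π g) = 1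
      rw [← map_cm]; exact (QuotientGroup.eq_one_iff _).2 hvg))
    rw [← hlc2, ← MonoidHom.map_zpowers] at h1
    rw [sup_comm]
    have h2 : v ∈ ((zpowers c2).map π).comap π := h1
    rwa [comap_map_eq, QuotientGroup.ker_mk'] at h2
  · refine le_antisymm ?_ (sup_le (sup_le hQ (zpowers_le.2 hc1Q)) (zpowers_le.2 hc2Q))
    intro v hv
    set T := phi p E ⊔ zpowers c1 ⊔ zpowers c2
    have hTQ : T ≤ Q := sup_le (sup_le hQ (zpowers_le.2 hc1Q)) (zpowers_le.2 hc2Q)
    have heq : T.map π = Q' := by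
      refine eq_of_le_of_card_ge (map_mono hTQ) ?_
      have hlt : zpowers l < T.map π := lt_of_le_of_ne
        (hlc2 ▸ zpowers_le.2 (mem_map_of_mem π (mem_sup_right (mem_zpowers c2))))
        (fun h => hc1L (h.ge (mem_map_of_mem π (mem_sup_left (mem_sup_right (mem_zpowers c1))))))
      have h1 := mul_card_le (p := p) (hGp.to_subgroup _) hlt
      rw [hQ'c, pow_two]
      rwa [hlc] at h1
    exact (mem_map_mk (le_sup_left.trans le_sup_left)).1 (heq.ge (mem_map_of_mem π hv))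

theorem zpow_natMod {H : Type*} [Group H] {z : H} (hz : z ^ p = 1) (i : ℤ) :
    ∃ n : ℕ, z ^ i = z ^ n := by
  refine ⟨(i % (p : ℤ)).toNat, ?_⟩
  have h0 : 0 ≤ i % (p : ℤ) := Int.emod_nonneg _ (by exact_mod_cast hp.out.ne_zero)
  rw [← zpow_natCast, Int.toNat_of_nonneg h0]
  exact RankTwoResistant.zpow_eq_of_dvd hz ⟨i / (p : ℤ), by rw [Int.emod_def]; ring⟩

set_option maxHeartbeats 1600000 in
/-- The single block case. -/
theorem case_a (hG : IsPGroup p G) (h5 : 5 ≤ p) (hsr : Cfsg.SectionalPRankLE p 3 G) {E : Subgroup G}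
    [hE : E.Normal] (hidx : E.index = p) (hphi : (phi p E).relIndex E = p ^ 3) (hblock : Block p E)
    (hIrr : ∀ U : Subgroup G, phi p E ≤ U → U ≤ E → Inv E U → U = phi p E ∨ U = E)
    (γ : G ≃* G) {D D2 : Subgroup G} (hD : D = E.map γ.toMonoidHom) (hD2 : D2 = D.map γ.toMonoidHom)
    (hED : E ≠ D) (hED2 : E ≠ D2) (hDD2 : D ≠ D2) : False := by
  have hpp := hp.out
  have hp2 : p ≠ 2 := by omega
  haveI hDn : D.Normal := hD ▸ hE.map _ γ.surjective
  haveI hD2n : D2.Normal := hD2 ▸ hDn.map _ γ.surjective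
  have hDi : D.index = p := by
    rw [hD, show E.map γ.toMonoidHom = E.map (γ : G →* G) from rfl, index_map_equiv, hidx]
  have hD2i : D2.index = p := by
    rw [hD2, show D.map γ.toMonoidHom = D.map (γ : G →* G) from rfl, index_map_equiv, hDi]
  have hphiD : (phi p D).relIndex D = p ^ 3 := by
    rw [hD, ← phi_map, relIndex_map_map_of_injective _ _ γ.injective, hphi]
  have hphiD2 : (phi p D2).relIndex D2 = p ^ 3 := by
    rw [hD2, ← phi_map, relIndex_map_map_of_injective _ _ γ.injective, hphiD]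
  have hblockD : Block p D := hD ▸ hblock.map γ
  haveI : (phi p E).Normal := phi_normal
  haveI : (phi p D).Normal := phi_normal
  haveI : (phi p D2).Normal := phi_normal
  -- the common maximal subgroup
  set Q := E ⊓ D with hQdef
  haveI : Q.Normal := inferInstance
  have hnle : ∀ {A B : Subgroup G}, A.index = p → B.index = p → A ≠ B → ¬ A ≤ B := by
    intro A B hA hB hne hle
    have h1 := relIndex_mul_index hle
    rw [hA, hB] at h1
    exact hne (le_antisymm hle (relIndex_eq_one.1 ((mul_eq_right₀ hpp.ne_zero).1 h1)))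
  have hQE : Q.relIndex E = p := by
    rw [hQdef, inf_comm, inf_relIndex_right]
    obtain ⟨e, he, heD⟩ := SetLike.not_le_iff_exists.1 (hnle hidx hDi hED)
    exact relIndex_eq_prime hG
      (hDi ▸ Nat.le_of_dvd (Nat.pos_of_ne_zero index_ne_zero_of_finite) (relIndex_dvd_index_of_normal _ _))
      he heD
  have hQD : Q.relIndex D = p := by
    rw [hQdef, inf_relIndex_right]
    obtain ⟨d, hd, hdE⟩ := SetLike.not_le_iff_exists.1 (hnle hDi hidx hED.symm)
    exact relIndex_eq_prime hG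
      (hidx ▸ Nat.le_of_dvd (Nat.pos_of_ne_zero index_ne_zero_of_finite) (relIndex_dvd_index_of_normal _ _))
      hd hdE
  have hΦEQ : phi p E ≤ Q := le_inf phi_le (phi_le_of_index hG hDi)
  have hΦDQ : phi p D ≤ Q := le_inf (phi_le_of_index hG hidx) phi_le
  obtain ⟨e, he, heD⟩ := SetLike.not_le_iff_exists.1 (hnle hidx hDi hED)
  obtain ⟨d, hd, hdE⟩ := SetLike.not_le_iff_exists.1 (hnle hDi hidx hED.symm)
  have heQ : e ∉ Q := fun h => heD h.2
  have hdQ : d ∉ Q := fun h => hdE h.1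
  obtain ⟨hc1Q, hc2Q, hc2E, -, -, hQgen⟩ :=
    block_shape hG hphi hblock hΦEQ inf_le_left hQE hdE he heQ
  obtain ⟨-, -, hD3, -, -, -⟩ := block_shape hG hphiD hblockD hΦDQ inf_le_right hQD heD hd hdQ
  set c1 := cm e d with hc1def
  set c2 := cm c1 d with hc2def
  set z1 := cm c1 e with hz1def
  have hz1D : z1 ∉ phi p D := by
    intro h
    refine hD3 ?_
    rw [show cm d e = c1⁻¹ from cm_swap e d,
      show cm c1⁻¹ e = c1 * (cm c1 e)⁻¹ * c1⁻¹ by simp only [cm_def]; group]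
    exact (inferInstance : (phi p D).Normal).conj_mem _ (inv_mem h) c1
  have hz1E : z1 ∈ phi p E := cm_mem_phi hc1Q.1 he
  have hc2D : c2 ∈ phi p D := cm_mem_phi hc1Q.2 hd
  -- the intersection of the Frattini subgroups
  set K := phi p E ⊓ phi p D with hKdef
  haveI : K.Normal := inferInstance
  have hKc : ∀ a ∈ Q, ∀ b ∈ Q, cm a b ∈ K := fun a ha b hb => ⟨cm_mem_phi ha.1 hb.1, cm_mem_phi ha.2 hb.2⟩
  have hKp : ∀ a ∈ Q, a ^ p ∈ K := fun a ha => ⟨pow_mem_phi ha.1, pow_mem_phi ha.2⟩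
  have hKQ : K.relIndex Q ≤ p ^ 3 := relIndex_le hsr hKc hKp
  have hΦEQi : (phi p E).relIndex Q = p ^ 2 := by
    have h1 := relIndex_mul_relIndex _ _ _ hΦEQ (inf_le_left : Q ≤ E)
    rw [hphi, hQE, pow_succ p 2] at h1
    exact Nat.eq_of_mul_eq_mul_right hpp.pos h1
  have hΦDQi : (phi p D).relIndex Q = p ^ 2 := by
    have h1 := relIndex_mul_relIndex _ _ _ hΦDQ (inf_le_right : Q ≤ D)
    rw [hphiD, hQD, pow_succ p 2] at h1
    exact Nat.eq_of_mul_eq_mul_right hpp.pos h1
  have hKE : K.relIndex (phi p E) = p := by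
    refine relIndex_eq_prime hG ?_ hz1E (fun h => hz1D h.2)
    have h1 := relIndex_mul_relIndex _ _ _ (inf_le_left : K ≤ phi p E) hΦEQ
    rw [hΦEQi] at h1
    have h2 : K.relIndex (phi p E) * p ^ 2 ≤ p * p ^ 2 := by rw [h1, ← pow_succ']; exact hKQ
    exact Nat.le_of_mul_le_mul_right h2 (pow_pos hpp.pos 2)
  have hKQ3 : K.relIndex Q = p ^ 3 := by
    rw [← relIndex_mul_relIndex _ _ _ (inf_le_left : K ≤ phi p E) hΦEQ, hKE, hΦEQi, ← pow_succ']
  have hKD : K.relIndex (phi p D) = p := by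
    have h1 := relIndex_mul_relIndex _ _ _ (inf_le_right : K ≤ phi p D) hΦDQ
    rw [hΦDQi, hKQ3, pow_succ' p 2] at h1
    exact Nat.eq_of_mul_eq_mul_right (pow_pos hpp.pos 2) h1
  -- the layer
  set E1 := layer p E with hE1
  haveI : E1.Normal := layer_normal
  have hE1K : E1 ≤ K := layer_le_iff.2 ⟨fun z hz v _ => cm_mem_of_relIndex hG hKE hz v,
    fun z hz => hKp z (hΦEQ hz)⟩
  have hE1Φ : E1 ≤ phi p E := layer_le
  set π := QuotientGroup.mk' E1 with hπdef
  have hπ1 : ∀ {x}, x ∈ E1 → π x = 1 := fun {x} hx => (QuotientGroup.eq_one_iff x).2 hx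
  have hπ1' : ∀ {x}, π x = 1 → x ∈ E1 := fun {x} hx => (QuotientGroup.eq_one_iff x).1 hx
  have hcomm : ∀ z ∈ phi p E, ∀ v ∈ E, Commute (π z) (π v) := fun z hz v hv =>
    mk_cm_eq_one_iff.2 (cm_mem_layer hz hv)
  have hpowE : ∀ v ∈ E, ∀ w ∈ E, π ((v * w) ^ p) = π (v ^ p) * π (w ^ p) := by
    intro v hv w hw
    rw [map_pow, map_mul, map_pow, map_pow]
    refine mul_pow_class_two_eq hpp hp2 ?_ ?_ ?_ <;> rw [← map_cm]
    · exact hcomm _ (cm_mem_phi hw hv) v hv
    · exact hcomm _ (cm_mem_phi hw hv) w hw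
    · rw [← map_pow]; exact hπ1 (pow_mem_layer (cm_mem_phi hw hv))
  let ψ : E →* G ⧸ E1 := MonoidHom.mk' (fun v => π ((v : G) ^ p)) fun v w => hpowE v v.2 w w.2
  set U0 := ψ.ker.map E.subtype with hU0def
  have hU0mem : ∀ {v}, v ∈ U0 ↔ v ∈ E ∧ v ^ p ∈ E1 := by
    intro v
    constructor
    · rintro ⟨w, hw, rfl⟩; exact ⟨w.2, hπ1' hw⟩
    · rintro ⟨hv, hvp⟩; exact ⟨⟨v, hv⟩, hπ1 hvp, rfl⟩
  have hU0ge : phi p E ≤ U0 := fun z hz => hU0mem.2 ⟨phi_le hz, pow_mem_layer hz⟩
  have hU0le : U0 ≤ E := map_subtype_le _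
  have hU0inv : Inv E U0 := fun α v hv => hU0mem.2 ⟨(α v).2, by
    have := inv_layer E α (v ^ p) (by rw [SubgroupClass.coe_pow]; exact (hU0mem.1 hv).2)
    rwa [map_pow, SubgroupClass.coe_pow] at this⟩
  set B0 := (phi p E).map π with hB0def
  have hB0 : Elem p B0 := elem_map_iff.2
    ⟨fun a ha b hb => cm_mem_layer ha (phi_le hb), fun a ha => pow_mem_layer ha⟩
  have hGp : IsPGroup p (G ⧸ E1) := hG.to_quotient E1
  have hB0c : Nat.card B0 = p * E1.relIndex K := by
    rw [hB0def, card_map_mk, ← relIndex_mul_relIndex _ _ _ hE1K (inf_le_left : K ≤ phi p E), hKE,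
      mul_comm]
  rcases hIrr U0 hU0ge hU0le hU0inv with hker | hker
  swap
  · -- all `p`-th powers lie in the layer
    have hpow1 : ∀ v ∈ E, v ^ p ∈ E1 := fun v hv => (hU0mem.1 (hker.ge hv)).2
    have hc2E' : c2 ∈ E := hc2Q.1
    have hB1 : Elem p (B0 ⊔ zpowers (π c2)) := hB0.sup_zpowers
      (by rintro _ ⟨z, hz, rfl⟩; exact (hcomm z hz c2 hc2E').symm)
      (by rw [← map_pow]; exact hπ1 (hpow1 c2 hc2E'))
    have hc2B0 : π c2 ∉ B0 := fun h => hc2E ((mem_map_mk hE1Φ).1 h)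
    have hB1c : p * Nat.card B0 ≤ p ^ 3 :=
      (mul_card_le_sup hGp hc2B0).trans (elem_card_le hsr E1 hB1)
    obtain ⟨j, hj⟩ := exists_relIndex_eq_pow hG E1 K
    rcases Nat.eq_zero_or_pos j with rfl | hj0
    · -- the radical of the commutator form
      rw [pow_zero] at hj
      have hKle : K ≤ E1 := relIndex_eq_one.1 hj
      let R : Subgroup G :=
        { carrier := {v | v ∈ E ∧ ∀ w ∈ E, cm v w ∈ E1}
          one_mem' := ⟨one_mem E, fun w _ => by rw [cm_one_left]; exact one_mem _⟩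
          mul_mem' := by
            rintro a b ⟨ha, ha'⟩ ⟨hb, hb'⟩
            refine ⟨mul_mem ha hb, fun w hw => ?_⟩
            rw [cm_mul_left]
            refine mul_mem ?_ (hb' w hw)
            simpa using (inferInstance : E1.Normal).conj_mem _ (ha' w hw) b⁻¹
          inv_mem' := by
            rintro a ⟨ha, ha'⟩
            refine ⟨inv_mem ha, fun w hw => ?_⟩
            rw [show cm a⁻¹ w = a * (cm a w)⁻¹ * a⁻¹ by simp only [cm_def]; group]
            exact (inferInstance : E1.Normal).conj_mem _ (inv_mem (ha' w hw)) a }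
      have hRinv : Inv E R := fun α v hv => ⟨(α v).2, fun w hw => by
        have h1 : ((cm v (α⁻¹ ⟨w, hw⟩) : E) : G) ∈ E1 := by
          rw [show ((cm v (α⁻¹ ⟨w, hw⟩) : E) : G) = cm (v : G) (α⁻¹ ⟨w, hw⟩ : E) from
            map_cm E.subtype _ _]
          exact hv.2 _ (α⁻¹ ⟨w, hw⟩).2
        have h2 := inv_layer E α _ h1
        rwa [map_cm, MulAut.apply_inv_self,
          show ((cm (α v) ⟨w, hw⟩ : E) : G) = cm ((α v : E) : G) w from map_cm E.subtype _ _] at h2⟩
      have hc2R : c2 ∈ R := ⟨hc2E', fun w hw => hKle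
        ⟨cm_mem_phi hc2E' hw, cm_mem hc2D w⟩⟩
      rcases hIrr R (fun z hz => ⟨phi_le hz, fun w hw => cm_mem_layer hz hw⟩) (fun v hv => hv.1) hRinv
        with h | h
      · exact hc2E (h.le hc2R)
      · exact hz1D (hE1K ((h.ge hc1Q.1).2 e he)).2
    · -- a commuting pair
      have hj1 : j = 1 := by
        rw [hB0c, hj, ← pow_succ', ← pow_succ'] at hB1c
        have := (Nat.pow_le_pow_iff_right hpp.one_lt).1 hB1c
        omega
      subst hj1
      let χ : E →* G ⧸ E1 := MonoidHom.mk' (fun v => π (cm (v : G) c2)) fun v w => by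
        show π (cm ((v : G) * w) c2) = π (cm (v : G) c2) * π (cm (w : G) c2)
        rw [cm_mul_left, map_mul, map_mul, map_mul, map_inv, mul_assoc (π (w : G))⁻¹,
          (hcomm _ (cm_mem_phi v.2 hc2E') w w.2).eq, inv_mul_cancel_left]
      have hχr : χ.range ≤ K.map π := by
        rintro _ ⟨v, rfl⟩
        exact mem_map_of_mem π ⟨cm_mem_phi v.2 hc2E', cm_mem' _ hc2D⟩
      have hχk : χ.ker.index ≤ p := by
        rw [index_ker]
        refine (card_le_of_le hχr).trans ?_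
        rw [card_map_mk, hj, pow_one]
      set Ls := phi p E ⊔ zpowers c2 with hLsdef
      have hLsE : Ls ≤ E := sup_le phi_le (zpowers_le.2 hc2E')
      obtain ⟨v, hvk, hvL⟩ : ∃ v ∈ χ.ker, (v : G) ∉ Ls := by
        by_contra h
        push Not at h
        have h1 : χ.ker ≤ Ls.subgroupOf E := fun v hv => mem_subgroupOf.2 (h v hv)
        have h2 := Nat.le_of_dvd (Nat.pos_of_ne_zero index_ne_zero_of_finite) (index_dvd_of_le h1)
        have h3 : Ls.relIndex E = p ^ 2 := by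
          have h4 := relIndex_mul_relIndex _ _ _ (le_sup_left : phi p E ≤ Ls) hLsE
          rw [hphi, relIndex_eq_prime hG
            (Nat.le_of_dvd hpp.pos (Solvable.Basics.relIndex_sup_zpowers_dvd (pow_mem_phi hc2E')))
            (mem_sup_right (mem_zpowers c2)) hc2E, pow_succ' p 2] at h4
          exact Nat.eq_of_mul_eq_mul_left hpp.pos h4
        rw [show (Ls.subgroupOf E).index = p ^ 2 from h3] at h2
        exact absurd (h2.trans hχk) (not_le.2 (lt_self_pow₀ hpp.one_lt (by norm_num)))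
      have hB2 : Elem p (B0 ⊔ zpowers (π c2) ⊔ zpowers (π (v : G))) := hB1.sup_zpowers (by
        intro b hb
        have hle : B0 ⊔ zpowers (π c2) ≤ centralizer {π (v : G)} := by
          refine sup_le ?_ (zpowers_le.2 ?_)
          · rintro _ ⟨z, hz, rfl⟩
            exact mem_centralizer_singleton_iff.2 (hcomm z hz v v.2).eq
          · refine mem_centralizer_singleton_iff.2 ?_
            have h1 : π (cm (v : G) c2) = 1 := hvk
            rw [map_cm, cm_eq_one_iff] at h1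
            exact h1.symm.eq
        exact (mem_centralizer_singleton_iff.1 (hle hb)).symm)
        (by rw [← map_pow]; exact hπ1 (hpow1 _ v.2))
      have hvB1 : π (v : G) ∉ B0 ⊔ zpowers (π c2) := by
        rw [hB0def, ← MonoidHom.map_zpowers, ← Subgroup.map_sup]
        exact fun h => hvL ((mem_map_mk (hE1Φ.trans le_sup_left)).1 h)
      have h1 := (mul_card_le_sup hGp hvB1).trans (elem_card_le hsr E1 hB2)
      have h2 := Nat.mul_le_mul_left p (mul_card_le_sup hGp hc2B0)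
      rw [hB0c, hj, pow_one] at h2
      have h3 : p * (p * (p * p)) ≤ p ^ 3 := h2.trans h1
      rw [show p * (p * (p * p)) = p ^ 4 by ring] at h3
      have := (Nat.pow_le_pow_iff_right hpp.one_lt).1 h3
      omega
  · -- the power map is injective
    have hinj : ∀ v ∈ E, v ^ p ∈ E1 → v ∈ phi p E := fun v hv h => hker.le (hU0mem.2 ⟨hv, h⟩)
    have hψr : ψ.range ≤ B0 := by
      rintro _ ⟨v, rfl⟩; exact mem_map_of_mem π (pow_mem_phi v.2)
    have hψc : Nat.card ψ.range = p ^ 3 := by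
      have h2 : ψ.ker = (phi p E).subgroupOf E := by
        rw [← hker, hU0def, subgroupOf, comap_map_eq_self_of_injective E.subtype_injective]
      rw [← index_ker, h2]
      exact hphi
    have hB0eq : ψ.range = B0 := eq_of_le_of_card_ge hψr (by rw [hψc]; exact elem_card_le hsr E1 hB0)
    have hKmap : Nat.card (K.map π) = p ^ 2 := by
      have h1 : p * E1.relIndex K = p ^ 3 := by rw [← hB0c, ← hB0eq, hψc]
      rw [card_map_mk]
      rw [pow_succ' p 2] at h1
      exact Nat.eq_of_mul_eq_mul_left hpp.pos h1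
    have hc2E' : c2 ∈ E := hc2Q.1
    have hdec : ∀ v ∈ E, ∃ i : ℤ, ∃ q ∈ Q, v = e ^ i * q := fun v hv => by
      obtain ⟨i, hi⟩ := exists_zpow_of_relIndex hG hQE he heQ hv
      refine ⟨i, (e ^ i)⁻¹ * v, QuotientGroup.eq.1 ?_, (mul_inv_cancel_left _ _).symm⟩
      rw [← QuotientGroup.mk'_apply, ← QuotientGroup.mk'_apply, hi, map_zpow]
    have heK : e ^ p ∉ K := by
      intro h
      have hle : ψ.range ≤ K.map π := by
        rintro _ ⟨v, rfl⟩
        obtain ⟨i, q, hq, hvq⟩ := hdec v v.2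
        show π ((v : G) ^ p) ∈ K.map π
        rw [hvq, hpowE _ (zpow_mem he i) q hq.1, ← map_mul]
        refine mem_map_of_mem π (mul_mem ?_ (hKp q hq))
        rw [← zpow_natCast, ← zpow_mul, mul_comm, zpow_mul, zpow_natCast]
        exact zpow_mem h i
      have := card_le_of_le hle
      rw [hψc, hKmap] at this
      have := (Nat.pow_le_pow_iff_right hpp.one_lt).1 this
      omega
    -- the subgroup `N`
    have htopd : ∀ x : G, ∃ i : ℤ, ∃ v ∈ E, x = d ^ i * v := fun x => by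
      have hE' : E.relIndex ⊤ = p := by rw [relIndex_top_right, hidx]
      obtain ⟨i, hi⟩ := exists_zpow_of_relIndex hG hE' (mem_top d) hdE (mem_top x)
      refine ⟨i, (d ^ i)⁻¹ * x, QuotientGroup.eq.1 ?_, (mul_inv_cancel_left _ _).symm⟩
      rw [← QuotientGroup.mk'_apply, ← QuotientGroup.mk'_apply, hi, map_zpow]
    have hed : d⁻¹ * e * d = e * c1 := conj_eq_mul_cm e d
    have hc1d : d⁻¹ * c1 * d = c1 * c2 := conj_eq_mul_cm c1 d
    have hconjp : ∀ a b : G, a ∈ E → b ∈ E → d⁻¹ * a * d = a * b →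
        (π d)⁻¹ * π (a ^ p) * π d = π (a ^ p) * π (b ^ p) := by
      intro a b ha hb h
      rw [← hpowE a ha b hb, ← h, show (d⁻¹ * a * d) ^ p = d⁻¹ * a ^ p * d by
        rw [show d⁻¹ * a * d = d⁻¹ * a * (d⁻¹)⁻¹ by rw [inv_inv], conj_pow, inv_inv],
        map_mul, map_mul, map_inv]
    have hc2d : Commute (π (c2 ^ p)) (π d) := by
      have h := hconjp c2 (cm c2 d) hc2E' (cm_mem hc2E' d) (conj_eq_mul_cm c2 d)
      have hf : cm c2 d ∈ phi p E := (block_shape hG hphi hblock hΦEQ inf_le_left hQE hdE he heQ).2.2.2.1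
      rw [hπ1 (pow_mem_layer hf), mul_one] at h
      have h' := (inv_mul_eq_iff_eq_mul.1 ((mul_assoc _ _ _).symm.trans h))
      exact h'
    have hcenter : π (c2 ^ p) ∈ center (G ⧸ E1) := by
      refine mem_center_iff.2 fun x => ?_
      obtain ⟨x, rfl⟩ := QuotientGroup.mk'_surjective E1 x
      obtain ⟨i, v, hv, rfl⟩ := htopd x
      rw [map_mul, map_zpow]
      exact (((hc2d.zpow_right i)).mul_right (hcomm _ (pow_mem_phi hc2E') v hv)).symm.eq
    haveI : (zpowers (π (c2 ^ p))).Normal := ⟨fun a ha b => by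
      rw [mem_center_iff.1 (zpowers_le.2 hcenter ha) b, mul_inv_cancel_right]; exact ha⟩
    set N := (zpowers (π (c2 ^ p))).comap π with hNdef
    haveI : N.Normal := inferInstance
    set ν := QuotientGroup.mk' N with hνdef
    have hν1 : ∀ {x}, x ∈ N → ν x = 1 := fun {x} hx => (QuotientGroup.eq_one_iff x).2 hx
    have hνπ : ∀ {x y}, π x = π y → ν x = ν y := fun {x y} h => by
      refine QuotientGroup.eq.2 ?_
      show π (x⁻¹ * y) ∈ zpowers (π (c2 ^ p))
      rw [map_mul, map_inv, h, inv_mul_cancel]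
      exact one_mem _
    set k := ν (c1 ^ p) with hkdef
    have hk1 : k ≠ 1 := by
      intro h
      have h' : π (c1 ^ p) ∈ zpowers (π (c2 ^ p)) := (QuotientGroup.eq_one_iff (N := N) (c1 ^ p)).1 h
      obtain ⟨i, hi⟩ := mem_zpowers_iff.1 h'
      have h2 : (c1 * c2 ^ (-i)) ^ p ∈ E1 := by
        refine hπ1' ?_
        rw [hpowE c1 hc1Q.1 _ (zpow_mem hc2E' _), ← hi, ← map_zpow, ← map_mul,
          show (c2 ^ (-i)) ^ p = (c2 ^ p) ^ (-i) by
            rw [← zpow_natCast, ← zpow_natCast, ← zpow_mul, ← zpow_mul, mul_comm],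
          ← zpow_add, add_neg_cancel, zpow_zero, map_one]
      have h3 := hinj _ (mul_mem hc1Q.1 (zpow_mem hc2E' _)) h2
      have h4 : cm c1 d ∈ phi p E := by
        have h5 : c1 = c1 * c2 ^ (-i) * c2 ^ i := by group
        rw [h5, cm_mul_left]
        refine mul_mem ?_ ?_
        · simpa using (inferInstance : (phi p E).Normal).conj_mem _ (cm_mem h3 d) (c2 ^ i)⁻¹
        · have hf : cm c2 d ∈ phi p E :=
            (block_shape hG hphi hblock hΦEQ inf_le_left hQE hdE he heQ).2.2.2.1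
          rw [← mk_cm_eq_one_iff, map_zpow]
          exact (mk_cm_eq_one_iff.2 hf).zpow_left i
      exact hc2E h4
    have hνpow : ∀ x (n : ℕ), ν (x ^ n) = ν x ^ n := fun x n => map_pow ν x n
    have hc2pN : c2 ^ p ∈ N := mem_zpowers (π (c2 ^ p))
    have hνE : ∀ z ∈ phi p E, ∀ v ∈ E, Commute (ν z) (ν v) := fun z hz v hv => by
      refine mk_cm_eq_one_iff.2 ?_
      show π (cm z v) ∈ zpowers (π (c2 ^ p))
      rw [hπ1 (cm_mem_layer hz hv)]
      exact one_mem _
    have hkd : Commute k (ν d) := by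
      have h := hconjp c1 c2 hc1Q.1 hc2E' hc1d
      have h2 : (ν d)⁻¹ * k * ν d = k := by
        rw [hkdef, ← map_inv, ← map_mul, ← map_mul]
        rw [← map_inv, ← map_mul, ← map_mul, ← map_mul] at h
        rw [hνπ h, map_mul, hν1 hc2pN, mul_one]
      exact inv_mul_eq_iff_eq_mul.1 ((mul_assoc _ _ _).symm.trans h2)
    have hKgen : ∀ m ∈ K, ν m ∈ zpowers k := by
      intro m hm
      set T := (zpowers (π (c2 ^ p)) ⊔ zpowers (π (c1 ^ p)) : Subgroup (G ⧸ E1))
      have hle : T ≤ K.map π := sup_le (zpowers_le.2 (mem_map_of_mem π (hKp c2 hc2Q)))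
        (zpowers_le.2 (mem_map_of_mem π (hKp c1 hc1Q)))
      have hTeq : T = K.map π := by
        refine eq_of_le_of_card_ge hle ?_
        rw [hKmap, pow_two]
        have h1 : p * Nat.card (zpowers (π (c2 ^ p))) ≤ Nat.card T :=
          mul_card_le_sup hGp fun h => hk1 ((QuotientGroup.eq_one_iff _).2 h)
        rwa [Nat.card_zpowers, orderOf_eq_prime (by rw [← map_pow]; exact hπ1 (pow_mem_layer (pow_mem_phi hc2E')))
          (fun h => hc2E (hinj _ hc2E' (hπ1' h)))] at h1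
      have hm' : π m ∈ T := hTeq.ge (mem_map_of_mem π hm)
      obtain ⟨_, ⟨i, rfl⟩, _, ⟨j, rfl⟩, hij⟩ := mem_sup_of_normal_left.1 hm'
      refine mem_zpowers_iff.2 ⟨j, ?_⟩
      simp only [← map_zpow, ← map_mul] at hij
      rw [← hνπ hij, map_mul, map_zpow, map_zpow, hν1 hc2pN, one_zpow, one_mul]
    have hkc : ∀ x, Commute k (ν x) := fun x => by
      obtain ⟨i, v, hv, rfl⟩ := htopd x
      rw [map_mul, map_zpow]
      exact (hkd.zpow_right i).mul_right (hνE _ (pow_mem_phi hc1Q.1) v hv)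
    have hKcent : ∀ m ∈ K, ∀ x, Commute (ν m) (ν x) := fun m hm x => by
      obtain ⟨i, hi⟩ := mem_zpowers_iff.1 (hKgen m hm)
      rw [← hi]
      exact (hkc x).zpow_left i
    have hkp : k ^ p = 1 := by
      rw [hkdef, ← map_pow]
      exact hν1 (show π ((c1 ^ p) ^ p) ∈ zpowers (π (c2 ^ p)) by
        rw [hπ1 (pow_mem_layer (pow_mem_phi hc1Q.1))]; exact one_mem _)
    -- the third maximal subgroup
    have hQD2 : Q ≤ D2 := by
      have hcm : ∀ x g, cm x g ∈ D2 := fun x g =>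
        cm_mem_of_relIndex hG (by rw [relIndex_top_right, hD2i]) (mem_top x) g
      rw [hQgen]
      exact sup_le (sup_le (phi_le_of_index hG hD2i) (zpowers_le.2 (hcm e d))) (zpowers_le.2 (hcm c1 d))
    have hQi : Q.index = p * p := by
      rw [← relIndex_mul_index (inf_le_left : Q ≤ E), hQE, hidx]
    have hQD2i : Q.relIndex D2 = p := by
      have h1 := relIndex_mul_index hQD2
      rw [hQi, hD2i] at h1
      exact Nat.eq_of_mul_eq_mul_right hpp.pos h1
    set ρ := QuotientGroup.mk' Q with hρdef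
    have hρp : ∀ x, (ρ x) ^ p = 1 := fun x => by
      rw [← map_pow]
      exact (QuotientGroup.eq_one_iff _).2 ⟨pow_mem_of_relIndex hG (by rw [relIndex_top_right, hidx]) (mem_top x),
        pow_mem_of_relIndex hG (by rw [relIndex_top_right, hDi]) (mem_top x)⟩
    have hρc : ∀ x y, Commute (ρ x) (ρ y) := fun x y => mk_cm_eq_one_iff.2
      ⟨cm_mem_of_relIndex hG (by rw [relIndex_top_right, hidx]) (mem_top x) y,
        cm_mem_of_relIndex hG (by rw [relIndex_top_right, hDi]) (mem_top x) y⟩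
    obtain ⟨n, hn, hgD2⟩ : ∃ n : ℕ, ¬ p ∣ n ∧ e * d ^ n ∈ D2 := by
      obtain ⟨g, hg, hgD⟩ := SetLike.not_le_iff_exists.1 (hnle hD2i hDi hDD2.symm)
      obtain ⟨i, v, hv, hgv⟩ := htopd g
      obtain ⟨j, q, hq, hvq⟩ := hdec v hv
      have hj0 : ¬ (p : ℤ) ∣ j := by
        rintro ⟨c, rfl⟩
        refine hgD ?_
        rw [hgv, hvq, zpow_mul, zpow_natCast]
        exact mul_mem (zpow_mem hd i)
          (mul_mem (zpow_mem (pow_mem_of_relIndex hG (by rw [relIndex_top_right, hDi]) (mem_top e)) c) hq.2)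
      obtain ⟨j', hj'⟩ := RankTwoResistant.exists_inverse hj0
      obtain ⟨n, hn⟩ := zpow_natMod (hρp d) (i * j')
      have hρg : ρ (g ^ j') = ρ (e * d ^ n) := by
        rw [hgv, hvq, map_zpow, map_mul, map_mul, map_zpow, map_zpow,
          show ρ q = 1 from (QuotientGroup.eq_one_iff q).2 hq, mul_one,
          ((hρc d e).zpow_zpow i j).mul_zpow, ← zpow_mul, ← zpow_mul,
          RankTwoResistant.zpow_eq_of_dvd (hρp e) (j := 1) hj', zpow_one, hn,
          ((hρc d e).pow_left n).eq, map_mul, map_pow]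
      have hmem : e * d ^ n ∈ D2 := by
        have h1 : ρ (e * d ^ n) ∈ D2.map ρ := hρg ▸ mem_map_of_mem ρ (zpow_mem hg j')
        exact (mem_map_mk hQD2).1 h1
      refine ⟨n, fun hd' => ?_, hmem⟩
      obtain ⟨c, rfl⟩ := hd'
      have hde : e ∈ D2 := by
        have h2 : d ^ (p * c) ∈ D2 := by
          rw [pow_mul]
          exact pow_mem (pow_mem_of_relIndex hG (by rw [relIndex_top_right, hD2i]) (mem_top d)) c
        have := mul_mem hmem (inv_mem h2)
        rwa [mul_inv_cancel_right] at this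
      refine hnle hidx hD2i hED2 fun x hx => ?_
      obtain ⟨i, q, hq, rfl⟩ := hdec x hx
      exact mul_mem (zpow_mem hde i) (hQD2 hq)
    have hKD2 : K ≤ phi p D2 := by
      have hi : (K ⊓ phi p D2).relIndex Q ≤ p ^ 3 := relIndex_le hsr
        (fun a ha b hb => ⟨hKc a ha b hb, cm_mem_phi (hQD2 ha) (hQD2 hb)⟩)
        (fun a ha => ⟨hKp a ha, pow_mem_phi (hQD2 ha)⟩)
      have h1 := relIndex_mul_relIndex _ _ _ (inf_le_left : K ⊓ phi p D2 ≤ K) ((inf_le_left : K ≤ _).trans hΦEQ)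
      rw [hKQ3] at h1
      rw [← h1] at hi
      have h2 : (K ⊓ phi p D2).relIndex K ≤ 1 := Nat.le_of_mul_le_mul_right
        (by rwa [one_mul]) (pow_pos hpp.pos 3)
      have h3 : (K ⊓ phi p D2).relIndex K = 1 :=
        le_antisymm h2 (Nat.pos_of_ne_zero index_ne_zero_of_finite)
      exact (relIndex_eq_one.1 h3).trans inf_le_right
    have hKD2i : K.relIndex (phi p D2) = p := by
      have h1 : (phi p D2).relIndex Q = p ^ 2 := by
        have hle : phi p D2 ≤ Q := le_inf (phi_le_of_index hG hidx) (phi_le_of_index hG hDi)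
        have h2 := relIndex_mul_relIndex _ _ _ hle hQD2
        rw [hphiD2, hQD2i, pow_succ p 2] at h2
        exact Nat.eq_of_mul_eq_mul_right hpp.pos h2
      have h3 := relIndex_mul_relIndex _ _ _ hKD2
        (le_inf (phi_le_of_index hG hidx) (phi_le_of_index hG hDi) : phi p D2 ≤ Q)
      rw [h1, hKQ3, pow_succ' p 2] at h3
      exact Nat.eq_of_mul_eq_mul_right (pow_pos hpp.pos 2) h3
    -- computations modulo `K`
    set κ := QuotientGroup.mk' K with hκdef
    have hκ1 : ∀ {x}, x ∈ K → κ x = 1 := fun {x} hx => (QuotientGroup.eq_one_iff x).2 hx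
    have hκE : ∀ z ∈ phi p E, ∀ x, Commute (κ z) x := fun z hz x => by
      obtain ⟨x, rfl⟩ := QuotientGroup.mk'_surjective K x
      exact mk_cm_eq_one_iff.2 (cm_mem_of_relIndex hG hKE hz x)
    have hκD : ∀ z ∈ phi p D, ∀ x, Commute (κ z) x := fun z hz x => by
      obtain ⟨x, rfl⟩ := QuotientGroup.mk'_surjective K x
      exact mk_cm_eq_one_iff.2 (cm_mem_of_relIndex hG hKD hz x)
    have hκQ : ∀ x ∈ Q, κ x ^ p = 1 := fun x hx => by rw [← map_pow]; exact hκ1 (hKp x hx)
    have hindep : ∀ A B : ℤ, κ z1 ^ A = κ c2 ^ B → (p : ℤ) ∣ A := by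
      intro A B h
      by_contra hA
      obtain ⟨A', hA'⟩ := RankTwoResistant.exists_inverse hA
      have h1 : κ z1 = κ (c2 ^ (B * A')) := by
        rw [map_zpow, zpow_mul, ← h, ← zpow_mul,
          RankTwoResistant.zpow_eq_of_dvd (hκQ z1 (hΦEQ hz1E)) (j := 1) hA', zpow_one]
      have h2 : z1⁻¹ * c2 ^ (B * A') ∈ K := QuotientGroup.eq.1 h1
      refine hz1D ?_
      have := mul_mem (zpow_mem hc2D (B * A')) (inv_mem h2.2)
      rwa [mul_inv_rev, inv_inv, mul_inv_cancel_left] at this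
    have hpowg : κ ((e * d ^ n) ^ p) = κ (e ^ p) * κ (d ^ p) ^ n := by
      rw [show κ (d ^ p) ^ n = κ (d ^ n) ^ p by rw [map_pow, map_pow, ← pow_mul, ← pow_mul, mul_comm],
        map_pow κ (e * d ^ n), map_mul, map_pow κ e]
      have hcQ : cm (d ^ n) e ∈ Q := ⟨cm_mem' _ he, cm_mem (pow_mem hd n) e⟩
      refine mul_pow_class_three_eq hpp h5 (c := κ (cm (d ^ n) e))
        (u := κ (cm (cm (d ^ n) e) e)) (v := κ (cm (cm (d ^ n) e) (d ^ n))) ?_ ?_ ?_ ?_ ?_ ?_ ?_ ?_
      · rw [map_cm, map_pow]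
      · rw [map_cm]
      · rw [map_cm, map_pow]
      · exact hκE _ (cm_mem_phi hcQ.1 he)
      · exact hκD _ (cm_mem_phi hcQ.2 (pow_mem hd n))
      · exact hκQ _ hcQ
      · exact hκQ _ (hΦEQ (cm_mem_phi hcQ.1 he))
      · exact hκQ _ (hΦDQ (cm_mem_phi hcQ.2 (pow_mem hd n)))
    have hcmg : κ (cm c1 (e * d ^ n)) = κ c2 ^ n * κ z1 := by
      rw [cm_mul_right, map_mul, map_mul, map_mul, map_inv, mul_assoc (κ (d ^ n))⁻¹,
        (hκE z1 hz1E (κ (d ^ n))).eq, inv_mul_cancel_left]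
      congr 1
      have h := cm_pow_right (a := κ c1) (b := κ d) (by
        rw [← map_cm]; exact hκD c2 hc2D _) (n : ℤ)
      rw [zpow_natCast, zpow_natCast] at h
      rw [map_cm, map_pow, h, ← map_cm]
    have hcgK : cm c1 (e * d ^ n) ∉ K := by
      intro h
      have h1 := hκ1 h
      rw [hcmg, mul_eq_one_iff_inv_eq] at h1
      have h2 := hindep 1 (-(n : ℤ)) (by rw [zpow_one, ← h1, zpow_neg, zpow_natCast])
      exact hpp.ne_one (Nat.dvd_one.1 (by exact_mod_cast h2))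
    obtain ⟨m, hm⟩ := exists_zpow_of_relIndex hG hKD2i (cm_mem_phi (hQD2 hc1Q) hgD2) hcgK
      (pow_mem_phi hgD2 : (e * d ^ n) ^ p ∈ phi p D2)
    obtain ⟨b, hb⟩ := exists_zpow_of_relIndex hG hKE hz1E (fun h => hz1D h.2)
      (pow_mem_phi he : e ^ p ∈ phi p E)
    obtain ⟨b2, hb2⟩ := exists_zpow_of_relIndex hG hKD hc2D (fun h => hc2E h.1)
      (pow_mem_phi hd : d ^ p ∈ phi p D)
    rw [← hκdef] at hm hb hb2
    rw [hpowg, hb, hb2, hcmg, ((hκD c2 hc2D _).pow_left n).mul_zpow] at hm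
    have hbm : κ z1 ^ (b - m) = κ c2 ^ (((n : ℤ) * m) - (n : ℤ) * b2) := by
      rw [← zpow_natCast, ← zpow_natCast, ← zpow_mul, ← zpow_mul, mul_comm b2,
        ((hκD c2 hc2D (κ z1)).zpow_zpow _ _).eq] at hm
      rw [zpow_sub, sub_eq_add_neg, add_comm, zpow_add, zpow_neg]
      calc κ z1 ^ b * (κ z1 ^ m)⁻¹
          = κ z1 ^ b * κ c2 ^ ((n : ℤ) * b2) * (κ c2 ^ ((n : ℤ) * b2))⁻¹ * (κ z1 ^ m)⁻¹ := by group
        _ = κ z1 ^ m * κ c2 ^ ((n : ℤ) * m) * (κ c2 ^ ((n : ℤ) * b2))⁻¹ * (κ z1 ^ m)⁻¹ := by rw [hm]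
        _ = κ z1 ^ m * (κ c2 ^ (-((n : ℤ) * b2) + (n : ℤ) * m)) * (κ z1 ^ m)⁻¹ := by group
        _ = _ := by
            rw [((hκD c2 hc2D (κ z1)).zpow_zpow _ _).symm.eq, mul_inv_cancel_right, zpow_add, zpow_neg]
    have hbm' : (p : ℤ) ∣ b - m := hindep _ _ hbm
    have hb2b : (p : ℤ) ∣ b2 - b := by
      rw [RankTwoResistant.zpow_eq_of_dvd (hκQ z1 (hΦEQ hz1E)) (i := b - m) (j := 0)
        (by simpa using hbm'), zpow_zero] at hbm
      have h1 := RankTwoResistant.dvd_of_zpow_eq (hκQ c2 hc2Q)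
        (fun h => hc2E ((QuotientGroup.eq_one_iff _).1 h).1)
        (i := (n : ℤ) * m - (n : ℤ) * b2) (j := 0) (by rw [zpow_zero]; exact hbm.symm)
      rw [sub_zero, ← mul_sub] at h1
      rcases (Nat.prime_iff_prime_int.1 hpp).dvd_or_dvd h1 with h2 | h2
      · exact absurd (by exact_mod_cast h2) hn
      · rw [show b2 - b = -(m - b2) - (b - m) by ring]
        exact dvd_sub h2.neg_right hbm'
    have hb0 : ¬ (p : ℤ) ∣ b := fun h => heK ((QuotientGroup.eq_one_iff _).1 (by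
      show κ (e ^ p) = 1
      rw [hb, RankTwoResistant.zpow_eq_of_dvd (hκQ z1 (hΦEQ hz1E)) (j := 0) (by simpa using h), zpow_zero]))
    obtain ⟨a, ha⟩ := RankTwoResistant.exists_inverse hb0
    obtain ⟨m1, hm1K, hm1⟩ : ∃ m1 ∈ K, z1 = (e ^ p) ^ a * m1 := by
      refine ⟨((e ^ p) ^ a)⁻¹ * z1, QuotientGroup.eq.1 ?_, (mul_inv_cancel_left _ _).symm⟩
      show κ ((e ^ p) ^ a) = κ z1
      rw [map_zpow, hb, ← zpow_mul, RankTwoResistant.zpow_eq_of_dvd (hκQ z1 (hΦEQ hz1E)) (j := 1) ha,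
        zpow_one]
    obtain ⟨m2, hm2K, hm2⟩ : ∃ m2 ∈ K, c2 = (d ^ p) ^ a * m2 := by
      refine ⟨((d ^ p) ^ a)⁻¹ * c2, QuotientGroup.eq.1 ?_, (mul_inv_cancel_left _ _).symm⟩
      show κ ((d ^ p) ^ a) = κ c2
      rw [map_zpow, hb2, ← zpow_mul, RankTwoResistant.zpow_eq_of_dvd (hκQ c2 hc2Q) (j := 1) ?_, zpow_one]
      rw [show b2 * a - 1 = (b2 - b) * a + (b * a - 1) by ring]
      exact dvd_add (hb2b.mul_right a) ha
    -- computations modulo `N`
    set r := ν (cm c2 e) with hrdef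
    set w := ν (cm c2 c1) with hwdef
    have hc2dN : Commute (ν c2) (ν d) := by
      rw [hm2, map_mul, map_zpow, map_pow]
      exact (((Commute.refl (ν d)).pow_left p).zpow_left a).mul_left (hKcent m2 hm2K d)
    have hed' : (ν d)⁻¹ * ν e * ν d = ν e * ν c1 := by rw [← map_inv, ← map_mul, ← map_mul, hed, map_mul]
    have hc1d' : (ν d)⁻¹ * ν c1 * ν d = ν c1 * ν c2 := by rw [← map_inv, ← map_mul, ← map_mul, hc1d, map_mul]
    have hconj : ∀ x y, (ν d)⁻¹ * cm x y * ν d = cm ((ν d)⁻¹ * x * ν d) ((ν d)⁻¹ * y * ν d) := by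
      intro x y; simp only [cm_def]; group
    have hrK : cm c2 e ∈ K := ⟨cm_mem_phi hc2E' he, cm_mem hc2D e⟩
    have hrc : ∀ x, Commute r (ν x) := hKcent _ hrK
    have hc2d' : (ν d)⁻¹ * ν c2 * ν d = ν c2 := by rw [mul_assoc, hc2dN.eq, inv_mul_cancel_left]
    have hw : w = 1 := by
      have h1 : (ν d)⁻¹ * r * ν d = r := by rw [mul_assoc, (hrc d).eq, inv_mul_cancel_left]
      rw [hrdef, map_cm, hconj, hc2d', hed', cm_mul_right, ← map_cm, ← map_cm, ← hrdef, ← hwdef,
        mul_assoc (ν c1)⁻¹, (hrc c1).eq, inv_mul_cancel_left, mul_eq_right] at h1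
      exact h1
    have hr : r = k ^ a := by
      have h1 : (ν d)⁻¹ * ν z1 * ν d = ν z1 * k ^ a := by
        rw [hm1, map_mul, map_zpow]
        have h2 : (ν d)⁻¹ * ν (e ^ p) * ν d = ν (e ^ p) * k := by
          have h3 := hconjp e c1 he hc1Q.1 hed
          rw [← map_inv, ← map_mul, ← map_mul, ← map_mul] at h3
          rw [hkdef, ← map_inv, ← map_mul, ← map_mul, ← map_mul]
          exact hνπ h3
        calc (ν d)⁻¹ * (ν (e ^ p) ^ a * ν m1) * ν d
            = ((ν d)⁻¹ * ν (e ^ p) * ((ν d)⁻¹)⁻¹) ^ a * ((ν d)⁻¹ * ν m1 * ν d) := by rw [conj_zpow]; group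
          _ = (ν (e ^ p) * k) ^ a * ν m1 := by
              rw [inv_inv, h2, mul_assoc (ν d)⁻¹, (hKcent m1 hm1K d).eq, inv_mul_cancel_left]
          _ = _ := by
              rw [(hkc (e ^ p)).symm.mul_zpow, mul_assoc (ν (e ^ p) ^ a),
                ((hKcent m1 hm1K (c1 ^ p)).zpow_right a).symm.eq, mul_assoc]
      rw [hz1def, map_cm, hconj, hc1d', hed', cm_mul_right, cm_mul_left, cm_mul_left, cm_self,
        ← map_cm, ← map_cm, ← map_cm, ← hz1def, ← hrdef, ← hwdef, hw] at h1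
      simp only [mul_one, inv_mul_cancel, one_mul] at h1
      rw [mul_assoc (ν c2)⁻¹,
        (hνE z1 hz1E c2 hc2E').eq, inv_mul_cancel_left, mul_assoc (ν c1)⁻¹,
        ((hνE z1 hz1E c1 hc1Q.1).mul_left (hrc c1)).eq, inv_mul_cancel_left] at h1
      exact mul_left_cancel h1
    have hc12 : Commute (ν c2) (ν c1) := cm_eq_one_iff.1 (by rw [← map_cm]; exact hw)
    have hiter : ∀ n : ℕ, (ν d ^ n)⁻¹ * ν e * ν d ^ n = ν e * ν c1 ^ n * ν c2 ^ n.choose 2 := by
      intro n
      induction n with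
      | zero => simp
      | succ n ih =>
        calc (ν d ^ (n + 1))⁻¹ * ν e * ν d ^ (n + 1)
            = (ν d)⁻¹ * ((ν d ^ n)⁻¹ * ν e * ν d ^ n) * ν d := by rw [pow_succ]; group
          _ = ((ν d)⁻¹ * ν e * ν d) * ((ν d)⁻¹ * ν c1 ^ n * ((ν d)⁻¹)⁻¹) *
                ((ν d)⁻¹ * ν c2 ^ n.choose 2 * ν d) := by rw [ih]; group
          _ = ν e * ν c1 * (ν c1 * ν c2) ^ n * ν c2 ^ n.choose 2 := by
              rw [← conj_pow, inv_inv, hed', hc1d', mul_assoc (ν d)⁻¹, (hc2dN.pow_left _).eq,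
                inv_mul_cancel_left]
          _ = _ := by
              rw [hc12.symm.mul_pow, show (n + 1).choose 2 = n + n.choose 2 by
                rw [Nat.choose_succ_succ' n 1, Nat.choose_one_right], pow_succ' (ν c1) n, pow_add]
              simp only [mul_assoc]
    have hed2 : cm (ν e) (ν d ^ p) = k := by
      obtain ⟨j, hj⟩ : p ∣ p.choose 2 := hpp.dvd_choose_self (by norm_num) (by omega)
      have h := hiter p
      rw [hj, pow_mul, ← hνpow c2, hν1 hc2pN, one_pow, mul_one, ← hνpow c1, ← hkdef,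
        conj_eq_mul_cm] at h
      exact mul_left_cancel h
    have hecr : r = (k ^ a)⁻¹ := by
      rw [hrdef, map_cm, cm_swap (ν e) (ν c2), inv_inj, hm2, map_mul, map_zpow, cm_mul_right,
        cm_eq_one_iff.2 (hKcent m2 hm2K e).symm, one_mul, map_pow,
        cm_pow_right (by rw [hed2, ← map_pow]; exact hkc (d ^ p)) a, hed2, mul_assoc,
        ((hkc m2).zpow_left a).eq, inv_mul_cancel_left]
    refine hk1 ?_
    have h2a : k ^ (2 * a) = 1 := by
      rw [two_mul, zpow_add]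
      nth_rw 1 [← hr]
      rw [hecr, inv_mul_cancel]
    have hnd : ¬ (p : ℤ) ∣ 2 * a := by
      intro h
      rcases (Nat.prime_iff_prime_int.1 hpp).dvd_or_dvd h with h2 | h2
      · have : p ∣ 2 := by exact_mod_cast h2
        exact hp2 ((Nat.prime_dvd_prime_iff_eq hpp Nat.prime_two).1 this)
      · have h3 : (p : ℤ) ∣ 1 := by
          rw [show (1 : ℤ) = b * a - (b * a - 1) by ring]
          exact dvd_sub (h2.mul_left b) ha
        exact hpp.ne_one (Nat.dvd_one.1 (by exact_mod_cast h3))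
    obtain ⟨t, ht⟩ := RankTwoResistant.exists_inverse hnd
    rw [← zpow_one k, ← RankTwoResistant.zpow_eq_of_dvd hkp (i := 2 * a * t) (j := 1) ht, zpow_mul, h2a,
      one_zpow]

end Cfsg.Agent.Fusion.RankThree
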