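import Cfsg.Agent.Lib.Fusion.RankThree.Tower
import Cfsg.Agent.Lib.Fusion.RankThree.CaseA

/-!
The transvection case: the Frattini subgroup of `E` is characteristic in the normalizer of `E`.
-/

set_option autoImplicit false
set_option linter.unusedSectionVars false
set_option linter.style.haveILetI false

namespace Cfsg.Agent.Fusion.RankThree

open Subgroup

variable {G : Type*} [Group G]

/-- The subgroup generated by `p`-th powers and triple commutators. -/
def nTop (p : ℕ) (G : Type*) [Group G] : Subgroup G :=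
  closure (Set.range (fun g : G => g ^ p) ∪ {z | ∃ a b g : G, z = cm (cm a b) g})

theorem nTop_map_le {p : ℕ} {H : Type*} [Group H] (φ : G →* H) : (nTop p G).map φ ≤ nTop p H := by
  rw [nTop, MonoidHom.map_closure, closure_le]
  rintro _ ⟨z, ⟨g, rfl⟩ | ⟨a, b, g, rfl⟩, rfl⟩
  · exact subset_closure (Or.inl ⟨φ g, (map_pow φ g p).symm⟩)
  · exact subset_closure (Or.inr ⟨φ a, φ b, φ g, by rw [map_cm, map_cm]⟩)

instance nTop_normal {p : ℕ} : (nTop p G).Normal :=
  ⟨fun a ha g => nTop_map_le (MulAut.conj g).toMonoidHom (mem_map_of_mem _ ha)⟩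

/-- A transvection with an opposite automorphism and a torus. -/
structure BData (p : ℕ) (E : Subgroup G) [(phi p E).Normal] (δ : G →* G) (β : MulAut E)
    (x e c f : G) (s t : ℤ) : Prop where
  x_notMem : x ∉ E
  e_mem : e ∈ E
  c_mem : c ∈ E
  f_mem : f ∈ E
  c_eq : c = cm e x
  cx : cm c x ∈ phi p E
  fx : cm f x ∈ phi p E
  gen : ∀ v ∈ E, ∃ A B C : ℤ, QuotientGroup.mk' (phi p E) v = QuotientGroup.mk' (phi p E) (e ^ A * c ^ B * f ^ C)
  uniq : ∀ A B C : ℤ, e ^ A * c ^ B * f ^ C ∈ phi p E → (p : ℤ) ∣ A ∧ (p : ℤ) ∣ B ∧ (p : ℤ) ∣ C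
  δE : ∀ v ∈ E, δ v ∈ E
  δe : (e ^ s)⁻¹ * δ e ∈ phi p E
  δc : (c ^ t)⁻¹ * δ c ∈ phi p E
  δf : f⁻¹ * δ f ∈ phi p E
  δx : (x ^ (t ^ 2))⁻¹ * δ x ∈ E
  βe : e⁻¹ * (β ⟨e, e_mem⟩ : E) ∈ phi p E
  βc : (c * e)⁻¹ * (β ⟨c, c_mem⟩ : E) ∈ phi p E
  βf : f⁻¹ * (β ⟨f, f_mem⟩ : E) ∈ phi p E

variable [Finite G] {p : ℕ} [hp : Fact p.Prime] {E : Subgroup G} [hEn : E.Normal]
  [hΦ : (phi p E).Normal] {δ : G →* G} {β : MulAut E} {x e c f : G} {s t : ℤ}

omit [Finite G] hp hEn in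
theorem mk_eq_of_mem {N : Subgroup G} [N.Normal] {a b : G} (h : a⁻¹ * b ∈ N) :
    QuotientGroup.mk' N b = QuotientGroup.mk' N a :=
  (QuotientGroup.eq.2 h).symm

set_option maxHeartbeats 1600000 in
/-- The case of a transvection, first part. -/
theorem case_b (hG : IsPGroup p G) (h5 : 5 ≤ p) (hsr : Cfsg.SectionalPRankLE p 3 G) (hidx : E.index = p)
    (hst : (p : ℤ) ∣ s * t - 1) (ht2 : ¬ (p : ℤ) ∣ t ^ 2 - 1) (ht3 : ¬ (p : ℤ) ∣ t ^ 3 - 1)
    (h : BData p E δ β x e c f s t) :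
    phi p E = nTop p G ∧ ∃ (x' : G) (i j : ℤ), x' ∉ E ∧
      Tower.Rel p (QuotientGroup.mk' (phi p E) x') (QuotientGroup.mk' (phi p E) e)
        (QuotientGroup.mk' (phi p E) c) (QuotientGroup.mk' (phi p E) f) ∧
      QuotientGroup.mk' (phi p E) (δ x') = QuotientGroup.mk' (phi p E) x' ^ (t ^ 2) *
        QuotientGroup.mk' (phi p E) c ^ i * QuotientGroup.mk' (phi p E) f ^ j := by
  have hpp := hp.out
  have hp2 : p ≠ 2 := by omega
  have hpi := Nat.prime_iff_prime_int.1 hpp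
  have hst' : ∀ {w : ℤ}, (p : ℤ) ∣ w * t → (p : ℤ) ∣ w := fun {w} hw => by
    have := dvd_sub (hw.mul_left s) (hst.mul_left w)
    rwa [show s * (w * t) - w * (s * t - 1) = w by ring] at this
  have ht1 : ¬ (p : ℤ) ∣ t - 1 := fun hd => ht2 (by
    rw [show t ^ 2 - 1 = (t - 1) * (t + 1) by ring]; exact hd.mul_right _)
  have hts : ¬ (p : ℤ) ∣ s - t := fun hd => ht2 (by
    rw [show t ^ 2 - 1 = -((s - t) * t) + (s * t - 1) by ring]; exact dvd_add (hd.mul_right t).neg_right hst)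
  have hs1 : ¬ (p : ℤ) ∣ s - 1 := fun hd => ht1 (by
    rw [show t - 1 = -((s - 1) * t) + (s * t - 1) by ring]; exact dvd_add (hd.mul_right t).neg_right hst)
  set π := QuotientGroup.mk' (phi p E) with hπdef
  have hπ1 : ∀ {v}, v ∈ phi p E → π v = 1 := fun {v} hv => (QuotientGroup.eq_one_iff v).2 hv
  have hπ1' : ∀ {v}, π v = 1 → v ∈ phi p E := fun {v} hv => (QuotientGroup.eq_one_iff v).1 hv
  -- `E / Φ` is elementary abelian
  have hEE : ∀ v ∈ E, ∀ w ∈ E, Commute (π v) (π w) := fun v hv w hw => mk_cm_eq_one_iff.2 (cm_mem_phi hv hw)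
  have hEp : ∀ v ∈ E, π v ^ p = 1 := fun v hv => by rw [← map_pow]; exact hπ1 (pow_mem_phi hv)
  have hidx' : E.relIndex ⊤ = p := by rw [relIndex_top_right, hidx]
  have hdecG : ∀ g : G, ∃ i : ℤ, ∃ v ∈ E, g = x ^ i * v := fun g => by
    obtain ⟨i, hi⟩ := exists_zpow_of_relIndex hG hidx' (mem_top x) h.x_notMem (mem_top g)
    refine ⟨i, (x ^ i)⁻¹ * g, QuotientGroup.eq.1 ?_, (mul_inv_cancel_left _ _).symm⟩
    rw [← QuotientGroup.mk'_apply, ← QuotientGroup.mk'_apply, hi, map_zpow]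
  have hdecE : ∀ v ∈ E, ∃ A B C : ℤ, π v = π e ^ A * π c ^ B * π f ^ C := fun v hv => by
    obtain ⟨A, B, C, hv'⟩ := h.gen v hv
    exact ⟨A, B, C, by rw [hv', map_mul, map_mul, map_zpow, map_zpow, map_zpow]⟩
  have huniq : ∀ A B C : ℤ, π e ^ A * π c ^ B * π f ^ C = 1 →
      (p : ℤ) ∣ A ∧ (p : ℤ) ∣ B ∧ (p : ℤ) ∣ C := fun A B C h1 => by
    refine h.uniq A B C (hπ1' ?_)
    rw [map_mul, map_mul, map_zpow, map_zpow, map_zpow, h1]
  have hπcx : Commute (π c) (π x) := mk_cm_eq_one_iff.2 h.cx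
  have hπfx : Commute (π f) (π x) := mk_cm_eq_one_iff.2 h.fx
  have hπex : (π x)⁻¹ * π e * π x = π e * π c := by
    rw [← map_inv, ← map_mul, ← map_mul, conj_eq_mul_cm, ← h.c_eq, map_mul]
  have hcent : ∀ z, z ∈ E → Commute (π z) (π x) → ∀ g, Commute (π z) (π g) := by
    intro z hz hzx g
    obtain ⟨i, v, hv, rfl⟩ := hdecG g
    rw [map_mul, map_zpow]
    exact (hzx.zpow_right i).mul_right (hEE z hz v hv)
  have hccent : ∀ g, Commute (π c) g := fun g => by
    obtain ⟨g, rfl⟩ := QuotientGroup.mk'_surjective _ g; exact hcent c h.c_mem hπcx g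
  haveI : (zpowers (π c)).Normal := ⟨fun a ha b => by
    obtain ⟨i, rfl⟩ := mem_zpowers_iff.1 ha
    rw [((hccent b).zpow_left i).symm.eq, mul_inv_cancel_right]; exact zpow_mem (mem_zpowers _) i⟩
  set C := (zpowers (π c)).comap π with hCdef
  haveI : C.Normal := inferInstance
  set ρ := QuotientGroup.mk' C with hρdef
  have hΦC : ∀ {z}, z ∈ phi p E → z ∈ C := fun {z} hz => by
    show π z ∈ zpowers (π c)
    rw [hπ1 hz]; exact one_mem _
  have hρab : ∀ a b, Commute (ρ a) (ρ b) := by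
    have hx : ∀ v ∈ E, Commute (ρ v) (ρ x) := by
      intro v hv
      obtain ⟨A, B, C', hv'⟩ := h.gen v hv
      have hve : ρ v = ρ (e ^ A * c ^ B * f ^ C') :=
        QuotientGroup.eq.2 (hΦC (QuotientGroup.eq.1 hv'))
      rw [hve, map_mul, map_mul, map_zpow, map_zpow, map_zpow]
      refine (((mk_cm_eq_one_iff.2 ?_).zpow_left A).mul_left ((mk_cm_eq_one_iff.2 (hΦC h.cx)).zpow_left B)).mul_left
        ((mk_cm_eq_one_iff.2 (hΦC h.fx)).zpow_left C')
      show π (cm e x) ∈ zpowers (π c)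
      rw [← h.c_eq]; exact mem_zpowers _
    have hE' : ∀ v ∈ E, ∀ w ∈ E, Commute (ρ v) (ρ w) := fun v hv w hw =>
      mk_cm_eq_one_iff.2 (hΦC (cm_mem_phi hv hw))
    intro a b
    obtain ⟨i, v, hv, rfl⟩ := hdecG a
    obtain ⟨j, w, hw, rfl⟩ := hdecG b
    rw [map_mul, map_mul, map_zpow, map_zpow]
    exact (((Commute.refl (ρ x)).zpow_zpow i j).mul_right ((hx w hw).symm.zpow_left i)).mul_left
      (((hx v hv).zpow_right j).mul_right (hE' v hv w hw))
  have hcmC : ∀ a b, π (cm a b) ∈ zpowers (π c) := fun a b => mk_cm_eq_one_iff.1 (hρab a b)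
  have hclass : ∀ a b g, Commute (π (cm a b)) g := fun a b g => by
    obtain ⟨i, hi⟩ := mem_zpowers_iff.1 (hcmC a b)
    rw [← hi]; exact (hccent g).zpow_left i
  have hcmp : ∀ a b, π (cm a b) ^ p = 1 := fun a b => by
    obtain ⟨i, hi⟩ := mem_zpowers_iff.1 (hcmC a b)
    rw [← hi, ← zpow_natCast, ← zpow_mul, mul_comm, zpow_mul, zpow_natCast, hEp c h.c_mem, one_zpow]
  have hmulp : ∀ a b, π (a * b) ^ p = π a ^ p * π b ^ p := fun a b => by
    rw [map_mul]
    refine mul_pow_class_two_eq hpp hp2 ?_ ?_ ?_ <;> rw [← map_cm]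
    · exact hclass _ _ _
    · exact hclass _ _ _
    · exact hcmp _ _
  have hδΦ : ∀ {z}, z ∈ phi p E → δ z ∈ phi p E := fun {z} hz => by
    have h1 : δ z ∈ (phi p E).map δ := mem_map_of_mem δ hz
    rw [phi_map] at h1
    have hle : phi p (E.map δ) ≤ phi p E := phi_le_iff.2
      ⟨fun v hv => by obtain ⟨w, hw, rfl⟩ := hv; exact pow_mem_phi (h.δE w hw),
       fun u hu v hv => by
        obtain ⟨w, hw, rfl⟩ := hu; obtain ⟨w', hw', rfl⟩ := hv
        exact cm_mem_phi (h.δE w hw) (h.δE w' hw')⟩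
    exact hle h1
  have hδe : π (δ e) = π e ^ s := by rw [mk_eq_of_mem h.δe, map_zpow]
  have hδc : π (δ c) = π c ^ t := by rw [mk_eq_of_mem h.δc, map_zpow]
  have hδf : π (δ f) = π f := mk_eq_of_mem h.δf
  have hδE : ∀ {v : G} {A B C' : ℤ}, π v = π e ^ A * π c ^ B * π f ^ C' →
      π (δ v) = π e ^ (s * A) * π c ^ (t * B) * π f ^ C' := by
    intro v A B C' hv
    have h1 : (e ^ A * c ^ B * f ^ C')⁻¹ * v ∈ phi p E := by
      refine QuotientGroup.eq.1 ?_
      show π (e ^ A * c ^ B * f ^ C') = π v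
      rw [hv, map_mul, map_mul, map_zpow, map_zpow, map_zpow]
    have h2 := hδΦ h1
    rw [map_mul, map_inv] at h2
    rw [show π (δ v) = π (δ (e ^ A * c ^ B * f ^ C')) from (QuotientGroup.eq.2 h2).symm,
      map_mul δ, map_mul δ, map_zpow δ, map_zpow δ, map_zpow δ, map_mul π, map_mul π, map_zpow π, map_zpow π,
      map_zpow π, hδe, hδc, hδf, ← zpow_mul, ← zpow_mul]
  obtain ⟨v0, hv0E, hδx⟩ : ∃ v0 ∈ E, δ x = x ^ (t ^ 2) * v0 :=
    ⟨_, h.δx, (mul_inv_cancel_left _ _).symm⟩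
  have hxp : π x ^ p = 1 := by
    have hxpE : x ^ p ∈ E := pow_mem_of_relIndex hG hidx' (mem_top x)
    obtain ⟨A, B, C', hv⟩ := hdecE _ hxpE
    have hA : (p : ℤ) ∣ A := by
      have h1 : (π x)⁻¹ * π (x ^ p) * π x = π (x ^ p) := by
        rw [map_pow, mul_assoc, ← ((Commute.refl (π x)).pow_right p).eq, inv_mul_cancel_left]
      rw [hv] at h1
      have h2 : (π x)⁻¹ * (π e ^ A * π c ^ B * π f ^ C') * π x =
          π e ^ A * π c ^ (A + B) * π f ^ C' := by
        calc (π x)⁻¹ * (π e ^ A * π c ^ B * π f ^ C') * π x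
            = ((π x)⁻¹ * π e * ((π x)⁻¹)⁻¹) ^ A * ((π x)⁻¹ * π c * ((π x)⁻¹)⁻¹) ^ B *
              ((π x)⁻¹ * π f * ((π x)⁻¹)⁻¹) ^ C' := by rw [conj_zpow, conj_zpow, conj_zpow]; group
          _ = (π e * π c) ^ A * π c ^ B * π f ^ C' := by
              rw [inv_inv, hπex, mul_assoc (π x)⁻¹ (π c), hπcx.eq, inv_mul_cancel_left,
                mul_assoc (π x)⁻¹ (π f), hπfx.eq, inv_mul_cancel_left]
          _ = _ := by rw [(hEE e h.e_mem c h.c_mem).mul_zpow, zpow_add]; group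
      rw [h2] at h1
      have h3 := mul_left_cancel (mul_right_cancel h1)
      exact (huniq 0 A 0 (by
        rw [zpow_zero, one_mul, zpow_zero, mul_one]
        rw [zpow_add] at h3
        exact mul_eq_right.1 h3)).2.1
    have h1 : π (δ (x ^ p)) = π (x ^ p) ^ (t ^ 2) := by
      rw [map_pow δ, hδx, map_pow, hmulp, hEp v0 hv0E, mul_one, map_zpow, ← zpow_natCast, ← zpow_mul,
        mul_comm, zpow_mul, zpow_natCast, ← map_pow]
    rw [hδE hv, hv] at h1
    have hcomm3 : (π e ^ A * π c ^ B * π f ^ C') ^ (t ^ 2) =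
        π e ^ (A * t ^ 2) * π c ^ (B * t ^ 2) * π f ^ (C' * t ^ 2) := by
      rw [(((hEE e h.e_mem f h.f_mem).zpow_zpow A C').mul_left ((hEE c h.c_mem f h.f_mem).zpow_zpow B C')).mul_zpow,
        ((hEE e h.e_mem c h.c_mem).zpow_zpow A B).mul_zpow, ← zpow_mul, ← zpow_mul, ← zpow_mul]
    rw [hcomm3] at h1
    have h2 : π e ^ (A * t ^ 2 - s * A) * π c ^ (B * t ^ 2 - t * B) * π f ^ (C' * t ^ 2 - C') = 1 := by
      rw [zpow_sub, zpow_sub, zpow_sub]
      have e1 := (hEE e h.e_mem c h.c_mem)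
      have e2 := (hEE e h.e_mem f h.f_mem)
      have e3 := (hEE c h.c_mem f h.f_mem)
      calc π e ^ (A * t ^ 2) * (π e ^ (s * A))⁻¹ * (π c ^ (B * t ^ 2) * (π c ^ (t * B))⁻¹) *
            (π f ^ (C' * t ^ 2) * (π f ^ C')⁻¹)
          = π e ^ (A * t ^ 2) * ((π e ^ (s * A))⁻¹ * π c ^ (B * t ^ 2)) * ((π c ^ (t * B))⁻¹ *
            π f ^ (C' * t ^ 2)) * (π f ^ C')⁻¹ := by group
        _ = π e ^ (A * t ^ 2) * π c ^ (B * t ^ 2) * ((π e ^ (s * A))⁻¹ * π f ^ (C' * t ^ 2)) *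
            ((π c ^ (t * B))⁻¹ * (π f ^ C')⁻¹) := by
            rw [((e1.zpow_zpow (s * A) (B * t ^ 2)).inv_left).eq, ((e3.zpow_zpow (t * B) (C' * t ^ 2)).inv_left).eq]
            group
        _ = (π e ^ (A * t ^ 2) * π c ^ (B * t ^ 2) * π f ^ (C' * t ^ 2)) *
            ((π f ^ C')⁻¹ * (π c ^ (t * B))⁻¹ * (π e ^ (s * A))⁻¹) := by
            rw [((e2.zpow_zpow (s * A) (C' * t ^ 2)).inv_left).eq,
              mul_assoc (π f ^ C')⁻¹, ← (((e1.zpow_zpow (s * A) (t * B)).inv_left).inv_right).eq,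
              ← (((((e2.zpow_zpow (s * A) C').inv_left).inv_right)).mul_left
                (((e3.zpow_zpow (t * B) C').inv_left).inv_right)).eq]
            group
        _ = 1 := by rw [← h1]; group
    obtain ⟨-, hB, hC⟩ := huniq _ _ _ h2
    have hB' : (p : ℤ) ∣ B := by
      have h3 : (p : ℤ) ∣ B * (t - 1) * t := by
        rw [show B * (t - 1) * t = B * t ^ 2 - t * B by ring]; exact hB
      exact (hpi.dvd_or_dvd (hst' h3)).resolve_right ht1
    have hC' : (p : ℤ) ∣ C' := (hpi.dvd_or_dvd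
      (show (p : ℤ) ∣ C' * (t ^ 2 - 1) by rw [show C' * (t ^ 2 - 1) = C' * t ^ 2 - C' by ring]; exact hC)).resolve_right ht2
    rw [← map_pow, hv, RankTwoResistant.zpow_eq_of_dvd (hEp e h.e_mem) (j := 0) (by simpa using hA),
      RankTwoResistant.zpow_eq_of_dvd (hEp c h.c_mem) (j := 0) (by simpa using hB'),
      RankTwoResistant.zpow_eq_of_dvd (hEp f h.f_mem) (j := 0) (by simpa using hC')]
    simp
  have hallp : ∀ g, π g ^ p = 1 := fun g => by
    obtain ⟨i, v, hv, rfl⟩ := hdecG g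
    rw [hmulp, hEp v hv, mul_one, map_zpow, ← zpow_natCast, ← zpow_mul, mul_comm, zpow_mul, zpow_natCast,
      hxp, one_zpow]
  set N := nTop p G with hN
  have hNle : N ≤ phi p E := by
    rw [hN, nTop, closure_le]
    rintro _ (⟨g, rfl⟩ | ⟨a, b, g, rfl⟩)
    · exact hπ1' (by rw [map_pow, hallp])
    · exact mk_cm_eq_one_iff.1 (hclass a b (π g))
  have hpowN : ∀ g, g ^ p ∈ N := fun g => subset_closure (Or.inl ⟨g, rfl⟩)
  have htriN : ∀ a b g, cm (cm a b) g ∈ N := fun a b g => subset_closure (Or.inr ⟨a, b, g, rfl⟩)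
  haveI : N.Normal := nTop_normal
  set ν := QuotientGroup.mk' N with hνdef
  have hΦν : ∀ z ∈ phi p E, ∀ g, Commute (ν z) g := by
    intro z hz g
    have hle : phi p E ≤ (center (G ⧸ N)).comap ν := by
      refine phi_le_iff.2 ⟨fun v _ => ?_, fun u _ v _ => ?_⟩ <;> refine mem_center_iff.2 fun b => ?_
      · rw [show ν (v ^ p) = 1 from (QuotientGroup.eq_one_iff _).2 (hpowN v), mul_one, one_mul]
      · obtain ⟨b, rfl⟩ := QuotientGroup.mk'_surjective N b
        exact (mk_cm_eq_one_iff.2 (htriN u v b)).symm.eq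
    exact (mem_center_iff.1 (hle hz) g).symm
  have hE1N : layer p E ≤ N := layer_le_iff.2
    ⟨fun z hz v _ => mk_cm_eq_one_iff.1 (hΦν z hz (ν v)), fun z _ => hpowN z⟩
  -- the commutator of `e` and `f`
  have hef : cm e f ∈ N := by
    haveI : (layer p E).Normal := layer_normal
    set μ := QuotientGroup.mk' (layer p E) with hμdef
    have hμ1 : ∀ {v}, v ∈ layer p E → μ v = 1 := fun {v} hv => (QuotientGroup.eq_one_iff v).2 hv
    have hμ1' : ∀ {v}, μ v = 1 → v ∈ layer p E := fun {v} hv => (QuotientGroup.eq_one_iff v).1 hv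
    have hμcomm : ∀ z ∈ phi p E, ∀ v ∈ E, Commute (μ z) (μ v) := fun z hz v hv =>
      mk_cm_eq_one_iff.2 (cm_mem_layer hz hv)
    have hGμ : IsPGroup p (G ⧸ layer p E) := hG.to_quotient _
    set B0 := (phi p E).map μ with hB0
    have hB0e : Elem p B0 := elem_map_iff.2
      ⟨fun a ha b hb => cm_mem_layer ha (phi_le hb), fun a ha => pow_mem_layer ha⟩
    have hadd : ∀ a ∈ E, ∀ a' ∈ E, ∀ b ∈ E, μ (cm (a * a') b) = μ (cm a b) * μ (cm a' b) := by
      intro a ha a' ha' b hb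
      rw [cm_mul_left, map_mul, map_mul, map_mul, map_inv, mul_assoc (μ a')⁻¹,
        (hμcomm _ (cm_mem_phi ha hb) a' ha').eq, inv_mul_cancel_left]
    have hcongr : ∀ a ∈ E, ∀ a' ∈ E, ∀ b ∈ E, ∀ b' ∈ E, a⁻¹ * a' ∈ phi p E → b⁻¹ * b' ∈ phi p E →
        μ (cm a' b') = μ (cm a b) := by
      intro a ha a' ha' b hb b' hb' h1 h2
      have e1 : μ (cm a' b') = μ (cm a b') := by
        conv_lhs => rw [← mul_inv_cancel_left a a']
        rw [hadd a ha _ (phi_le h1) b' hb', hμ1 (cm_mem_layer h1 hb'), mul_one]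
      have e2 : μ (cm b' a) = μ (cm b a) := by
        conv_lhs => rw [← mul_inv_cancel_left b b']
        rw [hadd b hb _ (phi_le h2) a ha, hμ1 (cm_mem_layer h2 ha), mul_one]
      rw [e1, cm_swap b' a, map_inv, e2, ← map_inv, ← cm_swap]
    have hpw : ∀ a ∈ E, ∀ a' ∈ E, μ ((a * a') ^ p) = μ (a ^ p) * μ (a' ^ p) := by
      intro a ha a' ha'
      rw [map_pow, map_mul, map_pow, map_pow]
      refine mul_pow_class_two_eq hpp hp2 ?_ ?_ ?_ <;> rw [← map_cm]
      · exact hμcomm _ (cm_mem_phi ha' ha) a ha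
      · exact hμcomm _ (cm_mem_phi ha' ha) a' ha'
      · rw [← map_pow]; exact hμ1 (pow_mem_layer (cm_mem_phi ha' ha))
    have hpwc : ∀ a ∈ E, ∀ a' ∈ E, a⁻¹ * a' ∈ phi p E → μ (a' ^ p) = μ (a ^ p) := by
      intro a ha a' ha' h1
      conv_lhs => rw [← mul_inv_cancel_left a a']
      rw [hpw a ha _ (phi_le h1), hμ1 (pow_mem_layer h1), mul_one]
    have hpwz : ∀ a ∈ E, ∀ n : ℤ, μ ((a ^ n) ^ p) = μ (a ^ p) ^ n := fun a _ n => by
      rw [← map_zpow, ← zpow_natCast, ← zpow_natCast, ← zpow_mul, ← zpow_mul, mul_comm]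
    have hcmz : ∀ a ∈ E, ∀ b ∈ E, ∀ n : ℤ, μ (cm (a ^ n) b) = μ (cm a b) ^ n := fun a ha b hb n => by
      rw [map_cm, map_zpow, cm_pow_left (by rw [← map_cm]; exact hμcomm _ (cm_mem_phi ha hb) a ha) n, map_cm]
    -- the automorphisms on the layer
    have hδ1 : layer p E ≤ (layer p E).comap δ := by
      intro z hz
      have h1 : δ z ∈ (layer p E).map δ := mem_map_of_mem δ hz
      rw [layer_map] at h1
      refine (layer_le_iff.2 ⟨fun a ha v hv => ?_, fun a ha => ?_⟩ : layer p (E.map δ) ≤ layer p E) h1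
      · obtain ⟨w, hw, rfl⟩ := hv
        rw [← phi_map] at ha
        obtain ⟨a', ha', rfl⟩ := ha
        exact cm_mem_layer (hδΦ ha') (h.δE w hw)
      · rw [← phi_map] at ha
        obtain ⟨a', ha', rfl⟩ := ha
        exact pow_mem_layer (hδΦ ha')
    let δ1 : G ⧸ layer p E →* G ⧸ layer p E := QuotientGroup.map _ _ δ hδ1
    have hδ1a : ∀ v, δ1 (μ v) = μ (δ v) := fun v => rfl
    have htr : ∀ a b : E, μ (a : G) = μ (b : G) → μ ((β a : E) : G) = μ ((β b : E) : G) := by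
      intro a b hab
      refine QuotientGroup.eq.2 ?_
      have := inv_layer (p := p) E β (a⁻¹ * b) (QuotientGroup.eq.1 hab)
      rwa [map_mul, map_inv, coe_mul, coe_inv] at this
    set E2 := μ (cm e f) with hE2
    set C2 := μ (cm c f) with hC2
    set PE := μ (e ^ p) with hPE
    set PC := μ (c ^ p) with hPC
    have hem := h.e_mem
    have hcm := h.c_mem
    have hfm := h.f_mem
    have hE2B : E2 ∈ B0 := mem_map_of_mem μ (cm_mem_phi hem hfm)
    have hC2B : C2 ∈ B0 := mem_map_of_mem μ (cm_mem_phi hcm hfm)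
    have hPEB : PE ∈ B0 := mem_map_of_mem μ (pow_mem_phi hem)
    have hPCB : PC ∈ B0 := mem_map_of_mem μ (pow_mem_phi hcm)
    -- the torus
    have hδE2 : δ1 E2 = E2 ^ s := by
      rw [hE2, hδ1a, map_cm δ, hcongr (e ^ s) (zpow_mem hem s) (δ e) (h.δE e hem) f hfm (δ f) (h.δE f hfm)
        h.δe h.δf, hcmz e hem f hfm]
    have hδC2 : δ1 C2 = C2 ^ t := by
      rw [hC2, hδ1a, map_cm δ, hcongr (c ^ t) (zpow_mem hcm t) (δ c) (h.δE c hcm) f hfm (δ f) (h.δE f hfm)
        h.δc h.δf, hcmz c hcm f hfm]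
    have hδPE : δ1 PE = PE ^ s := by
      rw [hPE, hδ1a, map_pow δ, hpwc (e ^ s) (zpow_mem hem s) _ (h.δE e hem) h.δe, hpwz e hem]
    have hδPC : δ1 PC = PC ^ t := by
      rw [hPC, hδ1a, map_pow δ, hpwc (c ^ t) (zpow_mem hcm t) _ (h.δE c hcm) h.δc, hpwz c hcm]
    have hone : ∀ {z : G ⧸ layer p E} {m : ℤ}, z ∈ B0 → ¬ (p : ℤ) ∣ m → z ^ m = 1 → z = 1 := by
      intro z m hz hm h1
      obtain ⟨m', hm'⟩ := RankTwoResistant.exists_inverse hm
      rw [← zpow_one z, ← RankTwoResistant.zpow_eq_of_dvd (hB0e.2 z hz) (i := m * m') (j := 1) hm',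
        zpow_mul, h1, one_zpow]
    -- the opposite automorphism
    have hβC2 : μ (cm ((β ⟨c, hcm⟩ : E) : G) ((β ⟨f, hfm⟩ : E) : G)) = C2 * E2 := by
      rw [hcongr (c * e) (mul_mem hcm hem) _ (β _).2 f hfm _ (β _).2 h.βc h.βf, hadd c hcm e hem f hfm]
    have hβPC : μ (((β ⟨c, hcm⟩ : E) : G) ^ p) = PC * PE := by
      rw [hpwc (c * e) (mul_mem hcm hem) _ (β _).2 h.βc, hpw c hcm e hem]
    have hβE2 : μ (cm ((β ⟨e, hem⟩ : E) : G) ((β ⟨f, hfm⟩ : E) : G)) = E2 :=
      hcongr e hem _ (β _).2 f hfm _ (β _).2 h.βe h.βf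
    by_contra hnot
    have hE21 : E2 ≠ 1 := fun h1 => hnot (hE1N (hμ1' h1))
    have hC21 : C2 ≠ 1 := by
      intro h1
      refine hE21 ?_
      have h2 := htr (cm ⟨c, hcm⟩ ⟨f, hfm⟩) 1 (by
        rw [show ((cm (⟨c, hcm⟩ : E) ⟨f, hfm⟩ : E) : G) = cm c f from map_cm E.subtype _ _, coe_one, map_one]
        exact h1)
      rw [map_cm β, map_one β, coe_one, map_one,
        show ((cm (β ⟨c, hcm⟩) (β ⟨f, hfm⟩) : E) : G) = cm ((β ⟨c, hcm⟩ : E) : G) (β ⟨f, hfm⟩ : E) from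
          map_cm E.subtype _ _, hβC2, h1, one_mul] at h2
      exact h2
    -- vanishing on the sum of the two eigenspaces
    set S2 := zpowers E2 ⊔ zpowers PE with hS2
    set T2 := zpowers C2 ⊔ zpowers PC with hT2
    have hS2B : S2 ≤ B0 := sup_le (zpowers_le.2 hE2B) (zpowers_le.2 hPEB)
    have hT2B : T2 ≤ B0 := sup_le (zpowers_le.2 hC2B) (zpowers_le.2 hPCB)
    have heig : ∀ (m : ℤ) (a b : G ⧸ layer p E), a ∈ B0 → b ∈ B0 → δ1 a = a ^ m → δ1 b = b ^ m →
        ∀ z ∈ zpowers a ⊔ zpowers b, δ1 z = z ^ m := by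
      intro m a b ha hb hδa hδb
      have hR : zpowers a ⊔ zpowers b = closure {a, b} := by
        rw [zpowers_eq_closure, zpowers_eq_closure, ← Subgroup.closure_union, Set.singleton_union]
      have hle : zpowers a ⊔ zpowers b ≤ B0 := sup_le (zpowers_le.2 ha) (zpowers_le.2 hb)
      intro z hz
      rw [hR] at hz hle
      induction hz using closure_induction with
      | mem w hw => rcases hw with rfl | rfl <;> assumption
      | one => rw [map_one, one_zpow]
      | mul u v hu hv ihu ihv => rw [map_mul, ihu, ihv, (hB0e.1 u (hle hu) v (hle hv)).mul_zpow]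
      | inv u _ ihu => rw [map_inv, ihu, inv_zpow]
    have hinter : ∀ z ∈ S2, z ∈ T2 → z = 1 := by
      intro z hzS hzT
      refine hone (hS2B hzS) hts ?_
      rw [zpow_sub, ← heig s E2 PE hE2B hPEB hδE2 hδPE z hzS, heig t C2 PC hC2B hPCB hδC2 hδPC z hzT,
        mul_inv_cancel]
    have hB0c : Nat.card B0 ≤ p ^ 3 := elem_card_le hsr _ hB0e
    by_cases hPE1 : PE ∈ zpowers E2
    · obtain ⟨k, hk⟩ := mem_zpowers_iff.1 hPE1
      have hk0 : (p : ℤ) ∣ k := by
        by_contra hk0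
        obtain ⟨k', hk'⟩ := RankTwoResistant.exists_inverse hk0
        have h1 : μ (cm e f) = μ ((e ^ p) ^ k') := by
          rw [map_zpow, ← hPE, ← hk, ← zpow_mul, RankTwoResistant.zpow_eq_of_dvd (hB0e.2 _ hE2B) (j := 1) hk',
            zpow_one, hE2]
        have h2 : ((e ^ p) ^ k')⁻¹ * cm e f ∈ N := hE1N (QuotientGroup.eq.1 h1.symm)
        refine hnot ?_
        have := mul_mem (zpow_mem (hpowN e) k') h2
        rwa [mul_inv_cancel_left] at this
      have hPE0 : PE = 1 := by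
        rw [← hk, RankTwoResistant.zpow_eq_of_dvd (hB0e.2 _ hE2B) (j := 0) (by simpa using hk0), zpow_zero]
      have hPC0 : PC = 1 := by
        have h1 : (μ x)⁻¹ * PE * μ x = PE * PC := by
          rw [hPE, hPC, ← map_inv, ← map_mul, ← map_mul,
            show x⁻¹ * e ^ p * x = (x⁻¹ * e * (x⁻¹)⁻¹) ^ p by rw [conj_pow, inv_inv], inv_inv,
            conj_eq_mul_cm, ← h.c_eq, hpw e hem c hcm]
        rw [hPE0, mul_one, inv_mul_cancel, one_mul] at h1
        exact h1.symm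
      have hB1 : Elem p (B0 ⊔ zpowers (μ c)) := hB0e.sup_zpowers
        (by rintro _ ⟨z, hz, rfl⟩; exact (hμcomm z hz c hcm).symm) (by rw [← map_pow]; exact hPC0)
      have hcB0 : μ c ∉ B0 := fun h1 => by
        have h2 := (h.uniq 0 1 0 (by simpa using (mem_map_mk layer_le).1 h1)).2.1
        exact hpp.ne_one (Nat.dvd_one.1 (by exact_mod_cast h2))
      have hCS : C2 ∉ zpowers E2 := fun h1 =>
        hC21 (hinter C2 (mem_sup_left h1) (mem_sup_left (mem_zpowers C2)))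
      have hlow := mul_card_le_sup hGμ hCS
      have hup := (mul_card_le_sup hGμ hcB0).trans (elem_card_le hsr _ hB1)
      have hR : zpowers E2 ⊔ zpowers C2 ≤ B0 := sup_le (zpowers_le.2 hE2B) (zpowers_le.2 hC2B)
      rw [Nat.card_zpowers, orderOf_eq_prime (hB0e.2 _ hE2B) hE21] at hlow
      rw [pow_succ' p 2] at hup
      have hB0eq : zpowers E2 ⊔ zpowers C2 = B0 := eq_of_le_of_card_ge hR
        (((Nat.le_of_mul_le_mul_left hup hpp.pos).trans (pow_two p).le).trans hlow)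
      have hec : μ (cm e c) = 1 := by
        have h1 : μ (cm e c) ∈ B0 := mem_map_of_mem μ (cm_mem_phi hem hcm)
        have hfix : δ1 (μ (cm e c)) = μ (cm e c) := by
          rw [hδ1a, map_cm δ, hcongr (e ^ s) (zpow_mem hem s) (δ e) (h.δE e hem) (c ^ t) (zpow_mem hcm t)
            (δ c) (h.δE c hcm) h.δe h.δc, hcmz e hem _ (zpow_mem hcm t), cm_swap (c ^ t) e, map_inv,
            hcmz c hcm e hem, ← inv_zpow, ← map_inv, ← cm_swap, ← zpow_mul,
            RankTwoResistant.zpow_eq_of_dvd (hB0e.2 _ h1) (j := 1) (by rw [mul_comm]; exact hst), zpow_one]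
        rw [← hB0eq] at h1
        have hR' : zpowers C2 ≤ normalizer (zpowers E2 : Set (G ⧸ layer p E)) := fun a ha =>
          centralizer_le_normalizer _ fun b hb =>
            (hB0e.1 b (zpowers_le.2 hE2B hb) a (zpowers_le.2 hC2B ha))
        rw [← SetLike.mem_coe, coe_mul_of_right_le_normalizer_left (zpowers E2) (zpowers C2) hR'] at h1
        obtain ⟨_, ⟨i, rfl⟩, _, ⟨j, rfl⟩, hij⟩ := h1
        simp only at hij
        rw [← hij, map_mul, map_zpow, map_zpow, hδE2, hδC2, ← zpow_mul, ← zpow_mul] at hfix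
        have h2 : E2 ^ (s * i - i) = C2 ^ (j - t * j) := by
          rw [sub_eq_neg_add, zpow_add, zpow_sub, zpow_neg, inv_mul_eq_iff_eq_mul, ← mul_assoc, ← hfix,
            mul_inv_cancel_right]
        have h3 := hinter _ (mem_sup_left (zpow_mem (mem_zpowers E2) (s * i - i)))
          (h2 ▸ mem_sup_left (zpow_mem (mem_zpowers C2) (j - t * j)))
        have h4 : (p : ℤ) ∣ i * (s - 1) := by
          rw [show i * (s - 1) = (s * i - i) - 0 by ring]
          exact RankTwoResistant.dvd_of_zpow_eq (hB0e.2 _ hE2B) hE21 (by rw [h3, zpow_zero])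
        rw [h3] at h2
        have h5 : (p : ℤ) ∣ j * (t - 1) := by
          rw [show j * (t - 1) = 0 - (j - t * j) by ring]
          exact RankTwoResistant.dvd_of_zpow_eq (hB0e.2 _ hC2B) hC21 (by rw [← h2, zpow_zero])
        rw [← hij, RankTwoResistant.zpow_eq_of_dvd (hB0e.2 _ hE2B) (j := 0)
          (by simpa using (hpi.dvd_or_dvd h4).resolve_right hs1),
          RankTwoResistant.zpow_eq_of_dvd (hB0e.2 _ hC2B) (j := 0)
          (by simpa using (hpi.dvd_or_dvd h5).resolve_right ht1), zpow_zero, zpow_zero, mul_one]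
      have heB1 : μ e ∉ B0 ⊔ zpowers (μ c) := by
        rw [hB0, ← MonoidHom.map_zpowers, ← Subgroup.map_sup]
        intro h1
        have h2 := (mem_map_mk (layer_le.trans le_sup_left)).1 h1
        obtain ⟨z, hz, w, hw, hzw⟩ := mem_sup_of_normal_left.1 h2
        obtain ⟨n, rfl⟩ := mem_zpowers_iff.1 hw
        have h3 : π e = π c ^ n := by rw [← hzw, map_mul, hπ1 hz, one_mul, map_zpow]
        have h4 := (huniq (-1) n 0 (by rw [zpow_zero, mul_one, zpow_neg_one, h3, inv_mul_cancel])).1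
        exact hpp.ne_one (Nat.dvd_one.1 (by
          rw [dvd_neg] at h4
          exact_mod_cast h4))
      have hB2 : Elem p (B0 ⊔ zpowers (μ c) ⊔ zpowers (μ e)) := hB1.sup_zpowers (fun b hb => by
        have hle : B0 ⊔ zpowers (μ c) ≤ centralizer {μ e} := by
          refine sup_le ?_ (zpowers_le.2 ?_)
          · rintro _ ⟨z, hz, rfl⟩; exact mem_centralizer_singleton_iff.2 (hμcomm z hz e hem).eq
          · refine mem_centralizer_singleton_iff.2 ?_
            rw [map_cm, cm_eq_one_iff] at hec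
            exact hec.symm.eq
        exact (mem_centralizer_singleton_iff.1 (hle hb)).symm) (by rw [← map_pow]; exact hPE0)
      have e1 := (mul_card_le_sup hGμ heB1).trans (elem_card_le hsr _ hB2)
      have e2 := Nat.mul_le_mul_left p (mul_card_le_sup hGμ hcB0)
      rw [hB0eq] at hlow
      have e3 := Nat.mul_le_mul_left p (Nat.mul_le_mul_left p hlow)
      have h4 : p * (p * (p * p)) ≤ p ^ 3 := (e3.trans e2).trans e1
      rw [show p * (p * (p * p)) = p ^ 4 by ring] at h4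
      have := (Nat.pow_le_pow_iff_right hpp.one_lt).1 h4
      omega
    · have hPC1 : PC ∉ zpowers C2 := by
        intro h1
        obtain ⟨k, hk⟩ := mem_zpowers_iff.1 h1
        refine hPE1 (mem_zpowers_iff.2 ⟨k, ?_⟩)
        have h2 := htr ((cm ⟨c, hcm⟩ ⟨f, hfm⟩) ^ k) (⟨c, hcm⟩ ^ p) (by
          rw [coe_zpow, show ((cm (⟨c, hcm⟩ : E) ⟨f, hfm⟩ : E) : G) = cm c f from map_cm E.subtype _ _, map_zpow,
            SubgroupClass.coe_pow]
          exact hk)
        rw [map_zpow β, map_cm β, map_pow β, coe_zpow, SubgroupClass.coe_pow,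
          show ((cm (β ⟨c, hcm⟩) (β ⟨f, hfm⟩) : E) : G) = cm ((β ⟨c, hcm⟩ : E) : G) (β ⟨f, hfm⟩ : E) from
            map_cm E.subtype _ _, map_zpow, hβC2, hβPC, (hB0e.1 C2 hC2B E2 hE2B).mul_zpow, hk] at h2
        exact mul_left_cancel h2
      have hC2S : C2 ∉ S2 := fun h1 => hC21 (hinter C2 h1 (mem_sup_left (mem_zpowers C2)))
      have hPCS : PC ∉ S2 ⊔ zpowers C2 := by
        intro h1
        have hR' : zpowers C2 ≤ normalizer (S2 : Set (G ⧸ layer p E)) := fun a ha =>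
          centralizer_le_normalizer _ fun b hb => hB0e.1 b (hS2B hb) a (zpowers_le.2 hC2B ha)
        rw [← SetLike.mem_coe, coe_mul_of_right_le_normalizer_left S2 (zpowers C2) hR'] at h1
        obtain ⟨σ, hσ, w, hw, hσw⟩ := h1
        simp only at hσw
        have h2 : σ ∈ T2 := by
          rw [eq_mul_inv_of_mul_eq hσw]
          exact mul_mem (mem_sup_right (mem_zpowers PC)) (inv_mem (mem_sup_left hw))
        rw [hinter σ hσ h2, one_mul] at hσw
        exact hPC1 (hσw ▸ hw)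
      have hE20 : E2 ∉ (⊥ : Subgroup (G ⧸ layer p E)) := fun h1 => hE21 (mem_bot.1 h1)
      have e1 := mul_card_le_sup hGμ hE20
      rw [bot_sup_eq, card_bot, mul_one] at e1
      have e2 := mul_card_le_sup hGμ hPE1
      have e3 := mul_card_le_sup hGμ hC2S
      have e4 := mul_card_le_sup hGμ hPCS
      have h4 : p ^ 4 ≤ p ^ 3 :=
        calc p ^ 4 = p * (p * (p * p)) := by ring
          _ ≤ p * (p * (p * Nat.card (zpowers E2))) := by gcongr
          _ ≤ p * (p * Nat.card S2) := by gcongr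
          _ ≤ p * Nat.card (S2 ⊔ zpowers C2 : Subgroup (G ⧸ layer p E)) := by gcongr
          _ ≤ _ := e4
          _ ≤ Nat.card B0 := card_le_of_le (sup_le (sup_le hS2B (zpowers_le.2 hC2B)) (zpowers_le.2 hPCB))
          _ ≤ p ^ 3 := hB0c
      have := (Nat.pow_le_pow_iff_right hpp.one_lt).1 h4
      omega
  have hΦle : phi p E ≤ N := by
    refine phi_le_iff.2 ⟨fun v _ => hpowN v, fun u hu v hv => mk_cm_eq_one_iff.1 ?_⟩
    have hgen : ∀ w ∈ E, ∃ A B C' : ℤ, ∃ z ∈ phi p E, w = e ^ A * c ^ B * f ^ C' * z := fun w hw => by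
      obtain ⟨A, B, C', hw'⟩ := h.gen w hw
      exact ⟨A, B, C', _, QuotientGroup.eq.1 hw'.symm, (mul_inv_cancel_left _ _).symm⟩
    have hc' : ∀ g, Commute (ν c) (ν g) := fun g => mk_cm_eq_one_iff.2 (h.c_eq ▸ htriN e x g)
    obtain ⟨A, B, C', z, hz, rfl⟩ := hgen u hu
    obtain ⟨A', B', C'', z', hz', rfl⟩ := hgen v hv
    have hef' : Commute (ν e) (ν f) := mk_cm_eq_one_iff.2 hef
    simp only [map_mul, map_zpow]
    have k1 : ∀ n : ℤ, Commute (ν e ^ n) (ν e ^ A' * ν c ^ B' * ν f ^ C'') := fun n =>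
      (((Commute.refl (ν e)).zpow_zpow n A').mul_right ((hc' e).symm.zpow_zpow n B')).mul_right (hef'.zpow_zpow n C'')
    have k2 : ∀ n : ℤ, Commute (ν c ^ n) (ν e ^ A' * ν c ^ B' * ν f ^ C'') := fun n =>
      (((hc' e).zpow_zpow n A').mul_right ((Commute.refl (ν c)).zpow_zpow n B')).mul_right ((hc' f).zpow_zpow n C'')
    have k3 : ∀ n : ℤ, Commute (ν f ^ n) (ν e ^ A' * ν c ^ B' * ν f ^ C'') := fun n =>
      ((hef'.symm.zpow_zpow n A').mul_right ((hc' f).symm.zpow_zpow n B')).mul_right ((Commute.refl (ν f)).zpow_zpow n C'')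
    exact (((((k1 A).mul_left (k2 B)).mul_left (k3 C')).mul_left (hΦν z hz _)).mul_right
      (hΦν z' hz' _).symm)
  refine ⟨le_antisymm hΦle hNle, ?_⟩
  -- adapting `x` to the torus
  obtain ⟨A, B, C', hv0⟩ := hdecE v0 hv0E
  obtain ⟨w, hw⟩ := RankTwoResistant.exists_inverse (p := p) (r := t ^ 2 - s) (fun hd => ht3 (by
    rw [show t ^ 3 - 1 = (t ^ 2 - s) * t + (s * t - 1) by ring]; exact dvd_add (hd.mul_right t) hst))
  set a := A * w with hadef
  have ha : (p : ℤ) ∣ A + s * a - t ^ 2 * a := by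
    rw [show A + s * a - t ^ 2 * a = -(((t ^ 2 - s) * w - 1) * A) by rw [hadef]; ring]
    exact (hw.mul_right A).neg_right
  set x' := x * e ^ a with hx'
  have hx'E : x' ∉ E := fun h1 => h.x_notMem (by
    have := mul_mem h1 (inv_mem (zpow_mem h.e_mem a))
    rwa [hx', mul_inv_cancel_right] at this)
  have hrel : Tower.Rel p (π x') (π e) (π c) (π f) := by
    refine ⟨hallp _, hallp _, hallp _, hallp _, (hccent _).symm, (hcent f h.f_mem hπfx x').symm,
      (hccent _).symm, hEE e h.e_mem f h.f_mem, hccent _, ?_, ?_⟩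
    · have h1 : cm (π e) (π e ^ a) = 1 := cm_eq_one_iff.2 ((Commute.refl _).zpow_right a)
      rw [hx', map_mul, map_zpow, cm_mul_right, h1, one_mul, ← map_cm, ← h.c_eq, mul_assoc,
        (hccent _).eq, inv_mul_cancel_left]
    · intro A1 B1 C1 D1 h1
      have hA1 : (p : ℤ) ∣ A1 := by
        by_contra hA1
        obtain ⟨A1', hA1'⟩ := RankTwoResistant.exists_inverse hA1
        refine hx'E ?_
        have h2 : x' ^ A1 * e ^ B1 * c ^ C1 * f ^ D1 ∈ phi p E :=
          hπ1' (by simpa only [map_mul, map_zpow] using h1)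
        have h3 : x' ^ A1 ∈ E := by
          have := mul_mem (mul_mem (mul_mem (phi_le h2) (inv_mem (zpow_mem h.f_mem D1)))
            (inv_mem (zpow_mem h.c_mem C1))) (inv_mem (zpow_mem h.e_mem B1))
          rwa [mul_inv_cancel_right, mul_inv_cancel_right, mul_inv_cancel_right] at this
        obtain ⟨k, hk⟩ := hA1'
        have h4 : x' ^ (A1 * A1') * (x' ^ p) ^ (-k) ∈ E := mul_mem (by rw [zpow_mul]; exact zpow_mem h3 _)
          (zpow_mem (pow_mem_of_relIndex hG hidx' (mem_top x')) _)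
        rwa [← zpow_natCast x' p, ← zpow_mul, ← zpow_add,
          show A1 * A1' + (p : ℤ) * -k = 1 by rw [mul_neg, ← hk]; ring, zpow_one] at h4
      rw [RankTwoResistant.zpow_eq_of_dvd (hallp x') (j := 0) (by simpa using hA1), zpow_zero, one_mul] at h1
      exact ⟨hA1, huniq _ _ _ h1⟩
  obtain ⟨m, hm⟩ : ∃ m : ℤ, (π x * π e ^ a) ^ (t ^ 2) = π x ^ (t ^ 2) * π e ^ (a * t ^ 2) * π c ^ m := by
    have hnx : π x = Tower.nf (π x') (π e) (π c) (π f) 1 (-a) 0 0 := by
      simp only [Tower.nf, zpow_one, zpow_zero, mul_one, hx', map_mul, map_zpow]; group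
    obtain ⟨C1, hC1⟩ := Tower.nf_zpow hrel 1 (-a) 0 0 (t ^ 2)
    refine ⟨-C1, ?_⟩
    rw [← hnx] at hC1
    rw [hC1, show π x * π e ^ a = π x' by rw [hx', map_mul, map_zpow]]
    simp only [Tower.nf, mul_zero, zpow_zero, mul_one]
    rw [show t ^ 2 * -a = -(a * t ^ 2) by ring, zpow_neg, zpow_neg, mul_assoc (π x' ^ (t ^ 2) * (π e ^ (a * t ^ 2))⁻¹),
      (((hccent (π e)).zpow_zpow C1 (a * t ^ 2))).eq]
    group
  refine ⟨x', B - m, C', hx'E, hrel, ?_⟩
  rw [hx', map_mul δ, hδx, map_mul π, map_mul π, map_zpow δ, map_zpow π, map_zpow π, hδe, map_mul π,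
    map_zpow π, hm, hv0, ← zpow_mul]
  have e1 : π c ^ B * π f ^ C' * π e ^ (s * a) = π e ^ (s * a) * (π c ^ B * π f ^ C') :=
    (((hEE c h.c_mem e h.e_mem).zpow_zpow B (s * a)).mul_left ((hEE f h.f_mem e h.e_mem).zpow_zpow C' (s * a))).eq
  calc π x ^ (t ^ 2) * (π e ^ A * π c ^ B * π f ^ C') * π e ^ (s * a)
      = π x ^ (t ^ 2) * π e ^ A * (π c ^ B * π f ^ C' * π e ^ (s * a)) := by group
    _ = π x ^ (t ^ 2) * π e ^ (A + s * a) * π c ^ B * π f ^ C' := by rw [e1]; group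
    _ = π x ^ (t ^ 2) * π e ^ (a * t ^ 2) * π c ^ B * π f ^ C' := by
        rw [RankTwoResistant.zpow_eq_of_dvd (hEp e h.e_mem) (i := A + s * a) (j := a * t ^ 2)
          (by rw [mul_comm a (t ^ 2)]; exact ha)]
    _ = _ := by group

end Cfsg.Agent.Fusion.RankThree
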