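import Cfsg.Prelude.Def_CaseTheorems
import Cfsg.Agent.Solvable.Basics

/-!
Elementary abelian sections of a group of sectional rank at most three, commutator identities, and
the subgroup generated by `p`-th powers and commutators.
-/

set_option autoImplicit false
set_option linter.unusedSectionVars false
set_option linter.style.haveILetI false

namespace Cfsg.Agent.Fusion.RankThree

open Subgroup

variable {G : Type*} [Group G]

/-- The commutator `a⁻¹ b⁻¹ a b`. -/
def cm (a b : G) : G := a⁻¹ * b⁻¹ * a * b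

theorem cm_def (a b : G) : cm a b = a⁻¹ * b⁻¹ * a * b := rfl

theorem conj_eq_mul_cm (a b : G) : b⁻¹ * a * b = a * cm a b := by rw [cm_def]; group

theorem mul_eq_mul_cm (a b : G) : a * b = b * a * cm a b := by rw [cm_def]; group

theorem cm_swap (a b : G) : cm b a = (cm a b)⁻¹ := by rw [cm_def, cm_def]; group

theorem cm_self (a : G) : cm a a = 1 := by rw [cm_def]; group

theorem cm_one_left (b : G) : cm 1 b = 1 := by rw [cm_def]; group

theorem cm_one_right (b : G) : cm b 1 = 1 := by rw [cm_def]; group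

theorem cm_eq_one_iff {a b : G} : cm a b = 1 ↔ Commute a b := by
  rw [cm_def, Commute, SemiconjBy]
  constructor
  · intro h
    calc a * b = b * a * (a⁻¹ * b⁻¹ * a * b) := by group
      _ = b * a := by rw [h, mul_one]
  · intro h
    calc a⁻¹ * b⁻¹ * a * b = (b * a)⁻¹ * (a * b) := by group
      _ = 1 := by rw [h, inv_mul_cancel]

theorem cm_mul_right (a b c : G) : cm a (b * c) = cm a c * (c⁻¹ * cm a b * c) := by
  simp only [cm_def]; group

theorem cm_mul_left (a b c : G) : cm (a * b) c = b⁻¹ * cm a c * b * cm b c := by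
  simp only [cm_def]; group

theorem map_cm {H : Type*} [Group H] {F : Type*} [FunLike F G H] [MonoidHomClass F G H] (f : F)
    (a b : G) : f (cm a b) = cm (f a) (f b) := by
  simp only [cm_def, map_mul, map_inv]

theorem cm_mem {N : Subgroup G} [N.Normal] {a : G} (ha : a ∈ N) (b : G) : cm a b ∈ N := by
  rw [show cm a b = a⁻¹ * (b⁻¹ * a * b) by rw [cm_def]; group]
  refine mul_mem (inv_mem ha) ?_
  simpa using (inferInstance : N.Normal).conj_mem a ha b⁻¹

theorem cm_mem' {N : Subgroup G} [N.Normal] (a : G) {b : G} (hb : b ∈ N) : cm a b ∈ N := by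
  rw [cm_swap]
  exact inv_mem (cm_mem hb a)

theorem mk_cm_eq_one_iff {N : Subgroup G} [N.Normal] {a b : G} :
    Commute (QuotientGroup.mk' N a) (QuotientGroup.mk' N b) ↔ cm a b ∈ N := by
  rw [← cm_eq_one_iff, ← map_cm, QuotientGroup.mk'_apply, QuotientGroup.eq_one_iff]

/-- Powers of a central commutator. -/
theorem cm_pow_left {a b : G} (h : Commute (cm a b) a) (n : ℤ) : cm (a ^ n) b = (cm a b) ^ n := by
  have h1 : b⁻¹ * a ^ n * b = a ^ n * (cm a b) ^ n := by
    rw [← h.symm.mul_zpow, ← conj_eq_mul_cm, show b⁻¹ * a ^ n * b = b⁻¹ * a ^ n * (b⁻¹)⁻¹ by group,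
      ← conj_zpow, inv_inv]
  rw [show cm (a ^ n) b = (a ^ n)⁻¹ * (b⁻¹ * a ^ n * b) by rw [cm_def]; group, h1, inv_mul_cancel_left]

theorem cm_pow_right {a b : G} (h : Commute (cm a b) b) (n : ℤ) : cm a (b ^ n) = (cm a b) ^ n := by
  have h' : Commute (cm b a) b := by rw [cm_swap]; exact h.inv_left
  rw [cm_swap, cm_pow_left h' n, cm_swap a b, inv_zpow, inv_inv]

/-- Powers of a product in class two. -/
theorem mul_pow_class_two {a b : G} (ha : Commute (cm b a) a) (hb : Commute (cm b a) b) (n : ℕ) :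
    (a * b) ^ n = a ^ n * b ^ n * (cm b a) ^ n.choose 2 := by
  have key : ∀ n : ℕ, b ^ n * a = a * b ^ n * (cm b a) ^ n := by
    intro n
    have h1 : cm (b ^ n) a = (cm b a) ^ n := by
      have := cm_pow_left hb (n : ℤ)
      rwa [zpow_natCast, zpow_natCast] at this
    rw [← h1, mul_eq_mul_cm]
  induction n with
  | zero => simp
  | succ n ih =>
    have h2 : Commute ((cm b a) ^ n.choose 2) (a * b) := (ha.mul_right hb).pow_left _
    calc (a * b) ^ (n + 1) = a ^ n * b ^ n * ((cm b a) ^ n.choose 2 * (a * b)) := by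
          rw [pow_succ, ih, mul_assoc]
      _ = a ^ n * (b ^ n * a) * b * (cm b a) ^ n.choose 2 := by rw [h2.eq]; group
      _ = a ^ n * a * b ^ n * ((cm b a) ^ n * b) * (cm b a) ^ n.choose 2 := by rw [key]; group
      _ = a ^ n * a * (b ^ n * b) * ((cm b a) ^ n * (cm b a) ^ n.choose 2) := by
          rw [(hb.pow_left n).eq]; group
      _ = _ := by
          rw [← pow_add, ← pow_succ, ← pow_succ, Nat.choose_succ_succ', Nat.choose_one_right]

theorem mul_pow_class_two_eq {p : ℕ} (hp : p.Prime) (hp2 : p ≠ 2) {a b : G}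
    (ha : Commute (cm b a) a) (hb : Commute (cm b a) b) (hc : (cm b a) ^ p = 1) :
    (a * b) ^ p = a ^ p * b ^ p := by
  obtain ⟨k, hk⟩ : p ∣ p.choose 2 :=
    hp.dvd_choose_self (by norm_num) (lt_of_le_of_ne hp.two_le (Ne.symm hp2))
  rw [mul_pow_class_two ha hb, hk, pow_mul, hc, one_pow, mul_one]

/-- Powers of a product in class three. -/
theorem mul_pow_class_three {a b c u v : G} (hc : c = cm b a) (hu : u = cm c a) (hv : v = cm c b)
    (huc : ∀ g, Commute u g) (hvc : ∀ g, Commute v g) (n : ℕ) :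
    (a * b) ^ n = a ^ n * b ^ n * c ^ n.choose 2 * u ^ n.choose 3 *
      v ^ (n.choose 2 + 2 * n.choose 3) := by
  have hca : ∀ k : ℕ, c ^ k * a = a * c ^ k * u ^ k := fun k => by
    have h1 : cm (c ^ k) a = u ^ k := by
      have := cm_pow_left (a := c) (b := a) (hu ▸ (huc c)) (k : ℤ)
      rwa [zpow_natCast, zpow_natCast, ← hu] at this
    rw [← h1, mul_eq_mul_cm]
  have hcb : ∀ k : ℕ, c ^ k * b = b * c ^ k * v ^ k := fun k => by
    have h1 : cm (c ^ k) b = v ^ k := by
      have := cm_pow_left (a := c) (b := b) (hv ▸ (hvc c)) (k : ℤ)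
      rwa [zpow_natCast, zpow_natCast, ← hv] at this
    rw [← h1, mul_eq_mul_cm]
  have hba : ∀ k : ℕ, b ^ k * a = a * b ^ k * c ^ k * v ^ k.choose 2 := by
    intro k
    induction k with
    | zero => simp
    | succ k ih =>
      calc b ^ (k + 1) * a = b ^ k * (b * a) := by rw [pow_succ, mul_assoc]
        _ = b ^ k * a * (b * c) := by rw [mul_eq_mul_cm b a, ← hc]; group
        _ = a * b ^ k * c ^ k * (v ^ k.choose 2 * b) * c := by rw [ih]; group
        _ = a * b ^ k * (c ^ k * b) * (v ^ k.choose 2 * c) := by rw [((hvc b).pow_left _).eq]; group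
        _ = a * b ^ k * b * c ^ k * v ^ k * (c * v ^ k.choose 2) := by
            rw [hcb, ((hvc c).pow_left _).eq]; group
        _ = a * (b ^ k * b) * (c ^ k * c) * (v ^ k * v ^ k.choose 2) := by
            rw [show a * b ^ k * b * c ^ k * v ^ k * (c * v ^ k.choose 2) =
              a * b ^ k * b * c ^ k * (v ^ k * c) * v ^ k.choose 2 by group, ((hvc c).pow_left _).eq]
            group
        _ = _ := by
            rw [← pow_succ, ← pow_succ, ← pow_add, Nat.choose_succ_succ', Nat.choose_one_right]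
  induction n with
  | zero => simp
  | succ n ih =>
    set A := n.choose 2 with hA
    set B := n.choose 3
    have e1 : u ^ B * v ^ (A + 2 * B) * (a * b) = a * b * (u ^ B * v ^ (A + 2 * B)) :=
      (((huc _).pow_left _).mul_left ((hvc _).pow_left _)).eq
    calc (a * b) ^ (n + 1) = a ^ n * b ^ n * c ^ A * (u ^ B * v ^ (A + 2 * B) * (a * b)) := by
          rw [pow_succ, ih]; group
      _ = a ^ n * b ^ n * (c ^ A * a) * b * (u ^ B * v ^ (A + 2 * B)) := by rw [e1]; group
      _ = a ^ n * (b ^ n * a) * c ^ A * (u ^ A * b) * (u ^ B * v ^ (A + 2 * B)) := by rw [hca]; group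
      _ = a ^ n * a * b ^ n * c ^ n * (v ^ A * (c ^ A * b)) * u ^ A * (u ^ B * v ^ (A + 2 * B)) := by
          rw [hba, ← hA, ((huc b).pow_left _).eq]; group
      _ = a ^ n * a * b ^ n * (c ^ (n + A) * b) * v ^ A * u ^ A * (u ^ B * v ^ (A + 2 * B)) := by
          rw [((hvc (c ^ A * b)).pow_left _).eq, pow_add]; group
      _ = a ^ (n + 1) * b ^ (n + 1) * c ^ (n + A) *
            (v ^ (n + A) * v ^ A * (u ^ A * u ^ B) * v ^ (A + 2 * B)) := by
          rw [hcb, pow_succ, pow_succ]; group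
      _ = a ^ (n + 1) * b ^ (n + 1) * c ^ (n + A) *
            (u ^ (A + B) * v ^ ((n + A) + A + (A + 2 * B))) := by
          rw [← pow_add v (n + A) A, ← pow_add u, ((huc (v ^ (n + A + A))).pow_left _).symm.eq,
            mul_assoc (u ^ (A + B)), ← pow_add]
      _ = _ := by
          rw [show n + A + A + (A + 2 * B) = n + A + 2 * (A + B) by omega,
            show (n + 1).choose 2 = n + A by rw [Nat.choose_succ_succ' n 1, Nat.choose_one_right],
            show (n + 1).choose 3 = A + B from Nat.choose_succ_succ' n 2, ← mul_assoc]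

theorem mul_pow_class_three_eq {p : ℕ} (hp : p.Prime) (hp5 : 5 ≤ p) {a b c u v : G} (hc : c = cm b a)
    (hu : u = cm c a) (hv : v = cm c b) (huc : ∀ g, Commute u g) (hvc : ∀ g, Commute v g)
    (hcp : c ^ p = 1) (hup : u ^ p = 1) (hvp : v ^ p = 1) :
    (a * b) ^ p = a ^ p * b ^ p := by
  obtain ⟨k, hk⟩ : p ∣ p.choose 2 := hp.dvd_choose_self (by norm_num) (by omega)
  obtain ⟨l, hl⟩ : p ∣ p.choose 3 := hp.dvd_choose_self (by norm_num) (by omega)
  rw [mul_pow_class_three hc hu hv huc hvc, hk, hl,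
    show p * k + 2 * (p * l) = p * (k + 2 * l) by ring, pow_mul, pow_mul, pow_mul, hcp, hup, hvp]
  simp

/-! ### Elementary abelian subgroups -/

/-- A commutative subgroup of exponent dividing `p`. -/
def Elem (p : ℕ) (B : Subgroup G) : Prop :=
  (∀ a ∈ B, ∀ b ∈ B, Commute a b) ∧ ∀ a ∈ B, a ^ p = 1

theorem elem_closure {p : ℕ} {s : Set G} (hc : ∀ a ∈ s, ∀ b ∈ s, Commute a b)
    (hs : ∀ a ∈ s, a ^ p = 1) : Elem p (closure s) := by
  have h1 : closure s ≤ centralizer s :=
    (closure_le _).2 fun a ha b hb => (hc b hb a ha).eq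
  have h2 : closure s ≤ centralizer (closure s : Set G) :=
    (closure_le _).2 fun a ha b hb => (h1 hb a ha).symm
  refine ⟨fun a ha b hb => h2 hb a ha, fun a ha => ?_⟩
  induction ha using closure_induction with
  | mem a ha => exact hs a ha
  | one => exact one_pow p
  | mul a b ha hb iha ihb =>
    rw [Commute.mul_pow (h2 hb a ha), iha, ihb, one_mul]
  | inv a _ iha => rw [inv_pow, iha, inv_one]

theorem Elem.sup_zpowers {p : ℕ} {B : Subgroup G} (hB : Elem p B) {x : G}
    (hx : ∀ b ∈ B, Commute x b) (hxp : x ^ p = 1) : Elem p (B ⊔ zpowers x) := by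
  have h : B ⊔ zpowers x = closure ((B : Set G) ∪ {x}) := by
    rw [Subgroup.closure_union, closure_eq, zpowers_eq_closure]
  rw [h]
  refine elem_closure ?_ ?_
  · rintro a (ha | rfl) b (hb | rfl)
    · exact hB.1 a ha b hb
    · exact (hx a ha).symm
    · exact hx b hb
    · exact Commute.refl _
  · rintro a (ha | rfl)
    · exact hB.2 a ha
    · exact hxp

theorem mul_card_le [Finite G] {p : ℕ} [hp : Fact p.Prime] {A B : Subgroup G} (hB : IsPGroup p B)
    (h : A < B) : p * Nat.card A ≤ Nat.card B := by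
  obtain ⟨b, hb⟩ := IsPGroup.iff_card.1 hB
  obtain ⟨a, ha⟩ := IsPGroup.iff_card.1 (hB.to_le h.le)
  have h1 : Nat.card A < Nat.card B :=
    lt_of_not_ge fun hge => h.ne (Subgroup.eq_of_le_of_card_ge h.le hge)
  rw [ha, hb] at h1 ⊢
  rw [← pow_succ']
  exact Nat.pow_le_pow_right hp.out.pos ((Nat.pow_lt_pow_iff_right hp.out.one_lt).1 h1)

theorem mul_card_le_sup [Finite G] {p : ℕ} [hp : Fact p.Prime] (hG : IsPGroup p G) {A : Subgroup G}
    {x : G} (h : x ∉ A) : p * Nat.card A ≤ Nat.card (A ⊔ zpowers x : Subgroup G) :=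
  mul_card_le (hG.to_subgroup _) (lt_of_le_of_ne le_sup_left fun he =>
    h (he.ge (mem_sup_right (mem_zpowers x))))

theorem pow_card_le_of_sectional {X : Type*} [Group X] [Finite X] {p k : ℕ}
    (hsr : Cfsg.SectionalPRankLE p k X) (H : Subgroup X) (f : H →* G) {B : Subgroup G}
    (hB : B ≤ f.range) (hBe : Elem p B) : Nat.card B ≤ p ^ k := by
  classical
  have hr := hsr H f.ker
  let e : (H ⧸ f.ker) ≃* f.range := QuotientGroup.quotientKerEquivRange f
  let B' : Subgroup (H ⧸ f.ker) := (B.subgroupOf f.range).comap e.toMonoidHom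
  have hcard : Nat.card B' = Nat.card B := by
    rw [← Nat.card_congr (Subgroup.subgroupOfEquivOfLe hB).toEquiv]
    exact Nat.card_congr (e.toEquiv.subtypeEquiv fun a => Iff.rfl)
  rw [← hcard]
  refine hr B' ⟨⟨fun a b => ?_⟩⟩ fun a ha => ?_
  · exact Subtype.ext (e.injective (Subtype.ext (by
      simp only [coe_mul, map_mul]
      exact (hBe.1 _ a.2 _ b.2).eq)))
  · refine e.injective (Subtype.ext ?_)
    rw [map_pow, map_one, SubgroupClass.coe_pow]
    exact hBe.2 _ ha

theorem elem_card_le [Finite G] {p k : ℕ} (hsr : Cfsg.SectionalPRankLE p k G) (N : Subgroup G)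
    [N.Normal] {B : Subgroup (G ⧸ N)} (hB : Elem p B) : Nat.card B ≤ p ^ k := by
  refine pow_card_le_of_sectional hsr ⊤ ((QuotientGroup.mk' N).comp (⊤ : Subgroup G).subtype) ?_ hB
  intro b _
  obtain ⟨g, rfl⟩ := QuotientGroup.mk'_surjective N b
  exact ⟨⟨g, mem_top g⟩, rfl⟩

theorem relIndex_eq_card_map {N : Subgroup G} [N.Normal] (A : Subgroup G) :
    N.relIndex A = Nat.card (A.map (QuotientGroup.mk' N)) := by
  have h := relIndex_ker (QuotientGroup.mk' N) (K := A)
  rwa [QuotientGroup.ker_mk'] at h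

theorem elem_map_iff {p : ℕ} {N A : Subgroup G} [N.Normal] :
    Elem p (A.map (QuotientGroup.mk' N)) ↔
      (∀ a ∈ A, ∀ b ∈ A, cm a b ∈ N) ∧ ∀ a ∈ A, a ^ p ∈ N := by
  constructor
  · intro h
    refine ⟨fun a ha b hb => mk_cm_eq_one_iff.1
      (h.1 _ (mem_map_of_mem _ ha) _ (mem_map_of_mem _ hb)), fun a ha => ?_⟩
    have := h.2 _ (mem_map_of_mem _ ha)
    rwa [← map_pow, QuotientGroup.mk'_apply, QuotientGroup.eq_one_iff] at this
  · intro h
    refine ⟨?_, ?_⟩
    · rintro _ ⟨a, ha, rfl⟩ _ ⟨b, hb, rfl⟩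
      exact mk_cm_eq_one_iff.2 (h.1 a ha b hb)
    · rintro _ ⟨a, ha, rfl⟩
      rw [← map_pow, QuotientGroup.mk'_apply, QuotientGroup.eq_one_iff]
      exact h.2 a ha

theorem relIndex_le [Finite G] {p k : ℕ} (hsr : Cfsg.SectionalPRankLE p k G) {N A : Subgroup G}
    [N.Normal] (hc : ∀ a ∈ A, ∀ b ∈ A, cm a b ∈ N) (hpow : ∀ a ∈ A, a ^ p ∈ N) :
    N.relIndex A ≤ p ^ k := by
  rw [relIndex_eq_card_map]
  exact elem_card_le hsr N (elem_map_iff.2 ⟨hc, hpow⟩)

/-! ### Powers and commutators -/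

/-- The subgroup generated by the `p`-th powers and the commutators of elements of `E`. -/
def phi (p : ℕ) (E : Subgroup G) : Subgroup G :=
  closure ((fun v => v ^ p) '' (E : Set G) ∪ Set.image2 cm (E : Set G) (E : Set G))

theorem pow_mem_phi {p : ℕ} {E : Subgroup G} {v : G} (hv : v ∈ E) : v ^ p ∈ phi p E :=
  subset_closure (Or.inl ⟨v, hv, rfl⟩)

theorem cm_mem_phi {p : ℕ} {E : Subgroup G} {u v : G} (hu : u ∈ E) (hv : v ∈ E) :
    cm u v ∈ phi p E :=
  subset_closure (Or.inr ⟨u, hu, v, hv, rfl⟩)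

theorem phi_le_iff {p : ℕ} {E N : Subgroup G} :
    phi p E ≤ N ↔ (∀ v ∈ E, v ^ p ∈ N) ∧ ∀ u ∈ E, ∀ v ∈ E, cm u v ∈ N := by
  rw [phi, closure_le, Set.union_subset_iff, Set.image_subset_iff, Set.image2_subset_iff]
  rfl

theorem phi_le {p : ℕ} {E : Subgroup G} : phi p E ≤ E :=
  phi_le_iff.2 ⟨fun _ hv => pow_mem hv p,
    fun _ hu _ hv => mul_mem (mul_mem (mul_mem (inv_mem hu) (inv_mem hv)) hu) hv⟩

theorem phi_map {H : Type*} [Group H] {p : ℕ} (E : Subgroup G) (f : G →* H) :
    (phi p E).map f = phi p (E.map f) := by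
  rw [phi, MonoidHom.map_closure, phi, Set.image_union, Set.image_image, coe_map, Set.image_image,
    Set.image_image2, Set.image2_image_left, Set.image2_image_right]
  simp only [map_pow, map_cm]

theorem phi_normal {p : ℕ} {E : Subgroup G} [hE : E.Normal] : (phi p E).Normal := by
  refine ⟨fun a ha g => ?_⟩
  have h : E.map (MulAut.conj g).toMonoidHom = E := by
    ext v
    rw [Subgroup.mem_map]
    refine ⟨?_, fun hv => ⟨g⁻¹ * v * g, ?_, ?_⟩⟩
    · rintro ⟨w, hw, rfl⟩
      exact hE.conj_mem w hw g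
    · simpa using hE.conj_mem v hv g⁻¹
    · show g * (g⁻¹ * v * g) * g⁻¹ = v
      group
  have h1 : (MulAut.conj g).toMonoidHom a ∈ (phi p E).map (MulAut.conj g).toMonoidHom :=
    mem_map_of_mem _ ha
  rwa [phi_map, h] at h1

theorem frattini_eq_phi [Finite G] {p : ℕ} [hp : Fact p.Prime] (hG : IsPGroup p G) :
    frattini G = phi p (⊤ : Subgroup G) := by
  haveI := hG.isNilpotent
  haveI : (phi p (⊤ : Subgroup G)).Normal := phi_normal
  refine le_antisymm (fun x hx => ?_) (phi_le_iff.2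
    ⟨fun v _ => Solvable.Basics.pow_mem_frattini hG v, fun u _ v _ => ?_⟩)
  · by_contra hn
    obtain ⟨M, hM, -, hxM⟩ := Solvable.Basics.exists_coatom_notMem hp.out (N := phi p (⊤ : Subgroup G))
      (by
        rw [commutator_def, commutator_le]
        intro a _ b _
        rw [commutatorElement_def, show a * b * a⁻¹ * b⁻¹ = cm a⁻¹ b⁻¹ by rw [cm_def]; group]
        exact cm_mem_phi (mem_top _) (mem_top _))
      (fun y => pow_mem_phi (mem_top y)) hn
    exact hxM (frattini_le_coatom hM hx)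
  · refine Coprime.commutator_le_frattini G ?_
    rw [cm_def, show u⁻¹ * v⁻¹ * u * v = u⁻¹ * v⁻¹ * u⁻¹⁻¹ * v⁻¹⁻¹ by group, ← commutatorElement_def]
    exact commutator_mem_commutator (mem_top _) (mem_top _)

theorem map_frattini [Finite G] {p : ℕ} [hp : Fact p.Prime] {E : Subgroup G} (hE : IsPGroup p E) :
    (frattini E).map E.subtype = phi p E := by
  rw [frattini_eq_phi hE, phi_map, ← MonoidHom.range_eq_map, range_subtype]

/-! ### Intrinsic invariance -/

/-- `U` is invariant under every automorphism of `E`. -/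
def Inv (E U : Subgroup G) : Prop :=
  ∀ (α : MulAut E) (v : E), (v : G) ∈ U → ((α v : E) : G) ∈ U

theorem inv_closure {E : Subgroup G} {s : Set G} (hs : s ⊆ E)
    (h : ∀ (α : MulAut E) (v : E), (v : G) ∈ s → ((α v : E) : G) ∈ closure s) :
    Inv E (closure s) := by
  intro α v hv
  have hle : closure s ≤ ((closure s).subgroupOf E |>.comap α.toMonoidHom).map E.subtype := by
    rw [closure_le]
    exact fun x hx => ⟨⟨x, hs hx⟩, h α ⟨x, hs hx⟩ hx, rfl⟩
  obtain ⟨w, hw, hwv⟩ := hle hv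
  rw [show v = w from (Subtype.ext hwv).symm]
  exact hw

theorem inv_phi {p : ℕ} (E : Subgroup G) : Inv E (phi p E) := by
  refine inv_closure ?_ ?_
  · intro x hx
    exact phi_le (p := p) (subset_closure hx)
  · rintro α v (⟨w, hw, hwv⟩ | ⟨a, ha, b, hb, hab⟩)
    · rw [show v = (⟨w, hw⟩ : E) ^ p from Subtype.ext hwv.symm, map_pow, SubgroupClass.coe_pow]
      exact pow_mem_phi (α _).2
    · rw [show v = cm (⟨a, ha⟩ : E) ⟨b, hb⟩ from Subtype.ext hab.symm, map_cm,
        show ((cm (α ⟨a, ha⟩) (α ⟨b, hb⟩) : E) : G) = cm ((α ⟨a, ha⟩ : E) : G) (α ⟨b, hb⟩ : E) from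
          map_cm E.subtype _ _]
      exact cm_mem_phi (α _).2 (α _).2

/-- `[Φ(E),E] Φ(E)^p`. -/
def layer (p : ℕ) (E : Subgroup G) : Subgroup G :=
  closure (Set.image2 cm (phi p E : Set G) (E : Set G) ∪ (fun z => z ^ p) '' (phi p E : Set G))

theorem cm_mem_layer {p : ℕ} {E : Subgroup G} {z v : G} (hz : z ∈ phi p E) (hv : v ∈ E) :
    cm z v ∈ layer p E :=
  subset_closure (Or.inl ⟨z, hz, v, hv, rfl⟩)

theorem cm_mem_layer' {p : ℕ} {E : Subgroup G} {z v : G} (hz : z ∈ phi p E) (hv : v ∈ E) :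
    cm v z ∈ layer p E := by
  rw [cm_swap]
  exact inv_mem (cm_mem_layer hz hv)

theorem pow_mem_layer {p : ℕ} {E : Subgroup G} {z : G} (hz : z ∈ phi p E) : z ^ p ∈ layer p E :=
  subset_closure (Or.inr ⟨z, hz, rfl⟩)

theorem layer_le_iff {p : ℕ} {E N : Subgroup G} :
    layer p E ≤ N ↔ (∀ z ∈ phi p E, ∀ v ∈ E, cm z v ∈ N) ∧ ∀ z ∈ phi p E, z ^ p ∈ N := by
  rw [layer, closure_le, Set.union_subset_iff, Set.image_subset_iff, Set.image2_subset_iff]
  rfl

theorem layer_le {p : ℕ} {E : Subgroup G} : layer p E ≤ phi p E :=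
  layer_le_iff.2 ⟨fun _ hz _ hv => cm_mem_phi (phi_le hz) hv, fun _ hz => pow_mem hz p⟩

theorem layer_map {H : Type*} [Group H] {p : ℕ} (E : Subgroup G) (f : G →* H) :
    (layer p E).map f = layer p (E.map f) := by
  rw [layer, MonoidHom.map_closure, layer, ← phi_map, Set.image_union, Set.image_image, coe_map, coe_map,
    Set.image_image, Set.image_image2, Set.image2_image_left, Set.image2_image_right]
  simp only [map_pow, map_cm]

theorem layer_normal {p : ℕ} {E : Subgroup G} [hE : E.Normal] : (layer p E).Normal := by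
  refine ⟨fun a ha g => ?_⟩
  have h : E.map (MulAut.conj g).toMonoidHom = E := by
    ext v
    rw [Subgroup.mem_map]
    refine ⟨?_, fun hv => ⟨g⁻¹ * v * g, ?_, ?_⟩⟩
    · rintro ⟨w, hw, rfl⟩
      exact hE.conj_mem w hw g
    · simpa using hE.conj_mem v hv g⁻¹
    · show g * (g⁻¹ * v * g) * g⁻¹ = v
      group
  have h1 : (MulAut.conj g).toMonoidHom a ∈ (layer p E).map (MulAut.conj g).toMonoidHom :=
    mem_map_of_mem _ ha
  rwa [layer_map, h] at h1

theorem inv_layer {p : ℕ} (E : Subgroup G) : Inv E (layer p E) := by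
  refine inv_closure ?_ ?_
  · intro x hx
    exact phi_le (p := p) (layer_le (subset_closure hx))
  · rintro α v (⟨a, ha, b, hb, hab⟩ | ⟨w, hw, hwv⟩)
    · rw [show v = cm (⟨a, phi_le ha⟩ : E) ⟨b, hb⟩ from Subtype.ext hab.symm, map_cm,
        show ((cm (α ⟨a, phi_le ha⟩) (α ⟨b, hb⟩) : E) : G) =
          cm ((α ⟨a, phi_le ha⟩ : E) : G) (α ⟨b, hb⟩ : E) from map_cm E.subtype _ _]
      exact cm_mem_layer (inv_phi E α _ ha) (α _).2
    · rw [show v = (⟨w, phi_le hw⟩ : E) ^ p from Subtype.ext hwv.symm, map_pow, SubgroupClass.coe_pow]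
      exact pow_mem_layer (inv_phi E α _ hw)

/-! ### A normal section of order `p ^ 3` in a `p`-group -/

/-- A normal subgroup of order `p ^ 3` contains a normal subgroup of order `p ^ 2` whose centralizer
has index at most `p`. -/
theorem exists_flag [Finite G] {p : ℕ} [hp : Fact p.Prime] (hG : IsPGroup p G) {W : Subgroup G}
    [hW : W.Normal] (hc : Nat.card W = p ^ 3) :
    ∃ H : Subgroup G, H.Normal ∧ H ≤ W ∧ Nat.card H = p ^ 2 ∧
      (centralizer (H : Set G)).index ≤ p := by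
  have hpp := hp.out
  have hord : ∀ {K : Type _} [Group K] [Finite K], IsPGroup p K → ∀ (N : Subgroup K) [N.Normal],
      N ≠ ⊥ → ∃ z ∈ N, z ∈ Subgroup.center K ∧ orderOf z = p := by
    intro K _ _ hK N _ hN
    haveI := hK.isNilpotent
    have h := Solvable.Basics.inf_center_ne_bot hN
    haveI : Nontrivial ↥(N ⊓ Subgroup.center K) := (nontrivial_iff_ne_bot _).2 h
    obtain ⟨z, hz⟩ := exists_prime_orderOf_dvd_card' (G := ↥(N ⊓ Subgroup.center K)) p (by
      obtain ⟨n, hn⟩ := IsPGroup.iff_card.1 (hK.to_subgroup (N ⊓ Subgroup.center K))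
      have h1 : 1 < Nat.card ↥(N ⊓ Subgroup.center K) := Finite.one_lt_card
      rw [hn] at h1 ⊢
      exact dvd_pow_self p fun h0 => by simp [h0] at h1)
    exact ⟨z, z.2.1, z.2.2, by rw [Subgroup.orderOf_coe]; exact hz⟩
  obtain ⟨l, hlW, hlZ, hl⟩ := hord hG W (fun e => by
    rw [e, card_bot] at hc; exact (Nat.one_lt_pow three_ne_zero hpp.one_lt).ne hc)
  set L := zpowers l
  have hLZ : L ≤ center G := zpowers_le.2 hlZ
  haveI : L.Normal := ⟨fun a ha g => by
    rw [mem_center_iff.1 (hLZ ha) g, mul_inv_cancel_right]; exact ha⟩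
  have hLc : Nat.card L = p := (Nat.card_zpowers l).trans hl
  haveI : (W.map (QuotientGroup.mk' L)).Normal := hW.map _ (QuotientGroup.mk'_surjective L)
  obtain ⟨t', ht'W, ht'Z, ht'⟩ := hord (hG.to_quotient L) (W.map (QuotientGroup.mk' L)) (fun e => by
    rw [Subgroup.map_eq_bot_iff, QuotientGroup.ker_mk'] at e
    have h1 := card_le_of_le e
    rw [hc, hLc] at h1
    exact absurd h1 (not_le.2 (lt_self_pow₀ hpp.one_lt (by norm_num))))
  obtain ⟨t, htW, rfl⟩ := ht'W
  set H := (zpowers (QuotientGroup.mk' L t)).comap (QuotientGroup.mk' L) with hH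
  haveI : (zpowers (QuotientGroup.mk' L t)).Normal := ⟨fun a ha g => by
    rw [mem_center_iff.1 (zpowers_le.2 ht'Z ha) g, mul_inv_cancel_right]; exact ha⟩
  have hLW : L ≤ W := zpowers_le.2 hlW
  have hHeq : H = L ⊔ zpowers t := by
    refine map_injective_of_ker_le (QuotientGroup.mk' L) ?_ (by rw [QuotientGroup.ker_mk']; exact le_sup_left) ?_
    · intro a ha
      rw [hH, mem_comap, MonoidHom.mem_ker.1 ha]
      exact one_mem _
    rw [hH, map_comap_eq_self_of_surjective (QuotientGroup.mk'_surjective L), Subgroup.map_sup,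
      QuotientGroup.map_mk'_self, bot_sup_eq, MonoidHom.map_zpowers]
  refine ⟨H, inferInstance, ?_, ?_, ?_⟩
  · rw [hHeq]; exact sup_le hLW (zpowers_le.2 htW)
  · have h1 := card_mul_index H
    rw [hH, index_comap_of_surjective _ (QuotientGroup.mk'_surjective L)] at h1
    have h2 := (zpowers (QuotientGroup.mk' L t)).card_mul_index
    rw [Nat.card_zpowers, ht'] at h2
    have h3 := L.card_mul_index
    rw [hLc, index_eq_card] at h3
    rw [← h3, ← h2, ← mul_assoc] at h1
    rw [pow_two]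
    exact Nat.eq_of_mul_eq_mul_right (Nat.pos_of_ne_zero index_ne_zero_of_finite) h1
  · have hmem : ∀ g, g * t * g⁻¹ * t⁻¹ ∈ L := fun g => by
      rw [← QuotientGroup.eq_one_iff]
      show QuotientGroup.mk' L (g * t * g⁻¹ * t⁻¹) = 1
      rw [map_mul, map_mul, map_mul, map_inv, map_inv, mem_center_iff.1 ht'Z, mul_inv_cancel_right,
        mul_inv_cancel]
    let χ : G →* L := MonoidHom.mk' (fun g => ⟨g * t * g⁻¹ * t⁻¹, hmem g⟩) fun a b => Subtype.ext (by
      show a * b * t * (a * b)⁻¹ * t⁻¹ = a * t * a⁻¹ * t⁻¹ * (b * t * b⁻¹ * t⁻¹)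
      calc a * b * t * (a * b)⁻¹ * t⁻¹ = a * (b * t * b⁻¹ * t⁻¹) * t * a⁻¹ * t⁻¹ := by group
        _ = (b * t * b⁻¹ * t⁻¹) * (a * t * a⁻¹ * t⁻¹) := by
            rw [mem_center_iff.1 (hLZ (hmem b)) a]; group
        _ = _ := (mem_center_iff.1 (hLZ (hmem b)) _).symm)
    have hle : χ.ker ≤ centralizer (H : Set G) := by
      intro g hg
      rw [hHeq, ← closure_eq L, zpowers_eq_closure, ← Subgroup.closure_union, centralizer_closure]
      rintro a (ha | ha)
      · exact (mem_center_iff.1 (hLZ ha) g).symm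
      · have hat : a = t := ha
        have h1 : g * t * g⁻¹ * t⁻¹ = 1 := congrArg Subtype.val hg
        rw [mul_inv_eq_one, mul_inv_eq_iff_eq_mul] at h1
        rw [hat]
        exact h1.symm
    refine (Nat.le_of_dvd (Nat.pos_of_ne_zero index_ne_zero_of_finite) (index_dvd_of_le hle)).trans ?_
    rw [index_ker, ← hLc]
    exact Nat.card_le_card_of_injective _ Subtype.val_injective

end Cfsg.Agent.Fusion.RankThree
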