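import Cfsg.Agent.Lib.Fusion.RankThree.Linear
import Cfsg.Agent.Lib.Fusion.RankThree.Section

/-!
Moving the fixed line of a transvection to an eigenline of a torus; automorphisms stabilizing the series
of a group in normal form.
-/

set_option autoImplicit false
set_option linter.unusedSectionVars false
set_option linter.style.haveILetI false

namespace Cfsg.Agent.Fusion.RankThree

open Subgroup

theorem sectional_subgroup {X : Type*} [Group X] [Finite X] {p k : ℕ}
    (hsr : Cfsg.SectionalPRankLE p k X) (P : Subgroup X) : Cfsg.SectionalPRankLE p k P := by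
  intro H N _ A hA hAp
  let e : H ≃* H.map P.subtype := H.equivMapOfInjective P.subtype P.subtype_injective
  refine pow_card_le_of_sectional hsr (H.map P.subtype)
    ((QuotientGroup.mk' N).comp e.symm.toMonoidHom) ?_
    ⟨fun a ha b hb => congrArg Subtype.val (hA.is_comm.comm ⟨a, ha⟩ ⟨b, hb⟩), hAp⟩
  intro a _
  obtain ⟨h, rfl⟩ := QuotientGroup.mk'_surjective N a
  exact ⟨e h, by simp⟩

variable {V : Type*} [CommGroup V] [Finite V] {p : ℕ} [hp : Fact p.Prime]

set_option maxHeartbeats 800000 in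
/-- Some conjugate of `a` fixes the eigenvector `x`. -/
theorem exists_fix_x (he : ∀ v : V, v ^ p = 1) {A : Type*} [Group A] (φ : A →* MulAut V) {a d : A} {k : ℕ}
    (hak : φ a ^ p ^ k = 1) {x e : V} (hdec : ∀ v, ∃ i j : ℤ, v = x ^ i * e ^ j)
    (huniq : ∀ i j : ℤ, x ^ i * e ^ j = 1 → (p : ℤ) ∣ i ∧ (p : ℤ) ∣ j) {s t : ℤ}
    (hst : (p : ℤ) ∣ s * t - 1) (ht3 : ¬ (p : ℤ) ∣ t ^ 3 - 1) (hdx : φ d x = x ^ (t ^ 2))
    (hde : φ d e = e ^ s) (hae : φ a e ∉ zpowers e) :
    ∃ τ : A, φ (τ * a * τ⁻¹) x = x ∧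
      ∃ r : ℤ, ¬ (p : ℤ) ∣ r ∧ φ (τ * a * τ⁻¹) e = e * x ^ r := by
  have hpp := hp.out
  have hpi := Nat.prime_iff_prime_int.1 hpp
  have hVp := Cfsg.Agent.LocalFlavell.MaxClass.Linear.isPGroup_of_pow he
  have he1 : e ≠ 1 := fun h => by
    have := (huniq 0 1 (by simp [h])).2
    exact hpp.ne_one (Nat.dvd_one.1 (by exact_mod_cast this))
  have hst3 : (p : ℤ) ∣ s ^ 3 * t ^ 3 - 1 := by
    rw [show s ^ 3 * t ^ 3 - 1 = (s * t - 1) * ((s * t) ^ 2 + s * t + 1) by ring]
    exact hst.mul_right _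
  -- the moving element on a basis containing a fixed vector
  obtain ⟨lam, hlam⟩ : ∃ lam : ℤ, φ a (x * e ^ lam) = x * e ^ lam := by
    obtain ⟨w, -, hw1, hw⟩ := Linear.exists_fixed (p := p) he (U := (⊤ : Subgroup V)) (fun h => he1 (by
      simpa using h.le (mem_top e))) (σ := φ a) (fun u _ => mem_top (φ a u)) hak
    obtain ⟨i, j, rfl⟩ := hdec w
    have hi : ¬ (p : ℤ) ∣ i := by
      intro hi
      rw [RankTwoResistant.zpow_eq_of_dvd (he x) (j := 0) (by simpa using hi), zpow_zero, one_mul] at hw hw1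
      have hj : ¬ (p : ℤ) ∣ j := fun hj =>
        hw1 (by rw [RankTwoResistant.zpow_eq_of_dvd (he e) (j := 0) (by simpa using hj), zpow_zero])
      obtain ⟨j', hj'⟩ := RankTwoResistant.exists_inverse hj
      have h1 := congrArg (· ^ j') hw
      simp only [map_zpow, ← zpow_mul, RankTwoResistant.zpow_eq_of_dvd (he (φ a e)) (j := 1) hj',
        RankTwoResistant.zpow_eq_of_dvd (he e) (j := 1) hj', zpow_one] at h1
      exact hae (by rw [h1]; exact mem_zpowers e)
    obtain ⟨i', hi'⟩ := RankTwoResistant.exists_inverse hi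
    refine ⟨j * i', ?_⟩
    have h1 := congrArg (· ^ i') hw
    simp only [map_mul, map_zpow, mul_zpow, ← zpow_mul,
      RankTwoResistant.zpow_eq_of_dvd (he (φ a x)) (j := 1) hi',
      RankTwoResistant.zpow_eq_of_dvd (he x) (j := 1) hi', zpow_one] at h1
    simpa only [map_mul, map_zpow] using h1
  set w := x * e ^ lam with hw
  obtain ⟨r, hr⟩ : ∃ r : ℤ, φ a e = e * w ^ r := by
    have hidx : (zpowers w).relIndex ⊤ ≤ p := by
      have htop : zpowers w ⊔ zpowers e = ⊤ := by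
        refine eq_top_iff.2 fun v _ => ?_
        obtain ⟨i, j, rfl⟩ := hdec v
        rw [show x ^ i * e ^ j = w ^ i * e ^ (j - lam * i) by
          rw [hw, mul_zpow, ← zpow_mul, mul_assoc, ← zpow_add]; congr 2; ring]
        exact mul_mem (mem_sup_left (zpow_mem (mem_zpowers w) i)) (mem_sup_right (zpow_mem (mem_zpowers e) _))
      rw [← htop]
      exact Nat.le_of_dvd hpp.pos
        (Solvable.Basics.relIndex_sup_zpowers_dvd (by rw [he e]; exact one_mem _))
    have h1 := EssentialShape.step_fixed (p := p) hidx (fun v hv => by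
      obtain ⟨n, rfl⟩ := mem_zpowers_iff.1 hv
      rw [map_zpow, hlam]; exact zpow_mem (mem_zpowers w) n) (fun v _ => mem_top (φ a v)) hak e (mem_top e)
    obtain ⟨r, hr⟩ := mem_zpowers_iff.1 h1
    exact ⟨r, by rw [hr, mul_inv_cancel_left]⟩
  have hr0 : ¬ (p : ℤ) ∣ r := fun h => hae (by
    rw [hr, RankTwoResistant.zpow_eq_of_dvd (he w) (j := 0) (by simpa using h), zpow_zero, mul_one]
    exact mem_zpowers e)
  -- it suffices to map the fixed line to the line of `x`
  suffices hτ : ∃ (τ : A) (n : ℤ), ¬ (p : ℤ) ∣ n ∧ φ τ w = x ^ n by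
    obtain ⟨τ, n, hn, hτw⟩ := hτ
    set σ := φ (τ * a * τ⁻¹) with hσ
    have hσfix : σ (x ^ n) = x ^ n := by
      rw [hσ, map_mul, map_mul, map_inv, MulAut.mul_apply, MulAut.mul_apply, ← hτw, MulAut.inv_apply_self, hlam]
    obtain ⟨n', hn'⟩ := RankTwoResistant.exists_inverse hn
    have hσx : σ x = x := by
      rw [← zpow_one x, ← RankTwoResistant.zpow_eq_of_dvd (he x) (i := n * n') (j := 1) hn', zpow_mul,
        map_zpow, hσfix]
    have hσk : σ ^ p ^ k = 1 := by
      rw [hσ, map_mul, map_mul, map_inv, conj_pow, hak, mul_one, mul_inv_cancel]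
    have hidx : (zpowers x).relIndex ⊤ ≤ p := by
      have htop : zpowers x ⊔ zpowers e = ⊤ := by
        refine eq_top_iff.2 fun v _ => ?_
        obtain ⟨i, j, rfl⟩ := hdec v
        exact mul_mem (mem_sup_left (zpow_mem (mem_zpowers x) i)) (mem_sup_right (zpow_mem (mem_zpowers e) _))
      rw [← htop]
      exact Nat.le_of_dvd hpp.pos
        (Solvable.Basics.relIndex_sup_zpowers_dvd (by rw [he e]; exact one_mem _))
    obtain ⟨m, hm⟩ := mem_zpowers_iff.1 (EssentialShape.step_fixed (p := p) hidx (fun v hv => by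
      obtain ⟨i, rfl⟩ := mem_zpowers_iff.1 hv
      rw [map_zpow, hσx]; exact zpow_mem (mem_zpowers x) i) (fun v _ => mem_top (σ v)) hσk e (mem_top e))
    refine ⟨τ, hσx, m, fun hmd => hae ?_, by rw [hm, mul_inv_cancel_left]⟩
    have hσ1 : σ = 1 := MulEquiv.ext fun v => by
      obtain ⟨i, j, rfl⟩ := hdec v
      rw [map_mul, map_zpow, map_zpow, hσx, MulAut.one_apply]
      congr 2
      rw [RankTwoResistant.zpow_eq_of_dvd (he x) (j := 0) (by simpa using hmd), zpow_zero] at hm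
      exact (inv_mul_eq_one.1 hm.symm).symm
    have ha1 : φ a = 1 := by
      rw [hσ, map_mul, map_mul, map_inv] at hσ1
      exact conj_eq_one_iff.1 hσ1
    rw [ha1, MulAut.one_apply]; exact mem_zpowers e
  by_cases hl : (p : ℤ) ∣ lam
  · refine ⟨1, 1, fun h => hpp.ne_one (Nat.dvd_one.1 (by exact_mod_cast h)), ?_⟩
    rw [map_one, MulAut.one_apply, hw, RankTwoResistant.zpow_eq_of_dvd (he e) (j := 0) (by simpa using hl),
      zpow_zero, mul_one, zpow_one]
  -- conjugating by the torus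
  set μ := lam - lam * s ^ 3 with hμ
  have hμ0 : ¬ (p : ℤ) ∣ μ := fun h => by
    rcases hpi.dvd_or_dvd (show (p : ℤ) ∣ lam * (t ^ 3 - 1) by
      rw [show lam * (t ^ 3 - 1) = μ * t ^ 3 + lam * (s ^ 3 * t ^ 3 - 1) by rw [hμ]; ring]
      exact dvd_add (h.mul_right _) (hst3.mul_left _)) with h1 | h1
    · exact hl h1
    · exact ht3 h1
  set w' := x * e ^ (lam * s ^ 3) with hw'
  set σ' := φ (d * a * d⁻¹) with hσ'
  have hdinv : ∀ v u, φ d v = u → (φ d)⁻¹ u = v := fun v u h => by rw [← h, MulAut.inv_apply_self]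
  have hdw : φ d w = w' ^ (t ^ 2) := by
    rw [hw, hw', map_mul, map_zpow, hdx, hde, mul_zpow, ← zpow_mul, ← zpow_mul]
    congr 1
    refine RankTwoResistant.zpow_eq_of_dvd (he e) ?_
    rw [show s * lam - lam * s ^ 3 * t ^ 2 = -((s * t - 1) * (lam * s * (s * t + 1))) by ring]
    exact (hst.mul_right _).neg_right
  have hσ'w : σ' w' = w' := by
    obtain ⟨t', ht'⟩ := RankTwoResistant.exists_inverse (p := p) (r := t ^ 2) (fun h => by
      have h1 := hpi.dvd_of_dvd_pow h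
      have h2 : (p : ℤ) ∣ 1 := by
        rw [show (1 : ℤ) = s * t - (s * t - 1) by ring]; exact dvd_sub (h1.mul_left s) hst
      exact hpp.ne_one (Nat.dvd_one.1 (by exact_mod_cast h2)))
    have h1 : σ' (w' ^ (t ^ 2)) = w' ^ (t ^ 2) := by
      rw [hσ', map_mul, map_mul, map_inv, MulAut.mul_apply, MulAut.mul_apply, hdinv w _ hdw, hlam, hdw]
    rw [← zpow_one w', ← RankTwoResistant.zpow_eq_of_dvd (he w') (i := t ^ 2 * t') (j := 1) ht', zpow_mul,
      map_zpow, h1]
  have hσ'e : σ' e = e * w' ^ (r * t ^ 3) := by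
    have hdet : φ d (e ^ t) = e := by
      rw [map_zpow, hde, ← zpow_mul, RankTwoResistant.zpow_eq_of_dvd (he e) (j := 1) hst, zpow_one]
    rw [hσ', map_mul, map_mul, map_inv, MulAut.mul_apply, MulAut.mul_apply, hdinv _ _ hdet, map_zpow, hr,
      map_zpow, map_mul, map_zpow, hdw, mul_zpow, ← map_zpow, hdet, ← zpow_mul, ← zpow_mul]
    congr 2; ring
  obtain ⟨k0, hk0⟩ := RankTwoResistant.exists_inverse (p := p) (r := s ^ 3 * μ * (r * t ^ 3)) (fun h => by
    rcases hpi.dvd_or_dvd (show (p : ℤ) ∣ μ * r by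
      rw [show μ * r = s ^ 3 * μ * (r * t ^ 3) - μ * r * (s ^ 3 * t ^ 3 - 1) by ring]
      exact dvd_sub h (hst3.mul_left _)) with h1 | h1
    · exact hμ0 h1
    · exact hr0 h1)
  set n := -k0 with hn
  refine ⟨(d * a * d⁻¹) ^ n, 1 + μ * (n * (r * t ^ 3)), fun h => hμ0 ?_, ?_⟩
  · have h2 : (p : ℤ) ∣ s ^ 3 - 1 := by
      rw [show s ^ 3 - 1 = s ^ 3 * (1 + μ * (n * (r * t ^ 3))) + (s ^ 3 * μ * (r * t ^ 3) * k0 - 1) by
        rw [hn]; ring]
      exact dvd_add (h.mul_left _) hk0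
    rw [show μ = -(lam * (s ^ 3 - 1)) by rw [hμ]; ring]
    exact (h2.mul_left _).neg_right
  · have hkey := RankTwoResistant.transvection_zpow (σ := σ') (y := w') (w := e) (r := r * t ^ 3) hσ'w hσ'e n μ 1
    have hwd : w = e ^ μ * w' ^ (1 : ℤ) := by
      rw [hw, hw', hμ, zpow_one, zpow_sub]; simp [mul_comm, mul_left_comm]
    rw [map_zpow, ← hσ', hwd, hkey, hw', mul_zpow, ← zpow_mul, mul_left_comm, ← zpow_add]
    rw [RankTwoResistant.zpow_eq_of_dvd (he e) (i := μ + lam * s ^ 3 * (1 + r * t ^ 3 * n * μ)) (j := 0) ?_,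
      zpow_zero, mul_one, show 1 + r * t ^ 3 * n * μ = 1 + μ * (n * (r * t ^ 3)) by ring]
    rw [show μ + lam * s ^ 3 * (1 + r * t ^ 3 * n * μ) - 0 = -((s ^ 3 * μ * (r * t ^ 3) * k0 - 1) * lam) by
      rw [hn, hμ]; ring]
    exact (hk0.mul_right _).neg_right

/-- The automorphisms stabilizing a series. -/
def stab {G : Type*} [Group G] [Finite G] (S : ℕ → Subgroup G) (n : ℕ) : Subgroup (MulAut G) where
  carrier := {σ | ∀ i < n, ∀ v ∈ S (i + 1), σ v ∈ S (i + 1) ∧ v⁻¹ * σ v ∈ S i}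
  one_mem' := fun i _ v hv => ⟨hv, by simp [one_mem]⟩
  mul_mem' := by
    intro σ τ hσ hτ i hi v hv
    obtain ⟨h1, h2⟩ := hτ i hi v hv
    obtain ⟨h3, h4⟩ := hσ i hi _ h1
    refine ⟨h3, ?_⟩
    have := mul_mem h2 h4
    rwa [mul_assoc, mul_inv_cancel_left] at this
  inv_mem' := by
    intro σ hσ i hi v hv
    have hsur : Function.Surjective (fun w : S (i + 1) => (⟨σ w, (hσ i hi w w.2).1⟩ : S (i + 1))) :=
      Finite.surjective_of_injective fun a b h => Subtype.ext (σ.injective (congrArg Subtype.val h))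
    obtain ⟨w, hw⟩ := hsur ⟨v, hv⟩
    have hwv : σ w = v := congrArg Subtype.val hw
    have hinv : σ⁻¹ v = w := by rw [← hwv, MulAut.inv_apply_self]
    rw [hinv]
    refine ⟨w.2, ?_⟩
    have := inv_mem (hσ i hi w w.2).2
    rwa [mul_inv_rev, inv_inv, hwv] at this

theorem stab_pow_eq_one {G : Type*} [Group G] [Finite G] {p : ℕ} [Fact p.Prime] (hG : IsPGroup p G)
    {S : ℕ → Subgroup G} {n : ℕ} (h0 : S 0 = ⊥) (hn : S n = ⊤) (hmono : ∀ i < n, S i ≤ S (i + 1))
    {σ : MulAut G} (hσ : σ ∈ stab S n) : ∃ k : ℕ, σ ^ p ^ k = 1 :=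
  Normal.exists_pow_eq_one_of_stabilizes hG S n h0 hn hmono σ fun i hi x hx => (hσ i hi x hx).2

end Cfsg.Agent.Fusion.RankThree
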