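import Cfsg.Agent.LocalFlavell.MaxClass.Linear

/-!
Groups of automorphisms of an elementary abelian group of order `p ^ 3` with a strongly `p`-embedded
subgroup: an adapted basis for a transvection, irreducibility for a single block.
-/

set_option autoImplicit false
set_option linter.unusedSectionVars false
set_option linter.style.haveILetI false

namespace Cfsg.Agent.Fusion.RankThree.Linear

open Subgroup
open Cfsg.Agent.Fusion
open Cfsg.Agent.LocalFlavell.MaxClass.Linear (Trans isPGroup_closure isPGroup_of_pow isPGroup_pair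
  exists_conj_Y zpow_fix)

variable {Q : Type*} [CommGroup Q] [Finite Q] {p : ℕ} [hp : Fact p.Prime]
variable {X : Subgroup (MulAut Q)} {Y : Subgroup X} {P : Sylow p X}

set_option maxHeartbeats 800000 in
/-- An adapted basis for a transvection, and the diagonal automorphisms. -/
theorem transvection_basis (he : ∀ q : Q, q ^ p = 1) (hQ3 : Nat.card Q = p ^ 3)
    (hY : ∀ A : Subgroup X, A ≤ P → A ≠ ⊥ → normalizer (A : Set X) ≤ Y) (hYtop : Y ≠ ⊤)
    {a : X} (haP : a ∈ (P : Subgroup X)) (ha1 : a ≠ 1) {W : Subgroup Q} (hW : Nat.card W = p ^ 2)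
    (haW : ∀ x ∈ W, (a : MulAut Q) x = x) (haQ : ∀ x, (a : MulAut Q) x / x ∈ W) :
    ∃ u v q : Q, (∀ x, ∃ A B C : ℤ, x = u ^ A * v ^ B * q ^ C) ∧
      (a : MulAut Q) u = u ∧ (a : MulAut Q) v = v * u ∧ (a : MulAut Q) q = q ∧
      (∃ b ∈ X, b u = u * v ∧ b v = v ∧ b q = q) ∧
      ∀ t h : ℤ, (p : ℤ) ∣ t * h - 1 → ∃ δ ∈ X, δ u = u ^ t ∧ δ v = v ^ h ∧ δ q = q := by
  have hpp := hp.out
  have hQp := isPGroup_of_pow he
  have hPne : (P : Subgroup X) ≠ ⊥ := fun h => ha1 (by rwa [h, mem_bot] at haP)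
  have hPY : (P : Subgroup X) ≤ Y := le_normalizer.trans (hY _ le_rfl hPne)
  have hinvp : ∀ (q : Q) (k : ℤ), ¬ (p : ℤ) ∣ k → ∃ k' : ℤ, (q ^ k) ^ k' = q := fun q k hk => by
    obtain ⟨k', hk'⟩ := RankTwoResistant.exists_inverse hk
    exact ⟨k', by rw [← zpow_mul, RankTwoResistant.zpow_eq_of_dvd (he q) (j := 1) hk', zpow_one]⟩
  have hsup : ∀ {C : Subgroup Q}, Nat.card C = p ^ 2 → ∀ {x : Q}, x ∉ C → ∀ y, ∃ w ∈ C, ∃ k : ℤ, y = w * x ^ k := by
    intro C hC x hx y
    have htop : C ⊔ zpowers x = ⊤ := by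
      refine Subgroup.eq_top_of_le_card _ ?_
      obtain ⟨i, hi⟩ := IsPGroup.iff_card.mp (hQp.to_subgroup (C ⊔ zpowers x))
      have h1 : Nat.card C < Nat.card (C ⊔ zpowers x : Subgroup Q) := lt_of_not_ge fun hge =>
        hx ((eq_of_le_of_card_ge le_sup_left hge).symm ▸ mem_sup_right (mem_zpowers x))
      rw [hC, hi, Nat.pow_lt_pow_iff_right hpp.one_lt] at h1
      rw [hQ3, hi]
      exact Nat.pow_le_pow_right hpp.pos h1
    obtain ⟨w, hw, z, hz, rfl⟩ := mem_sup.mp (htop.ge (mem_top y))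
    obtain ⟨k, rfl⟩ := mem_zpowers_iff.mp hz
    exact ⟨w, hw, k, rfl⟩
  have hmeet : ∀ {C D : Subgroup Q}, Nat.card C = p ^ 2 → Nat.card D = p ^ 2 → ∃ q ∈ C, q ∈ D ∧ q ≠ 1 := by
    intro C D hC hD
    by_contra h
    push Not at h
    have h' : C ⊓ D = ⊥ := (eq_bot_iff_forall _).mpr fun x hx => h x hx.1 hx.2
    have h1 : D.relIndex C ≤ D.index :=
      Nat.le_of_dvd (Nat.pos_of_ne_zero index_ne_zero_of_finite) (Subgroup.relIndex_dvd_index_of_normal _ _)
    rw [← inf_relIndex_right, inf_comm, h', relIndex_bot_left, hC] at h1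
    have h2 := D.card_mul_index
    rw [hD, hQ3] at h2
    have h3 := Nat.eq_of_mul_eq_mul_left (pow_pos hpp.pos 2) (h2.trans (pow_succ p 2))
    rw [h3] at h1
    exact absurd h1 (by
      rw [pow_two]; exact not_le.mpr (lt_mul_of_one_lt_right hpp.pos hpp.one_lt))
  -- a transvection outside the block of `a`
  obtain ⟨g, hg⟩ : ∃ g, g ∉ Y := by
    by_contra h; push Not at h; exact hYtop (eq_top_iff.mpr fun x _ => h x)
  obtain ⟨x0, hx0⟩ : ∃ x0, x0 ∉ W := by
    by_contra h
    push Not at h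
    rw [(eq_top_iff.mpr fun x _ => h x : W = ⊤), card_top, hQ3] at hW
    exact absurd (Nat.pow_right_injective hpp.two_le hW) (by omega)
  set u0 := (a : MulAut Q) x0 / x0 with hu0
  have hta : Trans (a : MulAut Q) W u0 := by
    refine ⟨haQ x0, haW, fun y => ?_⟩
    obtain ⟨w, hw, k, rfl⟩ := hsup hW hx0 y
    refine mem_zpowers_iff.mpr ⟨k, ?_⟩
    rw [map_mul, haW w hw, map_zpow, mul_div_mul_left_eq_div, ← div_zpow]
  -- `p`-groups connect blocks
  have hblock : ∀ {c d : X}, IsPGroup p (closure ({(c : MulAut Q), (d : MulAut Q)} : Set (MulAut Q))) →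
      ∃ e : X, e⁻¹ * c * e ∈ (P : Subgroup X) ∧ e⁻¹ * d * e ∈ (P : Subgroup X) := by
    intro c d hcd
    set H := (closure ({(c : MulAut Q), (d : MulAut Q)} : Set (MulAut Q))).subgroupOf X
    have hH : IsPGroup p H := hcd.comap_of_injective X.subtype X.subtype_injective
    obtain ⟨e, he'⟩ := Saturation.exists_conj_le_sylow P hH
    refine ⟨e⁻¹, ?_, ?_⟩
    · rw [inv_inv]; exact he' _ (mem_subgroupOf.mpr (subset_closure (Or.inl rfl)))
    · rw [inv_inv]; exact he' _ (mem_subgroupOf.mpr (subset_closure (Or.inr rfl)))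
  have hab : ∀ e : X, e⁻¹ * a * e ∈ (P : Subgroup X) → e ∈ Y := fun e h => by
    have := Embedded.mem_of_conj hY haP ha1 (a := e⁻¹) (by rwa [inv_inv])
    simpa using Y.inv_mem this
  set b0 : X := g * a * g⁻¹ with hb0
  have hb0a : ∀ e : X, e⁻¹ * b0 * e ∈ (P : Subgroup X) → e ∉ Y := by
    intro e h heY
    refine hg ?_
    have h1 : (g⁻¹ * e)⁻¹ * a * (g⁻¹ * e) ∈ (P : Subgroup X) := by
      rw [show (g⁻¹ * e)⁻¹ * a * (g⁻¹ * e) = e⁻¹ * b0 * e by rw [hb0]; group]; exact h
    have h2 := Y.mul_mem heY (Y.inv_mem (hab _ h1))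
    rwa [mul_inv_rev, inv_inv, mul_inv_cancel_left] at h2
  set W' := W.map (g : MulAut Q).toMonoidHom with hW'def
  have hW' : Nat.card W' = p ^ 2 := by
    rw [card_map_of_injective (g : MulAut Q).injective]; exact hW
  set v := (g : MulAut Q) u0
  have htb0 : Trans (b0 : MulAut Q) W' v := hta.symm_conj
  have hu0W' : u0 ∉ W' := fun h => by
    obtain ⟨e, h1, h2⟩ := hblock (isPGroup_pair he hQ3 hta htb0 hW' h)
    exact hb0a e h2 (hab e h1)
  have hvW : v ∉ W := fun h => by
    obtain ⟨e, h1, h2⟩ := hblock (isPGroup_pair he hQ3 htb0 hta hW h)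
    exact hb0a e h1 (hab e h2)
  -- the basis
  set u := (a : MulAut Q) v / v with hu
  have huW : u ∈ W := haQ v
  have hav : (a : MulAut Q) v = v * u := by rw [hu, mul_div_cancel]
  have hu1 : u ≠ 1 := fun h => by
    refine ha1 (Subtype.ext (MulEquiv.ext fun y => ?_))
    obtain ⟨w, hw, k, rfl⟩ := hsup hW hvW y
    rw [map_mul, haW w hw, map_zpow, hav, h, mul_one, Subgroup.coe_one, MulAut.one_apply]
  have htu : Trans (a : MulAut Q) W u := by
    refine ⟨huW, haW, fun y => ?_⟩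
    obtain ⟨w, hw, k, rfl⟩ := hsup hW hvW y
    refine mem_zpowers_iff.mpr ⟨k, ?_⟩
    rw [map_mul, haW w hw, map_zpow, mul_div_mul_left_eq_div, ← div_zpow]
  have huW' : u ∉ W' := fun h => by
    obtain ⟨e, h1, h2⟩ := hblock (isPGroup_pair he hQ3 htu htb0 hW' h)
    exact hb0a e h2 (hab e h1)
  have hvW' : v ∈ W' := htb0.1
  obtain ⟨k, hk⟩ := mem_zpowers_iff.mp (htb0.2.2 u)
  have hk0 : ¬ (p : ℤ) ∣ k := fun h => by
    have hfix : (b0 : MulAut Q) u = u := by
      rw [← div_eq_one, ← hk, RankTwoResistant.zpow_eq_of_dvd (he v) (j := 0) (by simpa using h), zpow_zero]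
    have hb1 : b0 = 1 := Subtype.ext (MulEquiv.ext fun y => by
      obtain ⟨w, hw, j, rfl⟩ := hsup hW' huW' y
      rw [map_mul, htb0.2.1 w hw, map_zpow, hfix, Subgroup.coe_one, MulAut.one_apply])
    rw [hb0] at hb1
    exact ha1 (conj_eq_one_iff.mp hb1)
  obtain ⟨k', hk'⟩ := RankTwoResistant.exists_inverse hk0
  set b : X := b0 ^ k' with hb
  have hbu : ∀ (i : ℤ), ((b0 : MulAut Q) ^ i) u = u * v ^ (k * i) := by
    intro i
    have := RankTwoResistant.transvection_zpow (y := v) (w := u) (r := k) (htb0.2.1 v hvW')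
      (by rw [hk, mul_div_cancel]) i 1 0
    simpa using this
  have hbu1 : (b : MulAut Q) u = u * v := by
    rw [hb, SubgroupClass.coe_zpow, hbu, RankTwoResistant.zpow_eq_of_dvd (he v) (j := 1) hk', zpow_one]
  have hbW' : ∀ x ∈ W', (b : MulAut Q) x = x := fun x hx => by
    rw [hb, SubgroupClass.coe_zpow]
    exact zpow_fix (htb0.2.1 x hx) k'
  have htb : Trans (b : MulAut Q) W' v := ⟨hvW', hbW', fun y => by
    obtain ⟨w, hw, j, rfl⟩ := hsup hW' huW' y
    refine mem_zpowers_iff.mpr ⟨j, ?_⟩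
    rw [map_mul, hbW' w hw, map_zpow, mul_div_mul_left_eq_div, ← div_zpow, hbu1, mul_div_cancel_left]⟩
  have hb0b : ∀ e : X, e⁻¹ * b * e ∈ (P : Subgroup X) → e⁻¹ * b0 * e ∈ (P : Subgroup X) := fun e h => by
    have h1 := (P : Subgroup X).zpow_mem h k
    rw [show e⁻¹ * b * e = e⁻¹ * b * (e⁻¹)⁻¹ by rw [inv_inv], conj_zpow, inv_inv] at h1
    have hbk : b ^ k = b0 := by
      rw [hb, ← zpow_mul]
      refine (RankTwoResistant.zpow_eq_of_dvd (p := p) ?_ (j := 1) ?_).trans (zpow_one _)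
      · exact Subtype.ext (by have := htb0.pow_eq he; rwa [pow_one] at this)
      · rwa [mul_comm]
    rwa [hbk] at h1
  -- powers of `a`
  have hai : ∀ (i : ℤ), ((a : MulAut Q) ^ i) v = v * u ^ i := by
    intro i
    have := RankTwoResistant.transvection_zpow (y := u) (w := v) (r := 1) (haW u huW)
      (by rw [zpow_one]; exact hav) i 1 0
    simpa using this
  have haiW : ∀ (i : ℤ), ∀ x ∈ W, ((a : MulAut Q) ^ i) x = x :=
    fun i x hx => zpow_fix (haW x hx) i
  obtain ⟨q, hqW, hqW', hq1⟩ := hmeet hW hW'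
  have hdec : ∀ x, ∃ A B C : ℤ, x = u ^ A * v ^ B * q ^ C := by
    intro x
    obtain ⟨w, hw, B, rfl⟩ := hsup hW hvW x
    obtain ⟨z, hz, A, hzA⟩ := hsup hW' huW' w
    have hzW : z ∈ W := by
      have := mul_mem hw (inv_mem (zpow_mem huW A)); rwa [hzA, mul_inv_cancel_right] at this
    have : z ∈ zpowers q := by
      by_contra hzq
      have hle : W ≤ W' := by
        have h2 : zpowers q ⊔ zpowers z = W := by
          refine eq_of_le_of_card_ge (sup_le (zpowers_le.mpr hqW) (zpowers_le.mpr hzW)) ?_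
          obtain ⟨i, hi⟩ := IsPGroup.iff_card.mp (hQp.to_subgroup (zpowers q ⊔ zpowers z))
          have h1 : Nat.card (zpowers q) < Nat.card (zpowers q ⊔ zpowers z : Subgroup Q) := lt_of_not_ge
            fun hge => hzq ((eq_of_le_of_card_ge le_sup_left hge).symm ▸ mem_sup_right (mem_zpowers z))
          rw [Nat.card_zpowers, orderOf_eq_prime (he q) hq1, hi] at h1
          rw [hW, hi]
          have h1' : p ^ 1 < p ^ i := by rwa [pow_one]
          exact Nat.pow_le_pow_right hpp.pos ((Nat.pow_lt_pow_iff_right hpp.one_lt).mp h1')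
        rw [← h2]
        exact sup_le (zpowers_le.mpr hqW') (zpowers_le.mpr hz)
      exact huW' (hle huW)
    obtain ⟨C, rfl⟩ := mem_zpowers_iff.mp this
    exact ⟨A, B, C, by rw [hzA]; ac_rfl⟩
  refine ⟨u, v, q, hdec, haW u huW, hav, haW q hqW,
    ⟨b, b.2, hbu1, hbW' v hvW', hbW' q hqW'⟩, fun t h hth => ?_⟩
  have eA : ∀ i A B C : ℤ, ((a : MulAut Q) ^ i) (u ^ A * v ^ B * q ^ C) = u ^ (A + i * B) * v ^ B * q ^ C := by
    intro i A B C
    rw [map_mul, map_mul, map_zpow, map_zpow, map_zpow, haiW i u huW, hai, haiW i q hqW, mul_zpow,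
      ← zpow_mul, zpow_add]
    ac_rfl
  have hbiu : ∀ i : ℤ, ((b : MulAut Q) ^ i) u = u * v ^ i := fun i => by
    have := RankTwoResistant.transvection_zpow (y := v) (w := u) (r := 1) (hbW' v hvW')
      (by rw [zpow_one]; exact hbu1) i 1 0
    simpa using this
  have hbiW : ∀ (i : ℤ), ∀ x ∈ W', ((b : MulAut Q) ^ i) x = x :=
    fun i x hx => zpow_fix (hbW' x hx) i
  have eB : ∀ i A B C : ℤ, ((b : MulAut Q) ^ i) (u ^ A * v ^ B * q ^ C) = u ^ A * v ^ (B + i * A) * q ^ C := by
    intro i A B C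
    rw [map_mul, map_mul, map_zpow, map_zpow, map_zpow, hbiu, hbiW i v hvW', hbiW i q hqW', mul_zpow,
      ← zpow_mul, zpow_add]
    ac_rfl
  let δ : MulAut Q := (a : MulAut Q) ^ t * (b : MulAut Q) ^ (-h) * (a : MulAut Q) ^ t *
    (a : MulAut Q) ^ (-1 : ℤ) * (b : MulAut Q) ^ (1 : ℤ) * (a : MulAut Q) ^ (-1 : ℤ)
  have eδ : ∀ A B C : ℤ, δ (u ^ A * v ^ B * q ^ C) = u ^ (t * A) * v ^ (h * B) * q ^ C := by
    intro A B C
    obtain ⟨s, hs⟩ := hth
    simp only [δ, MulAut.mul_apply, eA, eB]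
    congr 2
    · refine RankTwoResistant.zpow_eq_of_dvd (he u) ?_
      exact ⟨-(s * (-B + t * A)), by linear_combination (B - t * A) * hs⟩
    · refine RankTwoResistant.zpow_eq_of_dvd (he v) ?_
      exact ⟨-(s * A), by linear_combination (-A) * hs⟩
  refine ⟨δ, mul_mem (mul_mem (mul_mem (mul_mem (mul_mem (zpow_mem a.2 _) (zpow_mem b.2 _)) (zpow_mem a.2 _))
      (zpow_mem a.2 _)) (zpow_mem b.2 _)) (zpow_mem a.2 _), ?_, ?_, ?_⟩
  · simpa using eδ 1 0 0
  · simpa using eδ 0 1 0
  · simpa using eδ 0 0 1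

theorem exists_fixed (he : ∀ q : Q, q ^ p = 1) {U : Subgroup Q} (hU : U ≠ ⊥) {σ : MulAut Q}
    (hσU : ∀ u ∈ U, σ u ∈ U) {k : ℕ} (hσ : σ ^ p ^ k = 1) : ∃ u ∈ U, u ≠ 1 ∧ σ u = u := by
  classical
  have hinj : Function.Injective (fun y : U => (⟨σ y, hσU y y.2⟩ : U)) :=
    fun u v h => Subtype.ext (σ.injective (congrArg Subtype.val h))
  let τ : Equiv.Perm U := Equiv.ofBijective _ ⟨hinj, Finite.surjective_of_injective hinj⟩
  have hpow : ∀ n : ℕ, ∀ y : U, ((τ ^ n) y : Q) = (σ ^ n) y := by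
    intro n
    induction n with
    | zero => intro y; rfl
    | succ n ih =>
      intro y
      rw [pow_succ', pow_succ', Equiv.Perm.mul_apply, MulAut.mul_apply, ← ih]
      rfl
  have hτ : τ ^ p ^ k = 1 := Equiv.ext fun y => Subtype.ext (by rw [hpow, hσ]; rfl)
  have hpg : IsPGroup p (zpowers τ) := by
    obtain ⟨i, -, hi⟩ := (Nat.dvd_prime_pow hp.out).mp (orderOf_dvd_of_pow_eq_one hτ)
    exact IsPGroup.of_card (n := i) (by rw [Nat.card_zpowers, hi])
  haveI : Nontrivial U := (nontrivial_iff_ne_bot U).2 hU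
  obtain ⟨y, hy, hy1⟩ := hpg.exists_fixed_point_of_prime_dvd_card_of_fixed_point U
    (by
      obtain ⟨n, hn⟩ := IsPGroup.iff_card.1 ((isPGroup_of_pow he).to_subgroup U)
      have h1 : 1 < Nat.card U := Finite.one_lt_card
      rw [hn] at h1 ⊢
      exact dvd_pow_self p fun h0 => by simp [h0] at h1)
    (a := (1 : U)) (fun g => by
      obtain ⟨n, hn⟩ := mem_zpowers_iff.mp g.2
      show (g : Equiv.Perm U) 1 = 1
      rw [← hn]
      exact Equiv.Perm.zpow_apply_eq_self_of_apply_eq_self (Subtype.ext (map_one σ)) n)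
  refine ⟨y, y.2, fun e => hy1 (Subtype.ext e.symm), ?_⟩
  exact congrArg Subtype.val (hy ⟨τ, mem_zpowers τ⟩)

/-- Two automorphisms of `p`-power order of a group of order `p ^ 2` that do not generate a `p`-group
generate the inversion. -/
theorem exists_inversion (he : ∀ q : Q, q ^ p = 1) (hQ2 : Nat.card Q = p ^ 2) {α β : MulAut Q}
    {m n : ℕ} (hα : α ^ p ^ m = 1) (hβ : β ^ p ^ n = 1)
    (hne : ¬ IsPGroup p (closure ({α, β} : Set (MulAut Q)))) :
    ∃ w ∈ closure ({α, β} : Set (MulAut Q)), ∀ v, w v = v⁻¹ := by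
  have hQp := isPGroup_of_pow he
  have hQne : (⊤ : Subgroup Q) ≠ ⊥ := fun h => by
    have h1 := congrArg (fun K : Subgroup Q => Nat.card K) h
    simp only [card_top, card_bot, hQ2] at h1
    exact (Nat.one_lt_pow two_ne_zero hp.out.one_lt).ne' h1
  have hidx : ∀ z : Q, z ≠ 1 → (zpowers z).relIndex ⊤ ≤ p ∧ Nat.card (zpowers z) = p := fun z hz => by
    have h1 : Nat.card (zpowers z) = p := by rw [Nat.card_zpowers, orderOf_eq_prime (he z) hz]
    have h2 := (zpowers z).card_mul_index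
    rw [h1, hQ2, pow_two] at h2
    exact ⟨by rw [relIndex_top_right]; exact (Nat.eq_of_mul_eq_mul_left hp.out.pos h2).le, h1⟩
  have hline : ∀ z : Q, z ≠ 1 → α z = z → β z = z → False := by
    intro z hz hαz hβz
    obtain ⟨h1, h2⟩ := hidx z hz
    refine hne (isPGroup_closure hQp _ (fun i => if i = 0 then ⊥ else if i = 1 then zpowers z else ⊤) 2 rfl rfl
      ?_ ?_ ?_ ?_)
    · intro i hi; interval_cases i <;> simp
    · intro i hi
      interval_cases i
      · simp only [if_true, zero_add, one_ne_zero, if_false, relIndex_bot_left, h2, le_refl]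
      · simpa using h1
    · rintro c (rfl | rfl)
      · exact ⟨m, hα⟩
      · exact ⟨n, hβ⟩
    · intro c hc i hi x hx
      interval_cases i
      · simp only [if_true, mem_bot] at hx ⊢; rw [hx, map_one]
      · simp only [one_ne_zero, if_false, if_true] at hx ⊢
        obtain ⟨k, rfl⟩ := mem_zpowers_iff.mp hx
        rcases hc with rfl | rfl
        · rw [map_zpow, hαz]; exact zpow_mem (mem_zpowers z) k
        · rw [map_zpow, hβz]; exact zpow_mem (mem_zpowers z) k
      · simp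
  obtain ⟨u, -, hu1, hαu⟩ := exists_fixed (p := p) he hQne (fun u _ => mem_top (α u)) hα
  obtain ⟨v, -, hv1, hβv⟩ := exists_fixed (p := p) he hQne (fun u _ => mem_top (β u)) hβ
  have hprime : (zpowers u ⊔ zpowers v : Subgroup Q) = ⊤ := by
    refine eq_top_of_le_card _ ?_
    rw [hQ2, pow_two]
    calc p * p = p * Nat.card (zpowers u) := by rw [(hidx u hu1).2]
      _ ≤ _ := by
        obtain ⟨i, hi⟩ := IsPGroup.iff_card.mp (hQp.to_subgroup (zpowers u ⊔ zpowers v))
        have h1 : Nat.card (zpowers u) < Nat.card (zpowers u ⊔ zpowers v : Subgroup Q) := lt_of_not_ge fun hge => by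
          obtain ⟨k, rfl⟩ := mem_zpowers_iff.mp ((eq_of_le_of_card_ge le_sup_left hge).symm ▸
            mem_sup_right (mem_zpowers v) : v ∈ zpowers u)
          exact hline _ hv1 (by rw [map_zpow, hαu]) hβv
        rw [(hidx u hu1).2, hi] at h1 ⊢
        rw [← pow_two]
        exact Nat.pow_le_pow_right hp.out.pos (by
          by_contra h
          interval_cases i
          · simp at h1; exact absurd h1 hp.out.ne_zero
          · simp at h1)
  have hdec : ∀ x, ∃ A B : ℤ, x = v ^ A * u ^ B := fun x => by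
    obtain ⟨y, hy, z, hz, rfl⟩ := mem_sup.mp (hprime.ge (mem_top x))
    obtain ⟨B, rfl⟩ := mem_zpowers_iff.mp hy
    obtain ⟨A, rfl⟩ := mem_zpowers_iff.mp hz
    exact ⟨A, B, mul_comm _ _⟩
  have hstep : ∀ (σ : MulAut Q) (k : ℕ) (z y : Q), σ ^ p ^ k = 1 → z ≠ 1 → σ z = z → σ y / y ∈ zpowers z := by
    intro σ k z y hσ hz hσz
    have h := EssentialShape.step_fixed (p := p) (hidx z hz).1 (fun x hx => by
      obtain ⟨j, rfl⟩ := mem_zpowers_iff.mp hx
      rw [map_zpow, hσz]; exact zpow_mem (mem_zpowers z) j) (fun x _ => mem_top (σ x)) hσ y (mem_top y)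
    rwa [mul_comm, ← div_eq_mul_inv] at h
  obtain ⟨r, hr⟩ := mem_zpowers_iff.mp (hstep α m u v hα hu1 hαu)
  obtain ⟨k, hk⟩ := mem_zpowers_iff.mp (hstep β n v u hβ hv1 hβv)
  have hr0 : ¬ (p : ℤ) ∣ r := fun h => hline v hv1 (by
    rw [← div_eq_one, ← hr, RankTwoResistant.zpow_eq_of_dvd (he u) (j := 0) (by simpa using h), zpow_zero]) hβv
  have hk0 : ¬ (p : ℤ) ∣ k := fun h => hline u hu1 hαu (by
    rw [← div_eq_one, ← hk, RankTwoResistant.zpow_eq_of_dvd (he v) (j := 0) (by simpa using h), zpow_zero])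
  obtain ⟨r', hr'⟩ := RankTwoResistant.exists_inverse hr0
  obtain ⟨k', hk'⟩ := RankTwoResistant.exists_inverse hk0
  have eα : ∀ A B : ℤ, (α ^ r') (v ^ A * u ^ B) = v ^ A * u ^ (B + A) := fun A B => by
    rw [RankTwoResistant.transvection_zpow hαu (by rw [hr, mul_div_cancel]) r' A B]
    congr 1
    refine RankTwoResistant.zpow_eq_of_dvd (he u) ?_
    rw [show B + r * r' * A - (B + A) = (r * r' - 1) * A by ring]
    exact hr'.mul_right A
  have eβ : ∀ A B : ℤ, (β ^ (-k')) (v ^ A * u ^ B) = v ^ (A - B) * u ^ B := fun A B => by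
    rw [mul_comm (v ^ A), RankTwoResistant.transvection_zpow hβv (by rw [hk, mul_div_cancel]) (-k') B A,
      mul_comm]
    congr 1
    refine RankTwoResistant.zpow_eq_of_dvd (he v) ?_
    rw [show A + k * -k' * B - (A - B) = (k * k' - 1) * (-B) by ring]
    exact hk'.mul_right _
  have hαc : α ∈ closure ({α, β} : Set (MulAut Q)) := subset_closure (Or.inl rfl)
  have hβc : β ∈ closure ({α, β} : Set (MulAut Q)) := subset_closure (Or.inr rfl)
  refine ⟨(α ^ r' * β ^ (-k') * α ^ r') * (α ^ r' * β ^ (-k') * α ^ r'), ?_, fun x => ?_⟩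
  · exact mul_mem (mul_mem (mul_mem (zpow_mem hαc _) (zpow_mem hβc _)) (zpow_mem hαc _))
      (mul_mem (mul_mem (zpow_mem hαc _) (zpow_mem hβc _)) (zpow_mem hαc _))
  · obtain ⟨A, B, rfl⟩ := hdec x
    simp only [MulAut.mul_apply, eα, eβ]
    rw [mul_inv, ← zpow_neg, ← zpow_neg]
    congr 2 <;> ring

/-- The common part of the two cases of `irreducible`. -/
theorem exists_lift {V : Type*} [CommGroup V] [Finite V] (hVe : ∀ v : V, v ^ p = 1)
    (hV2 : Nat.card V = p ^ 2) {a b : MulAut Q} {k l : ℕ} (ha : a ^ p ^ k = 1) (hb : b ^ p ^ l = 1)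
    (res : closure ({a, b} : Set (MulAut Q)) →* MulAut V)
    (hker : ∀ σ, res σ = 1 → ∃ j : ℕ, σ ^ p ^ j = 1)
    (hne : ¬ IsPGroup p (closure ({a, b} : Set (MulAut Q)))) :
    ∃ w, ∀ v, res w v = v⁻¹ := by
  set a' : closure ({a, b} : Set (MulAut Q)) := ⟨a, subset_closure (Or.inl rfl)⟩
  set b' : closure ({a, b} : Set (MulAut Q)) := ⟨b, subset_closure (Or.inr rfl)⟩
  have hmem : ∀ σ, res σ ∈ closure ({res a', res b'} : Set (MulAut V)) := by
    rintro ⟨σ, hσ⟩
    induction hσ using closure_induction with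
    | mem c hc =>
      rcases hc with rfl | rfl
      · exact subset_closure (Or.inl rfl)
      · exact subset_closure (Or.inr rfl)
    | one => exact (map_one res).symm ▸ one_mem _
    | mul x y hx hy ihx ihy =>
      rw [show (⟨x * y, mul_mem hx hy⟩ : closure ({a, b} : Set (MulAut Q))) = ⟨x, hx⟩ * ⟨y, hy⟩ from rfl,
        map_mul]
      exact mul_mem ihx ihy
    | inv x hx ihx =>
      rw [show (⟨x⁻¹, inv_mem hx⟩ : closure ({a, b} : Set (MulAut Q))) = ⟨x, hx⟩⁻¹ from rfl, map_inv]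
      exact inv_mem ihx
  obtain ⟨w, hw, hwv⟩ := exists_inversion hVe hV2 (α := res a') (β := res b') (m := k) (n := l)
    (by rw [← map_pow, show a' ^ p ^ k = 1 from Subtype.ext ha, map_one])
    (by rw [← map_pow, show b' ^ p ^ l = 1 from Subtype.ext hb, map_one]) (fun hp' => hne fun σ => by
      obtain ⟨i, hi⟩ := hp' ⟨res σ, hmem σ⟩
      obtain ⟨j, hj⟩ := hker (σ ^ p ^ i) (by rw [map_pow]; exact congrArg Subtype.val hi)
      exact ⟨i + j, by rw [pow_add, pow_mul, hj]⟩)
  have hle : closure ({res a', res b'} : Set (MulAut V)) ≤ res.range := by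
    rw [closure_le]
    rintro _ (rfl | rfl)
    · exact ⟨a', rfl⟩
    · exact ⟨b', rfl⟩
  obtain ⟨w', rfl⟩ := hle hw
  exact ⟨w', hwv⟩

theorem stabilizer_trivial (he : ∀ q : Q, q ^ p = 1)
    (hY : ∀ A : Subgroup X, A ≤ P → A ≠ ⊥ → normalizer (A : Set X) ≤ Y) (hYtop : Y ≠ ⊤)
    {U : Subgroup Q} (hU : ∀ σ ∈ X, ∀ u ∈ U, σ u ∈ U) {σ : MulAut Q} (hσ : σ ∈ X)
    (h1 : ∀ u ∈ U, σ u = u) (h2 : ∀ v, σ v / v ∈ U) : σ = 1 := by
  let N : Subgroup X :=
    { carrier := {τ | (∀ u ∈ U, (τ : MulAut Q) u = u) ∧ ∀ v, (τ : MulAut Q) v / v ∈ U}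
      one_mem' := ⟨fun u _ => rfl, fun v => by simp⟩
      mul_mem' := by
        rintro τ ρ ⟨a1, a2⟩ ⟨b1, b2⟩
        refine ⟨fun u hu => by rw [coe_mul, MulAut.mul_apply, b1 u hu, a1 u hu], fun v => ?_⟩
        rw [coe_mul, MulAut.mul_apply, ← div_mul_div_cancel ((τ : MulAut Q) ((ρ : MulAut Q) v))
          ((ρ : MulAut Q) v) v]
        exact mul_mem (a2 _) (b2 v)
      inv_mem' := by
        rintro τ ⟨a1, a2⟩
        have h : ∀ u ∈ U, (τ : MulAut Q)⁻¹ u = u := fun u hu => by
          conv_lhs => rw [← a1 u hu, MulAut.inv_apply_self]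
        refine ⟨fun u hu => by rw [coe_inv]; exact h u hu, fun v => ?_⟩
        have := inv_mem (a2 ((τ : MulAut Q)⁻¹ v))
        rwa [MulAut.apply_inv_self, inv_div] at this }
  haveI : N.Normal := ⟨by
    rintro τ ⟨a1, a2⟩ g
    refine ⟨fun u hu => ?_, fun v => ?_⟩
    · rw [coe_mul, coe_mul, MulAut.mul_apply, MulAut.mul_apply, coe_inv,
        a1 _ (hU _ (inv_mem g.2) u hu), MulAut.apply_inv_self]
    · rw [coe_mul, coe_mul, MulAut.mul_apply, MulAut.mul_apply, coe_inv]
      have := hU _ g.2 _ (a2 ((g : MulAut Q)⁻¹ v))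
      rwa [map_div, MulAut.apply_inv_self] at this⟩
  have hN : IsPGroup p N := by
    intro τ
    obtain ⟨k, hk⟩ := Normal.exists_pow_eq_one_of_stabilizes (p := p) (isPGroup_of_pow he)
      (fun i => if i = 0 then ⊥ else if i = 1 then U else ⊤) 2 rfl rfl
      (fun i hi => by interval_cases i <;> simp) ((τ : X) : MulAut Q) fun i hi x hx => by
        rw [mul_comm, ← div_eq_mul_inv]
        interval_cases i
        · simp only [if_true, zero_add, one_ne_zero, if_false, mem_bot] at hx ⊢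
          rw [τ.2.1 x hx, div_self']
        · simpa using τ.2.2 x
    exact ⟨k, Subtype.ext (Subtype.ext hk)⟩
  by_contra hne
  have hN1 : N ≠ ⊥ := fun h => hne (congrArg Subtype.val ((mem_bot).1 (h.le (x := ⟨σ, hσ⟩) ⟨h1, h2⟩)))
  have := hY N (hN.le_sylow_of_normal P) hN1
  rw [normalizer_eq_top] at this
  exact hYtop (top_le_iff.1 this)

/-- Automorphisms generated by elements preserving `U`. -/
theorem closure_preserves {U : Subgroup Q} {s : Set (MulAut Q)} (hs : ∀ c ∈ s, c ∈ X)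
    (hU : ∀ σ ∈ X, ∀ u ∈ U, σ u ∈ U) : ∀ σ ∈ closure s, ∀ u ∈ U, σ u ∈ U :=
  fun σ hσ => hU σ ((closure_le X).2 hs hσ)

set_option maxHeartbeats 800000 in
/-- With a single block there is no proper invariant subgroup. -/
theorem irreducible (he : ∀ q : Q, q ^ p = 1) (hQ3 : Nat.card Q = p ^ 3) (hp2 : p ≠ 2)
    (hY : ∀ A : Subgroup X, A ≤ P → A ≠ ⊥ → normalizer (A : Set X) ≤ Y) (hYtop : Y ≠ ⊤)
    {a : X} (haP : a ∈ (P : Subgroup X)) (ha1 : a ≠ 1) {c : Q}
    (hfix : ∀ v, (a : MulAut Q) v = v → v ∈ zpowers c) {U : Subgroup Q}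
    (hU : ∀ σ ∈ X, ∀ u ∈ U, σ u ∈ U) (hU0 : U ≠ ⊥) (hU1 : U ≠ ⊤) : False := by
  have hpp := hp.out
  have hQp := isPGroup_of_pow he
  obtain ⟨k, hk⟩ := P.2 ⟨a, haP⟩
  have hak : (a : MulAut Q) ^ p ^ k = 1 := congrArg (fun z : (P : Subgroup X) => ((z : X) : MulAut Q)) hk
  obtain ⟨g, hg⟩ : ∃ g, g ∉ Y := by
    by_contra h; push Not at h; exact hYtop (eq_top_iff.mpr fun x _ => h x)
  set b : MulAut Q := ((g * a * g⁻¹ : X) : MulAut Q) with hb
  have hbk : b ^ p ^ k = 1 := by
    rw [hb, ← SubgroupClass.coe_pow, conj_pow, show a ^ p ^ k = 1 from Subtype.ext hak]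
    simp
  set H := closure ({(a : MulAut Q), b} : Set (MulAut Q)) with hH
  have hgen : ∀ c ∈ ({(a : MulAut Q), b} : Set (MulAut Q)), c ∈ X := by
    rintro c (rfl | rfl)
    · exact a.2
    · exact (g * a * g⁻¹).2
  have hHX : H ≤ X := (closure_le X).2 hgen
  have hHU : ∀ σ ∈ H, ∀ u ∈ U, σ u ∈ U := fun σ hσ => hU σ (hHX hσ)
  have hne : ¬ IsPGroup p H := by
    intro hH'
    obtain ⟨e, he'⟩ := Saturation.exists_conj_le_sylow P
      (A := H.subgroupOf X) (hH'.comap_of_injective X.subtype X.subtype_injective)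
    have h1 : e * a * e⁻¹ ∈ (P : Subgroup X) := he' _ (mem_subgroupOf.mpr (subset_closure (Or.inl rfl)))
    have h2 : e * (g * a * g⁻¹) * e⁻¹ ∈ (P : Subgroup X) :=
      he' _ (mem_subgroupOf.mpr (subset_closure (Or.inr rfl)))
    have e1 := Embedded.mem_of_conj hY haP ha1 h1
    have e2 := Embedded.mem_of_conj hY haP ha1 (a := e * g)
      (by rwa [show e * g * a * (e * g)⁻¹ = e * (g * a * g⁻¹) * e⁻¹ by group])
    exact hg (by simpa using Y.mul_mem (Y.inv_mem e1) e2)
  obtain ⟨i, hi⟩ := IsPGroup.iff_card.mp (hQp.to_subgroup U)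
  have hi0 : i ≠ 0 := fun h => hU0 (U.card_eq_one.1 (by rw [hi, h, pow_zero]))
  have hi3 : i < 3 := by
    by_contra h
    exact hU1 (eq_top_of_le_card _ (by rw [hQ3, hi]; exact Nat.pow_le_pow_right hpp.pos (by omega)))
  obtain ⟨hf, hhf⟩ := RankTwoResistant.exists_inverse (p := p) (r := 2) (by
    intro h
    have h' : p ∣ 2 := by exact_mod_cast h
    exact hp2 ((Nat.prime_dvd_prime_iff_eq hpp Nat.prime_two).1 h'))
  have hhalf : ∀ z : Q, z * (z ^ hf)⁻¹ = z ^ hf := fun z => by
    rw [show z * (z ^ hf)⁻¹ = z ^ (1 - hf) by rw [zpow_sub, zpow_one]]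
    exact RankTwoResistant.zpow_eq_of_dvd (he z) (by
      rw [show 1 - hf - hf = -(2 * hf - 1) by ring]; exact hhf.neg_right)
  -- an element of `H` commuting with `a`, with a fixed and an inverted vector
  suffices hw : ∃ w : MulAut Q, Commute (a : MulAut Q) w ∧ (∃ x, x ≠ 1 ∧ w x = x) ∧
      ∃ y, y ≠ 1 ∧ w y = y⁻¹ by
    obtain ⟨w, hcw, ⟨x, hx1, hx⟩, ⟨y, hy1, hy⟩⟩ := hw
    let Wp : Subgroup Q :=
      { carrier := {z | w z = z}
        one_mem' := map_one w
        mul_mem' := fun {u v} hu hv => by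
          show w (u * v) = u * v
          rw [map_mul, show w u = u from hu, show w v = v from hv]
        inv_mem' := fun {u} hu => by show w u⁻¹ = u⁻¹; rw [map_inv, show w u = u from hu] }
    let Wn : Subgroup Q :=
      { carrier := {z | w z = z⁻¹}
        one_mem' := by show w 1 = 1⁻¹; simp
        mul_mem' := fun {u v} hu hv => by
          show w (u * v) = (u * v)⁻¹
          rw [map_mul, show w u = u⁻¹ from hu, show w v = v⁻¹ from hv, mul_inv]
        inv_mem' := fun {u} hu => by show w u⁻¹ = u⁻¹⁻¹; rw [map_inv, show w u = u⁻¹ from hu] }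
    have hcomm : ∀ z, (a : MulAut Q) (w z) = w ((a : MulAut Q) z) := fun z => DFunLike.congr_fun hcw.eq z
    obtain ⟨x', hx'W, hx'1, hax'⟩ := exists_fixed (p := p) he (U := Wp)
      (fun h => hx1 ((mem_bot).1 (h.le (x := x) hx))) (σ := a) (fun z hz => by
        show w ((a : MulAut Q) z) = (a : MulAut Q) z
        rw [← hcomm, show w z = z from hz]) hak
    obtain ⟨y', hy'W, hy'1, hay'⟩ := exists_fixed (p := p) he (U := Wn)
      (fun h => hy1 ((mem_bot).1 (h.le (x := y) hy))) (σ := a) (fun z hz => by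
        show w ((a : MulAut Q) z) = ((a : MulAut Q) z)⁻¹
        rw [← hcomm, show w z = z⁻¹ from hz, map_inv]) hak
    obtain ⟨A, rfl⟩ := mem_zpowers_iff.mp (hfix x' hax')
    obtain ⟨B, rfl⟩ := mem_zpowers_iff.mp (hfix y' hay')
    have hA : ¬ (p : ℤ) ∣ A := fun h =>
      hx'1 (by rw [RankTwoResistant.zpow_eq_of_dvd (he c) (j := 0) (by simpa using h), zpow_zero])
    obtain ⟨A', hA'⟩ := RankTwoResistant.exists_inverse hA
    have hcW : c ∈ Wp := by
      have := Wp.zpow_mem hx'W A'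
      rwa [← zpow_mul, RankTwoResistant.zpow_eq_of_dvd (he c) (j := 1) hA', zpow_one] at this
    have h1 : w (c ^ B) = c ^ B := Wp.zpow_mem hcW B
    rw [show w (c ^ B) = (c ^ B)⁻¹ from hy'W] at h1
    refine hy'1 ?_
    have h2 : (c ^ B) ^ (2 : ℤ) = 1 := by
      rw [show (2 : ℤ) = 1 + 1 from rfl, zpow_add, zpow_one]
      nth_rw 1 [← h1]
      exact inv_mul_cancel _
    rw [← zpow_one (c ^ B), ← RankTwoResistant.zpow_eq_of_dvd (he (c ^ B)) (i := 2 * hf) (j := 1) hhf,
      zpow_mul, h2, one_zpow]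
  interval_cases i
  · exact absurd rfl hi0
  · -- `U` is a line
    rw [pow_one] at hi
    have hfixU : ∀ σ ∈ H, ∀ u ∈ U, σ u = u := by
      intro σ hσ
      induction hσ using closure_induction with
      | mem c hc =>
        intro u hu
        obtain ⟨l, hl⟩ : ∃ l : ℕ, c ^ p ^ l = 1 := by
          rcases hc with rfl | rfl
          · exact ⟨k, hak⟩
          · exact ⟨k, hbk⟩
        have := EssentialShape.step_fixed (p := p) (C := (⊥ : Subgroup Q)) (D := U)
          (by rw [relIndex_bot_left, hi]) (fun x hx => by rw [mem_bot] at hx ⊢; rw [hx, map_one])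
          (hU c (hgen c hc)) hl u hu
        rw [mem_bot, inv_mul_eq_one] at this
        exact this.symm
      | one => intro u _; rfl
      | mul x y _ _ ihx ihy => intro u hu; rw [MulAut.mul_apply, ihy u hu, ihx u hu]
      | inv x _ ihx =>
        intro u hu
        conv_lhs => rw [← ihx u hu, MulAut.inv_apply_self]
    have hmap : ∀ σ : H, U.map (σ : MulAut Q).toMonoidHom = U := fun σ =>
      eq_of_le_of_card_ge (map_le_iff_le_comap.2 fun u hu => hHU σ σ.2 u hu)
        (by rw [card_map_of_injective (σ : MulAut Q).injective])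
    let res : H →* MulAut (Q ⧸ U) :=
      { toFun := fun σ => QuotientGroup.congr U U (σ : MulAut Q) (hmap σ)
        map_one' := MulEquiv.ext fun x => by
          induction x using QuotientGroup.induction_on with
          | H x => rfl
        map_mul' := fun σ τ => MulEquiv.ext fun x => by
          induction x using QuotientGroup.induction_on with
          | H x => rfl }
    have hres : ∀ (σ : H) (z : Q), res σ (QuotientGroup.mk z) = QuotientGroup.mk ((σ : MulAut Q) z) :=
      fun σ z => rfl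
    have hres1 : ∀ σ : H, res σ = 1 → ∀ z, (σ : MulAut Q) z / z ∈ U := fun σ hσ z => by
      have := DFunLike.congr_fun hσ (QuotientGroup.mk z)
      rw [hres, MulAut.one_apply] at this
      exact (QuotientGroup.eq_iff_div_mem).1 this
    obtain ⟨⟨w, hwH⟩, hw⟩ := exists_lift (Q := Q) (V := Q ⧸ U) (fun v => by
        induction v using QuotientGroup.induction_on with
        | H x => rw [← QuotientGroup.mk_pow, he]; rfl)
      (by
        have h1 := U.card_mul_index
        rw [hi, hQ3, pow_succ' p 2, index_eq_card] at h1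
        exact Nat.eq_of_mul_eq_mul_left hpp.pos h1) hak hbk res (fun σ hσ => by
        obtain ⟨j, hj⟩ := Normal.exists_pow_eq_one_of_stabilizes (p := p) hQp
          (fun i => if i = 0 then ⊥ else if i = 1 then U else ⊤) 2 rfl rfl
          (fun i hi => by interval_cases i <;> simp) (σ : MulAut Q) fun i hi x hx => by
            rw [mul_comm, ← div_eq_mul_inv]
            interval_cases i
            · simp only [if_true, zero_add, one_ne_zero, if_false, mem_bot] at hx ⊢
              rw [hfixU σ σ.2 x hx, div_self']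
            · simpa using hres1 σ hσ x
        exact ⟨j, Subtype.ext hj⟩) hne
    refine ⟨w, ?_, ?_, ?_⟩
    · have hc : res (⟨a, subset_closure (Or.inl rfl)⟩ * ⟨w, hwH⟩ *
          (⟨a, subset_closure (Or.inl rfl)⟩ : H)⁻¹ * (⟨w, hwH⟩ : H)⁻¹) = 1 := by
        rw [map_mul, map_mul, map_mul, map_inv, map_inv]
        refine mul_inv_eq_one.2 (mul_inv_eq_iff_eq_mul.2 (MulEquiv.ext fun v => ?_))
        rw [MulAut.mul_apply, MulAut.mul_apply, hw, hw, map_inv]
      have := stabilizer_trivial he hY hYtop hU (σ := (a : MulAut Q) * w * (a : MulAut Q)⁻¹ * w⁻¹)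
        (mul_mem (mul_mem (mul_mem a.2 (hHX hwH)) (inv_mem a.2)) (inv_mem (hHX hwH)))
        (hfixU _ (mul_mem (mul_mem (mul_mem (subset_closure (Or.inl rfl)) hwH)
          (inv_mem (subset_closure (Or.inl rfl)))) (inv_mem hwH)))
        (fun z => hres1 _ hc z)
      exact mul_inv_eq_iff_eq_mul.1 (mul_inv_eq_one.1 this)
    · obtain ⟨x, hx, hx1⟩ := (bot_or_exists_ne_one U).resolve_left hU0
      exact ⟨x, hx1, hfixU w hwH x hx⟩
    · obtain ⟨v, -, hv⟩ := SetLike.exists_of_lt (lt_top_iff_ne_top.2 hU1)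
      set l := w v * v with hl
      have hlU : l ∈ U := by
        have := hw (QuotientGroup.mk v)
        rw [hres, ← QuotientGroup.mk_inv, QuotientGroup.eq_iff_div_mem, div_inv_eq_mul] at this
        exact this
      refine ⟨v * (l ^ hf)⁻¹, fun h => hv ?_, ?_⟩
      · rw [mul_inv_eq_one] at h
        rw [h]; exact zpow_mem hlU _
      · rw [map_mul, map_inv, hfixU w hwH _ (zpow_mem hlU hf), mul_inv_rev, inv_inv,
          show w v = l * v⁻¹ by rw [hl, mul_inv_cancel_right]]
        conv_rhs => rw [← hhalf l]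
        rw [mul_comm l v⁻¹, mul_assoc]; try simp only [mul_comm, mul_left_comm, mul_assoc]
  · -- `U` is a hyperplane
    have hQU : ∀ σ ∈ H, ∀ v, σ v / v ∈ U := by
      intro σ hσ
      induction hσ using closure_induction with
      | mem c hc =>
        intro v
        obtain ⟨l, hl⟩ : ∃ l : ℕ, c ^ p ^ l = 1 := by
          rcases hc with rfl | rfl
          · exact ⟨k, hak⟩
          · exact ⟨k, hbk⟩
        have := EssentialShape.step_fixed (p := p) (C := U) (D := ⊤)
          (by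
            rw [relIndex_top_right]
            have h1 := U.card_mul_index
            rw [hi, hQ3, pow_succ p 2] at h1
            exact (Nat.eq_of_mul_eq_mul_left (pow_pos hpp.pos 2) h1).le)
          (hU c (hgen c hc)) (fun x _ => mem_top (c x)) hl v (mem_top v)
        rwa [mul_comm, ← div_eq_mul_inv] at this
      | one => intro v; simp
      | mul x y hx _ ihx ihy =>
        intro v
        rw [MulAut.mul_apply, ← div_mul_div_cancel (x (y v)) (y v) v]
        exact mul_mem (ihx _) (ihy v)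
      | inv x _ ihx =>
        intro v
        have := inv_mem (ihx (x⁻¹ v))
        rwa [MulAut.apply_inv_self, inv_div] at this
    let res : H →* MulAut U :=
      { toFun := fun σ =>
          { toFun := fun u => ⟨(σ : MulAut Q) u, hHU σ σ.2 u u.2⟩
            invFun := fun u => ⟨(σ : MulAut Q)⁻¹ u, hHU _ (inv_mem σ.2) u u.2⟩
            left_inv := fun u => Subtype.ext (MulAut.inv_apply_self Q _ _)
            right_inv := fun u => Subtype.ext (MulAut.apply_inv_self Q _ _)
            map_mul' := fun u v => Subtype.ext (map_mul (σ : MulAut Q) (u : Q) (v : Q)) }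
        map_one' := rfl
        map_mul' := fun σ τ => rfl }
    have hres : ∀ (σ : H) (u : U), ((res σ u : U) : Q) = (σ : MulAut Q) u := fun σ u => rfl
    have hres1 : ∀ σ : H, res σ = 1 → ∀ u ∈ U, (σ : MulAut Q) u = u := fun σ hσ u hu => by
      have := congrArg Subtype.val (DFunLike.congr_fun hσ ⟨u, hu⟩)
      rwa [hres] at this
    obtain ⟨⟨w, hwH⟩, hw⟩ := exists_lift (Q := Q) (V := U) (fun v => Subtype.ext (he v)) hi hak hbk res
      (fun σ hσ => by
        obtain ⟨j, hj⟩ := Normal.exists_pow_eq_one_of_stabilizes (p := p) hQp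
          (fun i => if i = 0 then ⊥ else if i = 1 then U else ⊤) 2 rfl rfl
          (fun i hi => by interval_cases i <;> simp) (σ : MulAut Q) fun i hi x hx => by
            rw [mul_comm, ← div_eq_mul_inv]
            interval_cases i
            · simp only [if_true, zero_add, one_ne_zero, if_false, mem_bot] at hx ⊢
              rw [hres1 σ hσ x hx, div_self']
            · simpa using hQU σ σ.2 x
        exact ⟨j, Subtype.ext hj⟩) hne
    have hwU : ∀ u ∈ U, w u = u⁻¹ := fun u hu => congrArg Subtype.val (hw ⟨u, hu⟩)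
    refine ⟨w, ?_, ?_, ?_⟩
    · have hc : res (⟨a, subset_closure (Or.inl rfl)⟩ * ⟨w, hwH⟩ *
          (⟨a, subset_closure (Or.inl rfl)⟩ : H)⁻¹ * (⟨w, hwH⟩ : H)⁻¹) = 1 := by
        rw [map_mul, map_mul, map_mul, map_inv, map_inv]
        refine mul_inv_eq_one.2 (mul_inv_eq_iff_eq_mul.2 (MulEquiv.ext fun v => ?_))
        rw [MulAut.mul_apply, MulAut.mul_apply, hw, hw, map_inv]
      have := stabilizer_trivial he hY hYtop hU (σ := (a : MulAut Q) * w * (a : MulAut Q)⁻¹ * w⁻¹)
        (mul_mem (mul_mem (mul_mem a.2 (hHX hwH)) (inv_mem a.2)) (inv_mem (hHX hwH)))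
        (fun u hu => hres1 _ hc u hu)
        (hQU _ (mul_mem (mul_mem (mul_mem (subset_closure (Or.inl rfl)) hwH)
          (inv_mem (subset_closure (Or.inl rfl)))) (inv_mem hwH)))
      exact mul_inv_eq_iff_eq_mul.1 (mul_inv_eq_one.1 this)
    · obtain ⟨z, -, hz⟩ := SetLike.exists_of_lt (lt_top_iff_ne_top.2 hU1)
      set h := w z / z with hh
      have hhU : h ∈ U := hQU w hwH z
      refine ⟨z * h ^ hf, fun e => hz ?_, ?_⟩
      · rw [eq_inv_of_mul_eq_one_left e]; exact inv_mem (zpow_mem hhU _)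
      · rw [map_mul, hwU _ (zpow_mem hhU hf), show w z = z * h by rw [hh, mul_div_cancel]]
        conv_rhs => rw [← hhalf h]
        ac_rfl
    · obtain ⟨y, hy, hy1⟩ := (bot_or_exists_ne_one U).resolve_left hU0
      exact ⟨y, hy1, hwU y hy⟩

end Cfsg.Agent.Fusion.RankThree.Linear
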