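import Cfsg.Agent.Lib.Fusion.RankThree.Transvection

/-!
An essential subgroup with Frattini quotient of order `p ^ 3` is normal when the sectional rank is three.
-/

set_option autoImplicit false
set_option linter.unusedSectionVars false
set_option linter.style.haveILetI false

namespace Cfsg.Agent.Fusion.RankThree

open Cfsg Cfsg.FusionSystem
open Cfsg.Agent.Fusion Cfsg.Agent.Fusion.Basic Cfsg.Agent.Fusion.Saturation
open Subgroup (normalizer)

variable {X : Type*} [Group X] [Finite X] {p : ℕ} [hp : Fact p.Prime] {F : FusionSystem (⊤ : Subgroup X)}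
  {E : Subgroup X}

theorem normalizer_eq_top (hX : IsPGroup p X) (h5 : 5 ≤ p) (hsr : Cfsg.SectionalPRankLE p 3 X)
    (hF : F.IsSaturated p) (hE : F.IsEssential p E) (hrk : (phi p E).relIndex E = p ^ 3) :
    normalizer (E : Set X) = ⊤ := by
  have hS : IsPGroup p (⊤ : Subgroup X) := hX.to_subgroup ⊤
  obtain ⟨hidx, hcases⟩ := analysis hX h5 hF hE hrk
  set P := normalizer (E : Set X) with hPdef
  have hEP : E ≤ P := Subgroup.le_normalizer
  by_contra hne
  obtain ⟨y, hyN, hyP⟩ := exists_mem_normalizer_not_mem hS (lt_top_iff_ne_top.2 hne)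
  have hy : y ∈ normalizer (P : Set X) := hyN.2
  rcases hcases with ⟨hblock, hirr⟩ | ⟨δ, β, x, e, c, f, s, t, hT⟩
  · haveI : (E.subgroupOf P).Normal := (Subgroup.normal_subgroupOf_iff_le_normalizer hEP).2 le_rfl
    set E' := E.subgroupOf P with hE'
    have hphi : (phi p E').relIndex E' = p ^ 3 := by
      rw [← Subgroup.relIndex_map_map_of_injective _ _ P.subtype_injective, phi_map, hE',
        Subgroup.map_subgroupOf_eq_of_le hEP, hrk]
    let γ : P ≃* P := P.normalizerMonoidHom ⟨y, hy⟩
    have hmap : ∀ D : Subgroup P, ∀ v : P, v ∈ D → γ v ∈ D.map γ.toMonoidHom :=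
      fun D v hv => Subgroup.mem_map_of_mem _ hv
    have hED : E' ≠ E'.map γ.toMonoidHom := fun h => hyP (mem_normalizer_of_forall fun v hv => by
      have h1 := hmap E' ⟨v, hEP hv⟩ (Subgroup.mem_subgroupOf.2 hv)
      rw [← h] at h1
      exact Subgroup.mem_subgroupOf.1 h1)
    refine case_a (hX.to_subgroup P) h5 (sectional_subgroup hsr P) hidx hphi hblock hirr γ rfl rfl hED ?_
      fun h => hED (Subgroup.map_injective (f := γ.toMonoidHom) γ.injective h)
    intro h
    have hy2 : y * y ∈ P := mem_normalizer_of_forall fun v hv => by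
      have h1 := hmap _ _ (hmap E' ⟨v, hEP hv⟩ (Subgroup.mem_subgroupOf.2 hv))
      rw [← h] at h1
      have h2 : y * (y * v * y⁻¹) * y⁻¹ ∈ E := Subgroup.mem_subgroupOf.1 h1
      rwa [show y * (y * v * y⁻¹) * y⁻¹ = y * y * v * (y * y)⁻¹ by group] at h2
    obtain ⟨k, hk⟩ := hX y
    obtain ⟨m, hm⟩ : Odd (p ^ k) := (hp.out.odd_of_ne_two (by omega)).pow
    refine hyP ?_
    rw [show y = (y * y) ^ (m + 1) by
      rw [← sq, ← pow_mul, show 2 * (m + 1) = p ^ k + 1 by omega, pow_succ, hk, one_mul]]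
    exact pow_mem hy2 _
  · exact torus_false hX h5 hsr hF hE hidx hT hy hyP

end Cfsg.Agent.Fusion.RankThree
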