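import Cfsg.Agent.Lib.Fusion.RankThree.Linear
import Cfsg.Agent.Lib.Fusion.RankThree.CaseA
import Cfsg.Agent.Lib.Fusion.Alperin
import Cfsg.Agent.GroupStructure3.FrattiniAut

/-!
An essential subgroup with Frattini quotient of order `p ^ 3`: its normalizer has index `p` over it, and
either there is a single block and the action is irreducible, or there is a transvection with a torus.
-/

set_option autoImplicit false
set_option linter.unusedSectionVars false
set_option linter.style.haveILetI false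

namespace Cfsg.Agent.Fusion.RankThree

open Cfsg Cfsg.FusionSystem
open Cfsg.Agent.Fusion Cfsg.Agent.Fusion.Basic Cfsg.Agent.Fusion.Saturation
open Subgroup (zpowers normalizer mem_zpowers mem_zpowers_iff)

/-- The exponent of the torus. -/
theorem exists_exponents {p : ℕ} (hp : p.Prime) (h5 : 5 ≤ p) :
    ∃ s t : ℤ, (p : ℤ) ∣ s * t - 1 ∧ ¬ (p : ℤ) ∣ t ^ 2 - 1 ∧ ¬ (p : ℤ) ∣ t ^ 3 - 1 ∧
      ¬ (p : ℤ) ∣ t ^ 5 - 1 := by
  haveI := Fact.mk hp
  obtain ⟨t, h2, h3, h5', ht0, ht4⟩ : ∃ t : ℕ, ¬ p ∣ t ^ 2 - 1 ∧ ¬ p ∣ t ^ 3 - 1 ∧ ¬ p ∣ t ^ 5 - 1 ∧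
      0 < t ∧ t < 4 := by
    by_cases h : p = 7 ∨ p = 31
    · refine ⟨3, ?_, ?_, ?_, by norm_num, by norm_num⟩ <;> rcases h with rfl | rfl <;> norm_num
    · refine ⟨2, ?_, ?_, ?_, by norm_num, by norm_num⟩ <;> norm_num <;> intro hd
      · have := Nat.le_of_dvd (by norm_num) hd; omega
      · exact h (Or.inl ((Nat.prime_dvd_prime_iff_eq hp (by norm_num)).1 hd))
      · exact h (Or.inr ((Nat.prime_dvd_prime_iff_eq hp (by norm_num)).1 hd))
  have hcast : ∀ n : ℕ, 1 ≤ t ^ n → ¬ p ∣ t ^ n - 1 → ¬ (p : ℤ) ∣ (t : ℤ) ^ n - 1 := fun n hn hd h => hd (by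
    have : ((t ^ n - 1 : ℕ) : ℤ) = (t : ℤ) ^ n - 1 := by rw [Nat.cast_sub hn]; push_cast; ring
    rw [← this] at h; exact_mod_cast h)
  have htp : ¬ (p : ℤ) ∣ t := fun h => by
    have := Nat.le_of_dvd ht0 (by exact_mod_cast h : p ∣ t)
    omega
  obtain ⟨s, hs⟩ := RankTwoResistant.exists_inverse htp
  have h1 : ∀ n, 1 ≤ t ^ n := fun n => Nat.one_le_pow _ _ ht0
  exact ⟨s, t, by rw [mul_comm]; exact hs, hcast 2 (h1 2) h2, hcast 3 (h1 3) h3, hcast 5 (h1 5) h5'⟩

theorem mem_phi_subgroupOf {G : Type*} [Group G] {p : ℕ} {H E : Subgroup G} (hEH : E ≤ H) {z : H} :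
    z ∈ phi p (E.subgroupOf H) ↔ (z : G) ∈ phi p E := by
  rw [← Subgroup.mem_map_iff_mem H.subtype_injective (K := phi p (E.subgroupOf H)), phi_map,
    Subgroup.map_subgroupOf_eq_of_le hEH]
  rfl

/-- Three generators of an elementary abelian group of order `p ^ 3` are independent. -/
theorem indep_three {W : Type*} [CommGroup W] [Finite W] {p : ℕ} [hp : Fact p.Prime]
    (he : ∀ w : W, w ^ p = 1) (hW : Nat.card W = p ^ 3) {u v q : W}
    (hdec : ∀ w, ∃ A B C : ℤ, w = u ^ A * v ^ B * q ^ C) {A B C : ℤ} (h : u ^ A * v ^ B * q ^ C = 1) :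
    (p : ℤ) ∣ A := by
  by_contra hA
  obtain ⟨A', hA'⟩ := RankTwoResistant.exists_inverse hA
  have hu : u = v ^ (-B * A') * q ^ (-C * A') := by
    have h1 : u ^ A = v ^ (-B) * q ^ (-C) := by
      rw [mul_assoc] at h
      rw [eq_inv_of_mul_eq_one_left h, mul_inv, zpow_neg, zpow_neg]
    have h2 := congrArg (· ^ A') h1
    rwa [← zpow_mul, RankTwoResistant.zpow_eq_of_dvd (he u) (j := 1) hA', zpow_one, mul_zpow, ← zpow_mul,
      ← zpow_mul] at h2
  let φ : Fin p × Fin p → W := fun ij => v ^ (ij.1 : ℤ) * q ^ (ij.2 : ℤ)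
  have hφ : Function.Surjective φ := by
    intro w
    obtain ⟨a, b, c, rfl⟩ := hdec w
    have hfin : ∀ (z : W) (n : ℤ), ∃ i : Fin p, z ^ (i : ℤ) = z ^ n := fun z n => by
      obtain ⟨m, hm⟩ := zpow_natMod (he z) n
      refine ⟨⟨m % p, Nat.mod_lt _ hp.out.pos⟩, ?_⟩
      rw [hm, zpow_natCast, ← pow_eq_pow_mod _ (he z)]
    obtain ⟨i, hi⟩ := hfin v (-B * A' * a + b)
    obtain ⟨j, hj⟩ := hfin q (-C * A' * a + c)
    refine ⟨(i, j), ?_⟩
    show v ^ (i : ℤ) * q ^ (j : ℤ) = _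
    rw [hi, hj, hu, mul_zpow, ← zpow_mul, ← zpow_mul, zpow_add, zpow_add,
      mul_assoc (v ^ (-B * A' * a) * q ^ (-C * A' * a)), mul_mul_mul_comm]
  have h3 := Nat.card_le_card_of_surjective φ hφ
  rw [hW, Nat.card_prod, Nat.card_fin, ← pow_two] at h3
  have := (Nat.pow_le_pow_iff_right hp.out.one_lt).1 h3
  omega

variable {X : Type*} [Group X] [Finite X] {p : ℕ} [hp : Fact p.Prime] {F : FusionSystem (⊤ : Subgroup X)}
  {E : Subgroup X}

/-- The data of the transvection case. -/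
structure Torus (F : FusionSystem (⊤ : Subgroup X)) (p : ℕ) (E : Subgroup X) (δ β : MulAut E)
    (x e c f : X) (s t : ℤ) : Prop where
  st : (p : ℤ) ∣ s * t - 1
  t2 : ¬ (p : ℤ) ∣ t ^ 2 - 1
  t3 : ¬ (p : ℤ) ∣ t ^ 3 - 1
  t5 : ¬ (p : ℤ) ∣ t ^ 5 - 1
  δ_mem : δ ∈ F.autGroup E
  x_mem : x ∈ normalizer (E : Set X)
  x_notMem : x ∉ E
  e_mem : e ∈ E
  c_mem : c ∈ E
  f_mem : f ∈ E
  c_eq : c = cm e x
  cx : cm c x ∈ phi p E
  fx : cm f x ∈ phi p E
  gen : ∀ v ∈ E, ∃ A B C : ℤ, v⁻¹ * (e ^ A * c ^ B * f ^ C) ∈ phi p E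
  uniq : ∀ A B C : ℤ, e ^ A * c ^ B * f ^ C ∈ phi p E → (p : ℤ) ∣ A ∧ (p : ℤ) ∣ B ∧ (p : ℤ) ∣ C
  δe : (e ^ s)⁻¹ * autFun δ e ∈ phi p E
  δc : (c ^ t)⁻¹ * autFun δ c ∈ phi p E
  δf : f⁻¹ * autFun δ f ∈ phi p E
  βe : e⁻¹ * autFun β e ∈ phi p E
  βc : (c * e)⁻¹ * autFun β c ∈ phi p E
  βf : f⁻¹ * autFun β f ∈ phi p E
  normal : ∀ g ∈ normalizer (E : Set X), ∃ h : X, ∀ v ∈ E, autFun δ (g * v * g⁻¹) = h * autFun δ v * h⁻¹
  image : ∀ h ∈ normalizer (E : Set X), (∀ v ∈ E, autFun δ (x * v * x⁻¹) = h * autFun δ v * h⁻¹) →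
    (x ^ (t ^ 2))⁻¹ * h ∈ E

set_option maxHeartbeats 1600000 in
/-- The two cases. -/
theorem analysis (hX : IsPGroup p X) (h5 : 5 ≤ p) (hF : F.IsSaturated p) (hE : F.IsEssential p E)
    (hrk : (phi p E).relIndex E = p ^ 3) :
    E.relIndex (normalizer (E : Set X)) = p ∧
      ((Block p (E.subgroupOf (normalizer (E : Set X))) ∧
        ∀ U : Subgroup (normalizer (E : Set X)), phi p (E.subgroupOf (normalizer (E : Set X))) ≤ U →
          U ≤ E.subgroupOf (normalizer (E : Set X)) → Inv (E.subgroupOf (normalizer (E : Set X))) U →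
          U = phi p (E.subgroupOf (normalizer (E : Set X))) ∨ U = E.subgroupOf (normalizer (E : Set X))) ∨
      ∃ (δ β : MulAut E) (x e c f : X) (s t : ℤ), Torus F p E δ β x e c f s t) := by
  have hpp := hp.out
  have hp2 : p ≠ 2 := by omega
  have hS : IsPGroup p (⊤ : Subgroup X) := hX.to_subgroup ⊤
  have hlt : E < (⊤ : Subgroup X) := Alperin.essential_lt hS hF hE
  set P := normalizer (E : Set X) with hPdef
  have hEP : E ≤ P := Subgroup.le_normalizer
  set E' := E.subgroupOf P with hE'def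
  haveI hE'n : E'.Normal := (Subgroup.normal_subgroupOf_iff_le_normalizer hEP).2 le_rfl
  -- the Frattini quotient
  haveI hΦn : (phi p (⊤ : Subgroup E)).Normal := phi_normal
  let W := E ⧸ phi p (⊤ : Subgroup E)
  letI : CommGroup W :=
    { (inferInstance : Group W) with
      mul_comm := fun a b => by
        induction a using QuotientGroup.induction_on with
        | H a => induction b using QuotientGroup.induction_on with
          | H b => exact (mk_cm_eq_one_iff.2 (cm_mem_phi (Subgroup.mem_top a) (Subgroup.mem_top b))).eq }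
  set mk := QuotientGroup.mk' (phi p (⊤ : Subgroup E)) with hmkdef
  have hmk1 : ∀ v : E, mk v = 1 ↔ (v : X) ∈ phi p E := fun v => by
    rw [hmkdef, QuotientGroup.mk'_apply, QuotientGroup.eq_one_iff]
    rw [← Subgroup.mem_map_iff_mem E.subtype_injective (K := phi p (⊤ : Subgroup E)), phi_map,
      ← MonoidHom.range_eq_map, Subgroup.range_subtype]
    rfl
  have hmkeq : ∀ a b : E, mk a = mk b ↔ (a : X)⁻¹ * b ∈ phi p E := fun a b => by
    rw [← Subgroup.coe_inv, ← Subgroup.coe_mul, ← hmk1, map_mul, map_inv, inv_mul_eq_one]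
  have hWp : ∀ w : W, w ^ p = 1 := fun w => by
    obtain ⟨v, rfl⟩ := QuotientGroup.mk'_surjective _ w
    rw [← map_pow, hmk1, SubgroupClass.coe_pow]
    exact pow_mem_phi v.2
  have hEp : IsPGroup p E := hX.to_subgroup E
  have hW3 : Nat.card W = p ^ 3 := by
    show Nat.card (E ⧸ phi p (⊤ : Subgroup E)) = _
    rw [← Subgroup.index_eq_card, ← hrk]
    show _ = ((phi p E).subgroupOf E).index
    congr 1
    ext v
    rw [Subgroup.mem_subgroupOf, ← hmk1, hmkdef, QuotientGroup.mk'_apply, QuotientGroup.eq_one_iff]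
  set A := F.autGroup E with hAdef
  have hmapΦ : ∀ α : MulAut E, (phi p (⊤ : Subgroup E)).map α.toMonoidHom = phi p (⊤ : Subgroup E) :=
    fun α => by rw [phi_map, Subgroup.map_top_of_surjective _ α.surjective]
  let ρ0 : MulAut E →* MulAut W :=
    { toFun := fun α => QuotientGroup.congr _ _ α (hmapΦ α)
      map_one' := MulEquiv.ext fun w => by
        induction w using QuotientGroup.induction_on with
        | H w => rfl
      map_mul' := fun α β => MulEquiv.ext fun w => by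
        induction w using QuotientGroup.induction_on with
        | H w => rfl }
  have hρ0 : ∀ (α : MulAut E) (v : E), ρ0 α (mk v) = mk (α v) := fun α v => rfl
  let ρ : A →* MulAut W := ρ0.comp A.subtype
  set Xb := ρ.range
  let ρ' : A →* Xb := ρ.rangeRestrict
  have hρ' : Function.Surjective ρ' := MonoidHom.rangeRestrict_surjective ρ
  have hρ'v : ∀ (α : A) (v : E), ((ρ' α : Xb) : MulAut W) (mk v) = mk ((α : MulAut E) v) := fun α v => rfl
  have hA0 : E ≤ (⊤ : Subgroup X) := le_top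
  -- the kernel is the group of inner automorphisms
  have hker : ∀ α : A, ρ' α = 1 → (α : MulAut E) ∈ Inn E := by
    intro α hα
    obtain ⟨n, hn⟩ := IsPGroup.iff_card.1 hEp
    have hk : IsPGroup p ρ'.ker := by
      have hdvd := GroupStructure3.FrattiniAut.card_stab_dvd (r := 3) hn (by
          rw [frattini_eq_phi hEp, Subgroup.index_eq_card]; exact hW3)
        (ρ'.ker.map A.subtype) (fun a ha v => by
          obtain ⟨b, hb, rfl⟩ := ha
          have h1 : ((ρ' b : Xb) : MulAut W) (mk v) = mk v := by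
            rw [MonoidHom.mem_ker.1 hb]; rfl
          rw [hρ'v] at h1
          rw [frattini_eq_phi hEp, ← QuotientGroup.eq_one_iff]
          show mk ((b : MulAut E) v * v⁻¹) = 1
          rw [map_mul, map_inv, h1, mul_inv_cancel])
      rw [Subgroup.card_map_of_injective A.subtype_injective] at hdvd
      obtain ⟨i, -, hi⟩ := (Nat.dvd_prime_pow hpp).1 hdvd
      exact IsPGroup.of_card hi
    refine EssentialShape.mem_inn_of_mem_pCore hE hS ?_
    exact le_sSup (show ρ'.ker ∈ {N : Subgroup A | N.Normal ∧ IsPGroup p N} from ⟨inferInstance, hk⟩) hα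
  have hinn : ∀ α : A, (α : MulAut E) ∈ Inn E → ρ' α = 1 := by
    intro α hα
    obtain ⟨g, hg, hge⟩ := mem_inn_iff.1 hα
    refine Subtype.ext (MulEquiv.ext fun w => ?_)
    obtain ⟨v, rfl⟩ := QuotientGroup.mk'_surjective _ w
    show mk ((α : MulAut E) v) = mk v
    have h1 : (α : MulAut E) v = (⟨g, hg⟩ : E) * v * (⟨g, hg⟩ : E)⁻¹ := Subtype.ext (by
      rw [← autFun_apply, hge v v.2]; rfl)
    rw [h1, map_mul, map_mul, map_inv, mul_comm (mk ⟨g, hg⟩), mul_inv_cancel_right]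
  obtain ⟨P0, hP0⟩ := (fullyNormalized_fullyAutomized hS hF hE.2.1).2
  set P' : Sylow p Xb := P0.mapSurjective hρ'
  have hPmem : ∀ α : A, ρ' α ∈ (P' : Subgroup Xb) ↔ (α : MulAut E) ∈ autInducedBy (⊤ : Subgroup X) E := by
    intro α
    rw [Sylow.coe_mapSurjective, hP0]
    refine ⟨?_, fun h => ⟨α, h, rfl⟩⟩
    rintro ⟨β, hβ, hβe⟩
    have h1 := hker (β⁻¹ * α) (by rw [map_mul, map_inv, hβe, inv_mul_cancel])
    have h2 := mul_mem (show (β : MulAut E) ∈ autInducedBy (⊤ : Subgroup X) E from hβ)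
      (inn_le_autInducedBy hA0 h1)
    simpa using h2
  set Y : Subgroup Xb := ((Alperin.extGroup F E).subgroupOf A).map ρ'
  have hY : ∀ B : Subgroup Xb, B ≤ P' → B ≠ ⊥ → normalizer (B : Set Xb) ≤ Y := by
    intro B hB hB1 q hq
    obtain ⟨a, rfl⟩ := hρ' q
    refine Subgroup.mem_map_of_mem _ (Subgroup.mem_subgroupOf.2 ?_)
    obtain ⟨b', hb', hb'1⟩ := (Subgroup.bot_or_exists_ne_one B).resolve_left hB1
    obtain ⟨b, rfl⟩ := hρ' b'
    obtain ⟨g, hg, hge⟩ := mem_autInducedBy_iff'.1 ((hPmem b).1 (hB hb'))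
    have h1 : ρ' (a * b * a⁻¹) ∈ (P' : Subgroup Xb) := by
      rw [map_mul, map_mul, map_inv]
      exact hB ((Subgroup.mem_normalizer_iff.1 hq _).1 hb')
    obtain ⟨h, hh, hhe⟩ := mem_autInducedBy_iff'.1 ((hPmem _).1 h1)
    have haf : IsMap F E (autFun (a : MulAut E)) := isMap_of_mem_autGroup hA0 a.2
    obtain ⟨θ, hθ, hθe⟩ := exists_extension hS hF haf
      (by rw [autFun_img]; exact fullyNormalized_fullyCentralized hS hF hE.2.1)
    refine Subgroup.subset_closure ⟨_, θ, ?_, hθ, hθe⟩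
    refine SetLike.lt_iff_le_and_exists.2 ⟨le_nSub haf, g,
      mem_nSub.2 ⟨Subgroup.mem_top g, hg.2, h, Subgroup.mem_top h, fun v hv => ?_⟩, ?_⟩
    · have h3 := hhe _ (autFun_mem (a : MulAut E) hv)
      rw [Subgroup.coe_mul, Subgroup.coe_mul, Subgroup.coe_inv, autFun_mul, autFun_mul, autFun_inv_apply,
        hge v hv] at h3
      exact h3
    · intro hgE
      exact hb'1 (hinn b (mem_inn_iff.2 ⟨g, hgE, hge⟩))
  have hYtop : Y ≠ ⊤ := by
    intro e
    refine (Alperin.essential_iff hS hF hlt hE.2.1).1 hE (le_antisymm (Alperin.extGroup_le hA0) fun α hα => ?_)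
    obtain ⟨β, hβ, hβe⟩ : ρ' ⟨α, hα⟩ ∈ Y := e ▸ Subgroup.mem_top _
    have h1 := hker (β⁻¹ * ⟨α, hα⟩) (by rw [map_mul, map_inv, hβe, inv_mul_cancel])
    have h2 := mul_mem (show (β : MulAut E) ∈ Alperin.extGroup F E from hβ)
      (Alperin.inn_le_extGroup hlt h1)
    simpa using h2
  -- the normalizer
  have hcE : ∀ g : P, E.normalizerMonoidHom g ∈ A := fun g =>
    autInducedBy_le hA0 (mem_autInducedBy_iff.2 ⟨g, Subgroup.mem_top _, fun _ => rfl⟩)
  let cE : P →* A := E.normalizerMonoidHom.codRestrict A hcE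
  have hcEv : ∀ (g : P) (v : E), (((cE g : A) : MulAut E) v : X) = g * v * (g : X)⁻¹ := fun g v => rfl
  let τ : P →* Xb := ρ'.comp cE
  have hτP : τ.range = (P' : Subgroup Xb) := by
    ext z
    constructor
    · rintro ⟨g, rfl⟩
      exact (hPmem (cE g)).2 (mem_autInducedBy_iff.2 ⟨g, Subgroup.mem_top _, fun _ => rfl⟩)
    · intro hz
      obtain ⟨α, rfl⟩ := hρ' z
      obtain ⟨g, hg, hge⟩ := mem_autInducedBy_iff'.1 ((hPmem α).1 hz)
      refine ⟨⟨g, hg.2⟩, congrArg ρ' (Subtype.ext (autFun_ext fun v hv => ?_))⟩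
      rw [hge v hv, autFun_of_mem _ hv, hcEv]; rfl
  have hτker : τ.ker = E' := by
    ext g
    rw [MonoidHom.mem_ker, Subgroup.mem_subgroupOf]
    refine ⟨fun h => ?_, fun h => hinn _ (mem_inn_iff.2 ⟨g, h, fun v hv => ?_⟩)⟩
    · obtain ⟨n, hn, hne⟩ := mem_inn_iff.1 (hker _ h)
      have h1 : n⁻¹ * (g : X) ∈ E := centric_centralizerIn_le hE.1
        ⟨Subgroup.mem_top _, fun v hv => by
          have h2 := hne v hv
          rw [autFun_of_mem _ hv, hcEv, cj_apply] at h2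
          calc v * (n⁻¹ * g) = n⁻¹ * (n * v * n⁻¹) * g := by group
            _ = n⁻¹ * ((g : X) * v * (g : X)⁻¹) * g := by rw [h2]
            _ = n⁻¹ * g * v := by group⟩
      simpa using E.mul_mem hn h1
    · rw [autFun_of_mem _ hv, hcEv]; rfl
  have hPc : E'.index = Nat.card (P' : Subgroup Xb) := by rw [← hτker, Subgroup.index_ker, hτP]
  have hτapp : ∀ (g : P) (v : E), ((τ g : Xb) : MulAut W) (mk v) = mk ((cE g : MulAut E) v) := fun g v => rfl
  have hτpow : ∀ g : P, ∃ k : ℕ, ((τ g : Xb) : MulAut W) ^ p ^ k = 1 := fun g => by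
    obtain ⟨k, hk⟩ := (hX.to_subgroup P) g
    exact ⟨k, by rw [← SubgroupClass.coe_pow, ← map_pow, hk, map_one]; rfl⟩
  have hE'top : E'.index ≠ 1 := fun h => by
    have hle : P ≤ E := Subgroup.subgroupOf_eq_top.1 (Subgroup.index_eq_one.1 h)
    obtain ⟨g, hg, hgE⟩ := exists_mem_normalizer_not_mem hS hlt
    exact hgE (hle hg.2)
  -- the hyperplane and its kernel
  haveI hΦ'n : (phi p E').Normal := phi_normal
  have hphi' : (phi p E').relIndex E' = p ^ 3 := by
    rw [← Subgroup.relIndex_map_map_of_injective (f := P.subtype) _ _ P.subtype_injective, phi_map,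
      hE'def, Subgroup.map_subgroupOf_eq_of_le hEP, hrk]
  set π := QuotientGroup.mk' (phi p E') with hπdef
  haveI : (E'.map π).Normal := hE'n.map _ (QuotientGroup.mk'_surjective _)
  obtain ⟨H0, hH0n, hH0E, hH0c, hH0C⟩ := exists_flag ((hX.to_subgroup P).to_quotient (phi p E'))
    (W := E'.map π) ((card_map_mk E').trans hphi')
  set H := H0.comap π with hHdef
  haveI : H.Normal := inferInstance
  have hΦH : phi p E' ≤ H := fun z hz => by
    rw [hHdef, Subgroup.mem_comap, show π z = 1 from (QuotientGroup.eq_one_iff z).2 hz]; exact one_mem _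
  have hHE : H ≤ E' := fun z hz => (mem_map_mk phi_le).1 (hH0E hz)
  have hHi : H.relIndex E' = p := by
    have h1 := Subgroup.relIndex_mul_relIndex _ _ _ hΦH hHE
    rw [hphi', ← card_map_mk (N := phi p E') H, hHdef,
      Subgroup.map_comap_eq_self_of_surjective (QuotientGroup.mk'_surjective _) H0, hH0c, pow_succ p 2] at h1
    exact Nat.eq_of_mul_eq_mul_left (pow_pos hpp.pos 2) h1
  -- images in the Frattini quotient
  let img' : Subgroup P → Subgroup W := fun U => ((U.map P.subtype).subgroupOf E).map mk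
  have himg : ∀ (U : Subgroup P), phi p E' ≤ U → U ≤ E' → ∀ (v : E),
      mk v ∈ img' U ↔ (⟨v, hEP v.2⟩ : P) ∈ U := by
    intro U hU hUE v
    constructor
    · rintro ⟨w, hw, hwv⟩
      obtain ⟨u, hu, huw⟩ := hw
      have h1 : (w : X)⁻¹ * v ∈ phi p E := (hmkeq w v).1 hwv
      have h2 : u⁻¹ * (⟨v, hEP v.2⟩ : P) ∈ phi p E' := (mem_phi_subgroupOf hEP).2 (by
        rw [Subgroup.coe_mul, Subgroup.coe_inv, show (u : X) = w from huw]; exact h1)
      have := mul_mem hu (hU h2)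
      rwa [mul_inv_cancel_left] at this
    · exact fun h => ⟨v, ⟨_, h, rfl⟩, rfl⟩
  by_cases hblock : Block p E'
  · -- a single block
    have hidx : E'.index = p := by
      obtain ⟨i, hi⟩ := (hX.to_subgroup P).index E'
      rcases i with _ | _ | i
      · exact absurd (by rw [hi, pow_zero]) hE'top
      · rw [hi, zero_add, pow_one]
      · exfalso
        have hle : (Subgroup.centralizer (H0 : Set (P ⧸ phi p E'))).comap π ≤ E' := by
          intro g hg
          by_contra hgE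
          obtain ⟨h, hh, hhn⟩ := hblock g hgE H hΦH hHE hHi
          exact hhn (mk_cm_eq_one_iff.1 (hg (π h) hh))
        have h1 := Nat.le_of_dvd (Nat.pos_of_ne_zero Subgroup.index_ne_zero_of_finite)
          (Subgroup.index_dvd_of_le hle)
        rw [hi, Subgroup.index_comap_of_surjective _ (QuotientGroup.mk'_surjective _)] at h1
        exact absurd (h1.trans hH0C) (not_le.2 (lt_self_pow₀ hpp.one_lt (by omega)))
    refine ⟨hidx, Or.inl ⟨hblock, fun U hU hUE hUinv => ?_⟩⟩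
    by_contra hne
    push Not at hne
    obtain ⟨g, hg⟩ : ∃ g : P, g ∉ E' := by
      by_contra h; push Not at h
      exact hE'top (Subgroup.index_eq_one.2 (eq_top_iff.2 fun g _ => h g))
    obtain ⟨e0, he0, he0H⟩ : ∃ e0 ∈ E', e0 ∉ H := SetLike.not_le_iff_exists.1 fun hle => by
      rw [Subgroup.relIndex_eq_one.2 hle] at hHi; exact hpp.ne_one hHi.symm
    obtain ⟨-, hc2H, -, -, hfixg, -⟩ := block_shape (hX.to_subgroup P) hphi' hblock hΦH hHE hHi hg he0 he0H
    set c2 := cm (cm e0 g) g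
    have hc2E : (c2 : X) ∈ E := Subgroup.mem_subgroupOf.1 (hHE hc2H)
    refine Linear.irreducible (Q := W) hWp hW3 hp2 hY hYtop (P := P') (a := τ g⁻¹)
      (hτP ▸ ⟨_, rfl⟩) (fun h => hg (by
        have h1 : g⁻¹ ∈ τ.ker := h
        rw [hτker] at h1
        simpa using E'.inv_mem h1))
      (c := mk ⟨c2, hc2E⟩) ?_ (U := img' U) ?_ ?_ ?_
    · intro w hw
      obtain ⟨v, rfl⟩ := QuotientGroup.mk'_surjective _ w
      rw [hτapp, hmkeq, hcEv] at hw
      have hv' : cm (⟨v, hEP v.2⟩ : P) g ∈ phi p E' := (mem_phi_subgroupOf hEP).2 (by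
        have h1 := inv_mem hw
        rw [show ((cm (⟨v, hEP v.2⟩ : P) g : P) : X) = cm (v : X) g from map_cm P.subtype _ _]
        rw [Subgroup.coe_inv, inv_inv, mul_inv_rev, inv_inv] at h1
        rwa [cm_def, show (v : X)⁻¹ * (g : X)⁻¹ * v * g = (v : X)⁻¹ * ((g : X)⁻¹ * v * g) by group])
      obtain ⟨z, hz, w, hw', hzw⟩ := Subgroup.mem_sup_of_normal_left.1
        (hfixg ⟨v, hEP v.2⟩ (Subgroup.mem_subgroupOf.2 v.2) hv')
      obtain ⟨n, rfl⟩ := mem_zpowers_iff.1 hw'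
      refine mem_zpowers_iff.2 ⟨n, ?_⟩
      rw [← map_zpow, hmkeq]
      have h2 : (z : X) * (c2 : X) ^ n = v := by
        rw [← Subgroup.coe_zpow, ← Subgroup.coe_mul, hzw]
      rw [Subgroup.coe_zpow]
      show ((c2 : X) ^ n)⁻¹ * (v : X) ∈ phi p E
      rw [← h2, ← Subgroup.coe_zpow, ← Subgroup.coe_inv, ← Subgroup.coe_mul, ← Subgroup.coe_mul,
        ← mem_phi_subgroupOf hEP]
      have := hΦ'n.conj_mem z hz (c2 ^ n)⁻¹
      simpa [mul_assoc] using this
    · rintro _ ⟨α, rfl⟩ w hw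
      obtain ⟨v, rfl⟩ := QuotientGroup.mk'_surjective _ w
      show mk ((α : MulAut E) v) ∈ img' U
      rw [himg U hU hUE] at hw ⊢
      exact hUinv (MulAut.congr (Subgroup.subgroupOfEquivOfLe hEP).symm (α : MulAut E))
        ⟨⟨v, hEP v.2⟩, Subgroup.mem_subgroupOf.2 v.2⟩ hw
    · intro h
      refine hne.1 (le_antisymm (fun u hu => ?_) hU)
      have h1 : mk ⟨u, Subgroup.mem_subgroupOf.1 (hUE hu)⟩ ∈ img' U := (himg U hU hUE _).2 hu
      rw [h, Subgroup.mem_bot, hmk1] at h1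
      exact (mem_phi_subgroupOf hEP).2 h1
    · intro h
      refine hne.2 (le_antisymm hUE fun u hu => ?_)
      have h1 : mk ⟨u, Subgroup.mem_subgroupOf.1 hu⟩ ∈ img' U := h ▸ Subgroup.mem_top _
      exact (himg U hU hUE _).1 h1
  · -- a transvection
    rw [Block] at hblock
    push Not at hblock
    obtain ⟨x, hx, H1, hΦH1, hH1E, hH1i, hfix⟩ := hblock
    set W0 := img' H1
    have hW0 : Nat.card W0 = p ^ 2 := by
      have h0 := Subgroup.relIndex_mul_relIndex _ _ _ hΦH1 hH1E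
      rw [hphi', hH1i, pow_succ p 2] at h0
      rw [show Nat.card W0 = (phi p (⊤ : Subgroup E)).relIndex ((H1.map P.subtype).subgroupOf E) from
        (relIndex_eq_card_map _).symm,
        ← Subgroup.relIndex_map_map_of_injective (f := E.subtype) _ _ E.subtype_injective, phi_map,
        ← MonoidHom.range_eq_map, Subgroup.range_subtype,
        Subgroup.map_subgroupOf_eq_of_le (Subgroup.map_le_iff_le_comap.2 hH1E),
        ← Subgroup.map_subgroupOf_eq_of_le hEP, ← hE'def, ← phi_map,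
        Subgroup.relIndex_map_map_of_injective (f := P.subtype) _ _ P.subtype_injective]
      exact Nat.eq_of_mul_eq_mul_right hpp.pos h0
    set a : Xb := τ x⁻¹ with ha
    have haP : a ∈ (P' : Subgroup Xb) := hτP ▸ ⟨_, rfl⟩
    have ha1 : a ≠ 1 := fun h => hx (by
      have h1 : x⁻¹ ∈ τ.ker := h
      rw [hτker] at h1
      simpa using E'.inv_mem h1)
    have haW : ∀ w ∈ W0, (a : MulAut W) w = w := by
      intro w hw
      obtain ⟨v, rfl⟩ := QuotientGroup.mk'_surjective _ w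
      have hv := (himg H1 hΦH1 hH1E v).1 hw
      have h1 := inv_mem ((mem_phi_subgroupOf hEP).1 (hfix _ hv))
      rw [hτapp, hmkeq, hcEv]
      rw [show ((cm (⟨v, hEP v.2⟩ : P) x : P) : X) = cm (v : X) x from map_cm P.subtype _ _, cm_def] at h1
      rw [Subgroup.coe_inv]
      have h2 : ((x : X)⁻¹ * v * ((x : X)⁻¹)⁻¹)⁻¹ * v = ((v : X)⁻¹ * (x : X)⁻¹ * v * x)⁻¹ := by group
      rw [h2]; exact h1
    obtain ⟨k, hk⟩ := hτpow x⁻¹
    have haQ : ∀ w, (a : MulAut W) w / w ∈ W0 := by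
      intro w
      have h1 := EssentialShape.step_fixed (p := p) (C := W0) (D := ⊤) (by
        rw [Subgroup.relIndex_top_right]
        have h2 := W0.card_mul_index
        rw [hW0, hW3, pow_succ p 2] at h2
        exact (Nat.eq_of_mul_eq_mul_left (pow_pos hpp.pos 2) h2).le)
        (fun u hu => by rw [haW u hu]; exact hu) (fun u _ => Subgroup.mem_top ((a : MulAut W) u)) hk w
        (Subgroup.mem_top w)
      rwa [mul_comm, ← div_eq_mul_inv] at h1
    obtain ⟨hPa, u0, hu0W, -, hu0, -⟩ := LocalFlavell.MaxClass.Linear.main hWp hW3 hY hYtop haP ha1 hW0 haW haQ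
    have hidx : E'.index = p := by
      rw [hPc, hPa, Nat.card_zpowers]
      refine orderOf_eq_prime (Subtype.ext ?_) ha1
      have ht : LocalFlavell.MaxClass.Linear.Trans (a : MulAut W) W0 u0 := ⟨hu0W, haW, hu0⟩
      simpa using ht.pow_eq hWp
    refine ⟨hidx, Or.inr ?_⟩
    obtain ⟨u, v, q, hdec, hau, hav, haq, ⟨b, ⟨β0, rfl⟩, hbu, hbv, hbq⟩, htor⟩ :=
      Linear.transvection_basis hWp hW3 hY hYtop haP ha1 hW0 haW haQ
    obtain ⟨s, t, hst, ht2, ht3, ht5⟩ := exists_exponents hpp h5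
    obtain ⟨d, ⟨δ0, rfl⟩, hdu, hdv, hdq⟩ := htor t s (by rw [mul_comm]; exact hst)
    obtain ⟨e, rfl⟩ : ∃ e, mk e = v := QuotientGroup.mk'_surjective _ v
    obtain ⟨f, rfl⟩ : ∃ f, mk f = q := QuotientGroup.mk'_surjective _ q
    set c : X := cm (e : X) x with hc
    have hxP : (x : X) ∈ P := x.2
    have hconjE : ∀ v : E, (x : X)⁻¹ * v * x ∈ E := fun v => by
      have h1 := ((cE x⁻¹ : A) : MulAut E) v |>.2
      rw [hcEv, Subgroup.coe_inv, inv_inv] at h1
      exact h1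
    have hamk : ∀ v : E, (a : MulAut W) (mk v) = mk ⟨(x : X)⁻¹ * v * x, hconjE v⟩ := fun v => by
      rw [hτapp]; congr 1
      exact Subtype.ext (by rw [hcEv, Subgroup.coe_inv, inv_inv])
    have hcmem : c ∈ E := by
      rw [hc, cm_def, show (e : X)⁻¹ * (x : X)⁻¹ * e * x = (e : X)⁻¹ * ((x : X)⁻¹ * e * x) by group]
      exact E.mul_mem (E.inv_mem e.2) (hconjE e)
    have hcu : mk ⟨c, hcmem⟩ = u := by
      refine mul_left_cancel (a := mk e) ?_
      rw [← hav, hamk, ← map_mul]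
      congr 1
      refine Subtype.ext ?_
      show (e : X) * c = (x : X)⁻¹ * e * x
      rw [conj_eq_mul_cm]
    subst hcu
    have hautmk : ∀ (α : A) (v : E), mk ((α : MulAut E) v) = ((ρ α : MulAut W)) (mk v) := fun α v => rfl
    have hrel : ∀ (α : A) (v : E) (w : W) (z : E), (ρ α : MulAut W) (mk v) = w → mk z = w →
        (z : X)⁻¹ * autFun (α : MulAut E) v ∈ phi p E := by
      intro α v w z h1 h2
      rw [autFun_apply, ← hmkeq, h2, ← h1]
      rfl
    have hfixmk : ∀ (v : E), (a : MulAut W) (mk v) = mk v → cm (v : X) x ∈ phi p E := fun v hv => by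
      rw [hamk, eq_comm, hmkeq] at hv
      rwa [cm_def, show (v : X)⁻¹ * (x : X)⁻¹ * v * x = (v : X)⁻¹ * ((x : X)⁻¹ * v * x) by group]
    have hconjδ : ∀ n : ℤ, (ρ δ0 : MulAut W) * (a : MulAut W) ^ n * (ρ δ0 : MulAut W)⁻¹ =
        (a : MulAut W) ^ (n * t ^ 2) := by
      have h1 : (ρ δ0 : MulAut W) * (a : MulAut W) * (ρ δ0 : MulAut W)⁻¹ = (a : MulAut W) ^ (t ^ 2) := by
        rw [mul_inv_eq_iff_eq_mul]
        refine MulEquiv.ext fun w => ?_
        obtain ⟨A1, B1, C1, rfl⟩ := hdec w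
        simp only [MulAut.mul_apply, map_mul, map_zpow, hau, hav, haq, hdu, hdv, hdq,
          LocalFlavell.MaxClass.Linear.zpow_fix hau, LocalFlavell.MaxClass.Linear.zpow_fix haq]
        have h2 := RankTwoResistant.transvection_zpow (σ := (a : MulAut W)) (y := mk ⟨c, hcmem⟩) (w := mk e) (r := 1)
          hau (by rw [zpow_one]; exact hav) (t ^ 2) 1 0
        simp only [zpow_one, zpow_zero, mul_one, zero_add, one_mul] at h2
        rw [h2]
        simp only [mul_zpow, ← zpow_mul]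
        rw [RankTwoResistant.zpow_eq_of_dvd (hWp (mk ⟨c, hcmem⟩)) (i := t * B1) (j := t ^ 2 * (s * B1)) (by
          rw [show t * B1 - t ^ 2 * (s * B1) = -((s * t - 1) * (t * B1)) by ring]
          exact (hst.mul_right _).neg_right)]
        simp only [mul_assoc, mul_comm, mul_left_comm]
      intro n
      rw [mul_comm n, zpow_mul, ← h1, conj_zpow]
    have hPgen : ∀ g : P, ∃ n : ℤ, (a : MulAut W) ^ n = (τ g : Xb) := fun g => by
      have h1 : τ g ∈ zpowers a := hPa.le (hτP ▸ ⟨g, rfl⟩)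
      obtain ⟨n, hn⟩ := mem_zpowers_iff.1 h1
      exact ⟨n, by rw [← hn, Subgroup.coe_zpow]⟩
    refine ⟨(δ0 : MulAut E), (β0 : MulAut E), x, e, c, f, s, t, ?_⟩
    refine ⟨hst, ht2, ht3, ht5, δ0.2, hxP, fun h => hx (Subgroup.mem_subgroupOf.2 h), e.2, hcmem, f.2, hc,
      hfixmk ⟨c, hcmem⟩ hau, hfixmk f haq, ?_, ?_, ?_, ?_, ?_, ?_, ?_, ?_, ?_, ?_⟩
    · intro v hv
      obtain ⟨A1, B1, C1, h1⟩ := hdec (mk ⟨v, hv⟩)
      refine ⟨B1, A1, C1, ?_⟩
      rw [mul_comm (mk ⟨c, hcmem⟩ ^ A1), ← map_zpow, ← map_zpow, ← map_zpow, ← map_mul, ← map_mul, hmkeq] at h1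
      simpa using h1
    · intro A1 B1 C1 h1
      have h2 : mk e ^ A1 * mk ⟨c, hcmem⟩ ^ B1 * mk f ^ C1 = 1 := by
        rw [← map_zpow, ← map_zpow, ← map_zpow, ← map_mul, ← map_mul, hmk1]
        simpa using h1
      refine ⟨indep_three hWp hW3 (fun w => ?_) h2, ?_, ?_⟩
      · obtain ⟨a1, b1, c1, rfl⟩ := hdec w
        exact ⟨b1, a1, c1, by ac_rfl⟩
      · exact indep_three hWp hW3 (u := mk ⟨c, hcmem⟩) hdec
          (by rw [mul_comm (mk ⟨c, hcmem⟩ ^ B1)]; exact h2)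
      · refine indep_three hWp hW3 (u := mk f) (v := mk e) (q := mk ⟨c, hcmem⟩) (A := C1) (B := A1) (C := B1)
          (fun w => ?_) (by rw [← h2]; ac_rfl)
        obtain ⟨a1, b1, c1, rfl⟩ := hdec w
        exact ⟨c1, b1, a1, by ac_rfl⟩
    · have := hrel δ0 e _ (e ^ s) hdv (by rw [map_zpow])
      simpa using this
    · have := hrel δ0 ⟨c, hcmem⟩ _ (⟨c, hcmem⟩ ^ t) hdu (by rw [map_zpow])
      simpa using this
    · exact hrel δ0 f _ f hdq rfl
    · exact hrel β0 e _ e hbv rfl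
    · have := hrel β0 ⟨c, hcmem⟩ _ (⟨c, hcmem⟩ * e) hbu (map_mul _ _ _)
      simpa using this
    · exact hrel β0 f _ f hbq rfl
    · intro g hg
      obtain ⟨n, hn⟩ := hPgen ⟨g, hg⟩
      set h0 : P := (x⁻¹) ^ (n * t ^ 2)
      have h1 : ρ' ((cE h0)⁻¹ * (δ0 * cE ⟨g, hg⟩ * δ0⁻¹)) = 1 := by
        refine Subtype.ext ?_
        rw [map_mul, map_inv, map_mul, map_mul, map_inv]
        show ((τ h0 : Xb) : MulAut W)⁻¹ * ((ρ δ0 : MulAut W) * ((τ ⟨g, hg⟩ : Xb) : MulAut W) * (ρ δ0 : MulAut W)⁻¹) = 1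
        rw [← hn, hconjδ, map_zpow, Subgroup.coe_zpow, ← ha, inv_mul_cancel]
      obtain ⟨n0, hn0, hn0e⟩ := mem_inn_iff.1 (hker _ h1)
      refine ⟨(h0 : X) * n0, fun v hv => ?_⟩
      have h2 := hn0e _ (autFun_mem (δ0 : MulAut E) hv)
      simp only [Subgroup.coe_mul, Subgroup.coe_inv, autFun_mul, autFun_inv_apply] at h2
      have h3 : ∀ w ∈ E, autFun ((cE h0 : A) : MulAut E) w = (h0 : X) * w * (h0 : X)⁻¹ := fun w hw => by
        rw [autFun_of_mem _ hw, hcEv]
      have h4 : autFun ((cE ⟨g, hg⟩ : A) : MulAut E) v = g * v * g⁻¹ := by rw [autFun_of_mem _ hv, hcEv]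
      rw [h4] at h2
      have h5 := congrArg (autFun ((cE h0 : A) : MulAut E)) h2
      rw [autFun_apply_inv, cj_apply,
        h3 _ (E.mul_mem (E.mul_mem hn0 (autFun_mem _ hv)) (E.inv_mem hn0))] at h5
      rw [h5]; group
    · intro h hh hhv
      have h1 : τ (x ^ (t ^ 2)) = τ ⟨h, hh⟩ := by
        have h2 : δ0 * cE x * δ0⁻¹ = cE ⟨h, hh⟩ := by
          refine Subtype.ext (autFun_ext fun v hv => ?_)
          simp only [Subgroup.coe_mul, Subgroup.coe_inv, autFun_mul]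
          rw [autFun_of_mem ((cE x : A) : MulAut E) (autFun_mem _ hv), hcEv,
            autFun_of_mem ((cE ⟨h, hh⟩ : A) : MulAut E) hv, hcEv]
          have h3 := hhv _ (autFun_mem ((δ0 : MulAut E))⁻¹ hv)
          rw [autFun_apply_inv] at h3
          exact h3
        refine Subtype.ext ?_
        rw [show τ ⟨h, hh⟩ = ρ' (δ0 * cE x * δ0⁻¹) from congrArg ρ' h2.symm, map_mul, map_mul, map_inv]
        show ((τ (x ^ (t ^ 2)) : Xb) : MulAut W) =
          (ρ δ0 : MulAut W) * ((τ x : Xb) : MulAut W) * (ρ δ0 : MulAut W)⁻¹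
        rw [show ((τ x : Xb) : MulAut W) = (a : MulAut W) ^ (-1 : ℤ) by
          rw [zpow_neg_one, ha, ← Subgroup.coe_inv, ← map_inv, inv_inv], hconjδ, map_zpow, Subgroup.coe_zpow,
          show (τ x : Xb) = a⁻¹ by rw [ha, map_inv, inv_inv], Subgroup.coe_inv, inv_zpow', neg_one_mul]
      have h4 : (x ^ (t ^ 2))⁻¹ * (⟨h, hh⟩ : P) ∈ E' := by
        rw [← hτker, MonoidHom.mem_ker, map_mul, map_inv, h1, inv_mul_cancel]
      simpa using Subgroup.mem_subgroupOf.1 h4

end Cfsg.Agent.Fusion.RankThree
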