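import Cfsg.Agent.Lib.Fusion.RankThree.Section
import Cfsg.Agent.Lib.Fusion.RankTwoResistant.Torus

/-!
An element over a group of order `p ^ 4` and class two with a torus produces an elementary abelian group
of order `p ^ 4`.
-/

set_option autoImplicit false
set_option linter.unusedSectionVars false
set_option linter.style.haveILetI false

namespace Cfsg.Agent.Fusion.RankThree.Tower

open Subgroup

variable {G : Type*} [Group G] [Finite G] {p : ℕ} [hp : Fact p.Prime]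

/-- The relations of the group `⟨x, e, c, f⟩`. -/
structure Rel (p : ℕ) (x e c f : G) : Prop where
  xp : x ^ p = 1
  ep : e ^ p = 1
  cp : c ^ p = 1
  fp : f ^ p = 1
  xc : Commute x c
  xf : Commute x f
  ec : Commute e c
  ef : Commute e f
  cf : Commute c f
  ex : cm e x = c
  uniq : ∀ A B C D : ℤ, x ^ A * e ^ B * c ^ C * f ^ D = 1 →
    (p : ℤ) ∣ A ∧ (p : ℤ) ∣ B ∧ (p : ℤ) ∣ C ∧ (p : ℤ) ∣ D

variable {x e c f : G}

/-- The normal form. -/
def nf (x e c f : G) (A B C D : ℤ) : G := x ^ A * e ^ B * c ^ C * f ^ D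

theorem nf_mul (h : Rel p x e c f) (A B C D A' B' C' D' : ℤ) :
    nf x e c f A B C D * nf x e c f A' B' C' D' =
      nf x e c f (A + A') (B + B') (C + C' + B * A') (D + D') := by
  have hcm : e ^ B * x ^ A' = x ^ A' * e ^ B * c ^ (B * A') := by
    have h1 : cm (e ^ B) x = c ^ B := by
      rw [cm_pow_left (by rw [h.ex]; exact h.ec.symm) B, h.ex]
    have h2 : cm (e ^ B) (x ^ A') = c ^ (B * A') := by
      rw [cm_pow_right (by rw [h1]; exact h.xc.symm.zpow_left B) A', h1, zpow_mul]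
    rw [← h2, mul_eq_mul_cm]
  have e1 : c ^ C * f ^ D * x ^ A' = x ^ A' * (c ^ C * f ^ D) :=
    ((h.xc.symm.zpow_zpow C A').mul_left (h.xf.symm.zpow_zpow D A')).eq
  have e2 : c ^ (B * A') * (c ^ C * f ^ D) * e ^ B' = e ^ B' * (c ^ (B * A') * (c ^ C * f ^ D)) :=
    ((h.ec.symm.zpow_zpow _ B').mul_left ((h.ec.symm.zpow_zpow C B').mul_left (h.ef.symm.zpow_zpow D B'))).eq
  unfold nf
  calc x ^ A * e ^ B * c ^ C * f ^ D * (x ^ A' * e ^ B' * c ^ C' * f ^ D')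
      = x ^ A * e ^ B * (c ^ C * f ^ D * x ^ A') * e ^ B' * c ^ C' * f ^ D' := by group
    _ = x ^ A * (e ^ B * x ^ A') * (c ^ C * f ^ D) * e ^ B' * c ^ C' * f ^ D' := by rw [e1]; group
    _ = x ^ A * x ^ A' * e ^ B * (c ^ (B * A') * (c ^ C * f ^ D) * e ^ B') * c ^ C' * f ^ D' := by
        rw [hcm]; group
    _ = x ^ (A + A') * e ^ (B + B') * (c ^ (B * A') * c ^ C) * (f ^ D * c ^ C') * f ^ D' := by
        rw [e2]; group
    _ = x ^ (A + A') * e ^ (B + B') * (c ^ (B * A') * c ^ C * c ^ C') * (f ^ D * f ^ D') := by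
        rw [(h.cf.symm.zpow_zpow D C').eq]; group
    _ = _ := by
        rw [← zpow_add, ← zpow_add, ← zpow_add]; congr 3; ring

theorem nf_zero : nf x e c f 0 0 0 0 = (1 : G) := by simp [nf]

theorem nf_congr (h : Rel p x e c f) {A B C D A' B' C' D' : ℤ} (hA : (p : ℤ) ∣ A - A')
    (hB : (p : ℤ) ∣ B - B') (hC : (p : ℤ) ∣ C - C') (hD : (p : ℤ) ∣ D - D') :
    nf x e c f A B C D = nf x e c f A' B' C' D' := by
  unfold nf
  rw [RankTwoResistant.zpow_eq_of_dvd h.xp hA, RankTwoResistant.zpow_eq_of_dvd h.ep hB,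
    RankTwoResistant.zpow_eq_of_dvd h.cp hC, RankTwoResistant.zpow_eq_of_dvd h.fp hD]

theorem nf_inj (h : Rel p x e c f) {A B C D A' B' C' D' : ℤ}
    (heq : nf x e c f A B C D = nf x e c f A' B' C' D') :
    (p : ℤ) ∣ A - A' ∧ (p : ℤ) ∣ B - B' ∧ (p : ℤ) ∣ C - C' ∧ (p : ℤ) ∣ D - D' := by
  have h1 : nf x e c f (A - A') (B - B') (C - C' - (B - B') * A') (D - D') * nf x e c f A' B' C' D' =
      nf x e c f A B C D := by
    rw [nf_mul h]; congr 1 <;> ring
  rw [heq, mul_eq_right] at h1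
  obtain ⟨a, b, cc, d⟩ := h.uniq _ _ _ _ h1
  refine ⟨a, b, ?_, d⟩
  have := dvd_add cc (b.mul_right A')
  rwa [sub_add_cancel] at this

theorem nf_zpow (h : Rel p x e c f) (A B C D n : ℤ) :
    ∃ C', nf x e c f A B C D ^ n = nf x e c f (n * A) (n * B) C' (n * D) := by
  induction n with
  | zero => exact ⟨0, by simp [nf]⟩
  | succ n ih =>
    obtain ⟨C', hC'⟩ := ih
    exact ⟨C' + C + n * B * A, by rw [zpow_add, zpow_one, hC', nf_mul h]; congr 1 <;> ring⟩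
  | pred n ih =>
    obtain ⟨C', hC'⟩ := ih
    refine ⟨C' - C - (-(n : ℤ) - 1) * B * A, ?_⟩
    rw [zpow_sub, zpow_one, hC', mul_inv_eq_iff_eq_mul, nf_mul h]; congr 1 <;> ring

theorem nf_zpow_flat (h : Rel p x e c f) (A C D n : ℤ) :
    nf x e c f A 0 C D ^ n = nf x e c f (n * A) 0 (n * C) (n * D) := by
  unfold nf
  simp only [zpow_zero, mul_one]
  rw [((h.xf.zpow_zpow A D).mul_left (h.cf.zpow_zpow C D)).mul_zpow, (h.xc.zpow_zpow A C).mul_zpow,
    ← zpow_mul, ← zpow_mul, ← zpow_mul, mul_comm A, mul_comm C, mul_comm D]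

theorem nf_conj (h : Rel p x e c f) (A B C D A' B' C' D' : ℤ) :
    (nf x e c f A' B' C' D')⁻¹ * nf x e c f A B C D * nf x e c f A' B' C' D' =
      nf x e c f A B (C + B * A' - B' * A) D := by
  rw [mul_assoc, inv_mul_eq_iff_eq_mul, nf_mul h, nf_mul h]; congr 1 <;> ring

theorem exists_nf (h : Rel p x e c f) {z : G} (hz : z ∈ closure ({x, e, c, f} : Set G)) :
    ∃ A B C D, z = nf x e c f A B C D := by
  induction hz using closure_induction with
  | mem z hz =>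
    rcases hz with rfl | rfl | rfl | rfl
    · exact ⟨1, 0, 0, 0, by simp [nf]⟩
    · exact ⟨0, 1, 0, 0, by simp [nf]⟩
    · exact ⟨0, 0, 1, 0, by simp [nf]⟩
    · exact ⟨0, 0, 0, 1, by simp [nf]⟩
  | one => exact ⟨0, 0, 0, 0, nf_zero.symm⟩
  | mul a b _ _ iha ihb =>
    obtain ⟨A, B, C, D, rfl⟩ := iha
    obtain ⟨A', B', C', D', rfl⟩ := ihb
    exact ⟨_, _, _, _, nf_mul h A B C D A' B' C' D'⟩
  | inv a _ iha =>
    obtain ⟨A, B, C, D, rfl⟩ := iha
    refine ⟨-A, -B, -C + B * A, -D, inv_eq_of_mul_eq_one_right ?_⟩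
    rw [nf_mul h, ← nf_zero]; congr 1 <;> ring

theorem nf_mem (A B C D : ℤ) : nf x e c f A B C D ∈ closure ({x, e, c, f} : Set G) :=
  mul_mem (mul_mem (mul_mem (zpow_mem (subset_closure (by simp)) _) (zpow_mem (subset_closure (by simp)) _))
    (zpow_mem (subset_closure (by simp)) _)) (zpow_mem (subset_closure (by simp)) _)

theorem map_nf {H : Type*} [Group H] (φ : G →* H) (A B C D : ℤ) :
    φ (nf x e c f A B C D) = φ x ^ A * φ e ^ B * φ c ^ C * φ f ^ D := by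
  simp [nf]

set_option maxHeartbeats 1600000 in
/-- The contradiction. -/
theorem exists_elem_card (hG : IsPGroup p G) {s t : ℤ} (hst : (p : ℤ) ∣ s * t - 1)
    (ht2 : ¬ (p : ℤ) ∣ t ^ 2 - 1) (ht3 : ¬ (p : ℤ) ∣ t ^ 3 - 1) (ht5 : ¬ (p : ℤ) ∣ t ^ 5 - 1)
    (h : Rel p x e c f) [(closure ({x, e, c, f} : Set G)).Normal] {y : G} (hyc : Commute y c)
    {D0 : ℤ} (hyf : y⁻¹ * f * y = f * c ^ D0)
    {B0 G0 : ℤ} (hyx : y⁻¹ * x * y = x * c ^ B0 * f ^ G0)
    {r : ℤ} (hr : ¬ (p : ℤ) ∣ r) (hye : ∃ C D : ℤ, y⁻¹ * e * y = e * x ^ r * c ^ C * f ^ D)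
    (hyp : y ^ p ∈ closure ({x, e, c, f} : Set G)) (δ : G →* G)
    {i j : ℤ} (hδx : δ x = x ^ (t ^ 2) * c ^ i * f ^ j) (hδe : δ e = e ^ s) (hδc : δ c = c ^ t)
    (hδf : δ f = f) {u : ℕ} {q : G} (hq : q ∈ closure ({x, e, c, f} : Set G)) (hδy : δ y = y ^ u * q) :
    ∃ B : Subgroup G, Elem p B ∧ p ^ 4 ≤ Nat.card B := by
  have hpp := hp.out
  have hpi := Nat.prime_iff_prime_int.1 hpp
  set Q0 := closure ({x, e, c, f} : Set G) with hQ0
  have hnfx : x = nf x e c f 1 0 0 0 := by simp [nf]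
  have hnfe : e = nf x e c f 0 1 0 0 := by simp [nf]
  have hnff : f = nf x e c f 0 0 0 1 := by simp [nf]
  have hnfc : c = nf x e c f 0 0 1 0 := by simp [nf]
  have hδnf : ∀ A B C D : ℤ, δ (nf x e c f A B C D) =
      nf x e c f (A * t ^ 2) (B * s) (A * i + C * t) (A * j + D) := by
    intro A B C D
    rw [map_nf, hδx, hδe, hδc, hδf,
      show x ^ (t ^ 2) * c ^ i * f ^ j = nf x e c f (t ^ 2) 0 i j by simp [nf], nf_zpow_flat h,
      show (e ^ s) ^ B = nf x e c f 0 (B * s) 0 0 by simp [nf, ← zpow_mul, mul_comm],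
      show (c ^ t) ^ C = nf x e c f 0 0 (C * t) 0 by simp [nf, ← zpow_mul, mul_comm],
      show f ^ D = nf x e c f 0 0 0 D by simp [nf], nf_mul h, nf_mul h, nf_mul h]
    congr 1 <;> ring
  -- powers of `y`
  have hyc' : y⁻¹ * c * y = c := by rw [mul_assoc, hyc.symm.eq, inv_mul_cancel_left]
  have hKzpow : ∀ (v : G) (n : ℤ), y⁻¹ * v ^ n * y = (y⁻¹ * v * y) ^ n := fun v n => by
    rw [show y⁻¹ * v * y = y⁻¹ * v * (y⁻¹)⁻¹ by rw [inv_inv], conj_zpow, inv_inv]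
  have hupow : ∀ (v : G) (k : ℤ) (n : ℕ), (y ^ n)⁻¹ * v ^ k * y ^ n = ((y ^ n)⁻¹ * v * y ^ n) ^ k := by
    intro v k n
    rw [show (y ^ n)⁻¹ * v * y ^ n = (y ^ n)⁻¹ * v * ((y ^ n)⁻¹)⁻¹ by rw [inv_inv], conj_zpow, inv_inv]
  have hyfn : ∀ n : ℕ, (y ^ n)⁻¹ * f * y ^ n = f * c ^ (n * D0) := by
    intro n
    induction n with
    | zero => simp
    | succ n ih =>
      calc (y ^ (n + 1))⁻¹ * f * y ^ (n + 1) = y⁻¹ * ((y ^ n)⁻¹ * f * y ^ n) * y := by rw [pow_succ]; group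
        _ = (y⁻¹ * f * y) * (y⁻¹ * c ^ ((n : ℤ) * D0) * y) := by rw [ih]; group
        _ = f * (c ^ D0 * c ^ ((n : ℤ) * D0)) := by rw [hKzpow, hyf, hyc', mul_assoc]
        _ = _ := by rw [← zpow_add]; congr 2; push_cast; ring
  have hyxn : ∀ n : ℕ, ∃ C, (y ^ n)⁻¹ * x * y ^ n = nf x e c f 1 0 C (n * G0) := by
    intro n
    induction n with
    | zero => exact ⟨0, by simp [nf]⟩
    | succ n ih =>
      obtain ⟨C, hC⟩ := ih
      refine ⟨B0 + C + (n * G0) * D0, ?_⟩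
      calc (y ^ (n + 1))⁻¹ * x * y ^ (n + 1) = y⁻¹ * ((y ^ n)⁻¹ * x * y ^ n) * y := by rw [pow_succ]; group
        _ = (y⁻¹ * x * y) * (y⁻¹ * c ^ C * y) * (y⁻¹ * f ^ ((n : ℤ) * G0) * y) := by
            rw [hC]; simp only [nf, zpow_one, zpow_zero, mul_one]; group
        _ = nf x e c f 1 0 B0 G0 * nf x e c f 0 0 C 0 * nf x e c f 0 0 (D0 * ((n : ℤ) * G0)) ((n : ℤ) * G0) := by
            rw [hyx, hKzpow, hKzpow, hyc', hyf,
              ((h.cf.symm).zpow_right D0).mul_zpow, ← zpow_mul,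
              (h.cf.symm.zpow_zpow _ _).eq]
            simp [nf]
        _ = _ := by rw [nf_mul h, nf_mul h]; congr 1 <;> push_cast <;> ring
  obtain ⟨C1, F1, hye⟩ := hye
  have hye' : y⁻¹ * e * y = nf x e c f r 1 (r + C1) F1 := by
    rw [hye, show e * x ^ r = nf x e c f 0 1 0 0 * nf x e c f r 0 0 0 by simp [nf],
      show c ^ C1 = nf x e c f 0 0 C1 0 by simp [nf], show f ^ F1 = nf x e c f 0 0 0 F1 by simp [nf],
      nf_mul h, nf_mul h, nf_mul h]
    congr 1 <;> ring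
  have hyen : ∀ n : ℕ, ∃ C D, (y ^ n)⁻¹ * e * y ^ n = nf x e c f (n * r) 1 C D := by
    intro n
    induction n with
    | zero => exact ⟨0, 0, by simp [nf]⟩
    | succ n ih =>
      obtain ⟨C, D, hCD⟩ := ih
      obtain ⟨C', hC'⟩ := nf_zpow h 1 0 B0 G0 ((n : ℤ) * r)
      refine ⟨C' + (r + C1) + C + D * D0, (n * r) * G0 + F1 + D, ?_⟩
      calc (y ^ (n + 1))⁻¹ * e * y ^ (n + 1) = y⁻¹ * ((y ^ n)⁻¹ * e * y ^ n) * y := by rw [pow_succ]; group
        _ = (y⁻¹ * x ^ ((n : ℤ) * r) * y) * (y⁻¹ * e * y) * (y⁻¹ * c ^ C * y) * (y⁻¹ * f ^ D * y) := by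
            rw [hCD]; simp only [nf, zpow_one]; group
        _ = nf x e c f 1 0 B0 G0 ^ ((n : ℤ) * r) * nf x e c f r 1 (r + C1) F1 * nf x e c f 0 0 C 0 *
              nf x e c f 0 0 (D0 * D) D := by
            rw [hye', hKzpow, hKzpow, hKzpow, hyx, hyc', hyf, ((h.cf.symm).zpow_right D0).mul_zpow,
              ← zpow_mul, (h.cf.symm.zpow_zpow _ _).eq]
            simp [nf]
        _ = _ := by rw [hC', nf_mul h, nf_mul h, nf_mul h]; congr 1 <;> push_cast <;> ring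
  obtain ⟨Aq, Bq, Cq, Dq, rfl⟩ := exists_nf h hq
  have hδconj : ∀ v, δ (y⁻¹ * v * y) =
      (nf x e c f Aq Bq Cq Dq)⁻¹ * ((y ^ u)⁻¹ * δ v * y ^ u) * nf x e c f Aq Bq Cq Dq := by
    intro v
    rw [map_mul, map_mul, map_inv, hδy]; group
  have hst' : ∀ {w : ℤ}, (p : ℤ) ∣ w * t → (p : ℤ) ∣ w := fun {w} hw => by
    have := dvd_sub (hw.mul_left s) (hst.mul_left w)
    rwa [show s * (w * t) - w * (s * t - 1) = w by ring] at this
  have ht1 : ¬ (p : ℤ) ∣ t - 1 := fun hd => ht2 (by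
    rw [show t ^ 2 - 1 = (t - 1) * (t + 1) by ring]; exact hd.mul_right _)
  -- the degree of `δ` on `y`
  have hu : (p : ℤ) ∣ (u : ℤ) - t ^ 3 := by
    obtain ⟨Ce, De, hCe⟩ := hyen u
    obtain ⟨C', hC'⟩ := nf_zpow h ((u : ℤ) * r) 1 Ce De s
    have h1 : δ (y⁻¹ * e * y) = nf x e c f (s * ((u : ℤ) * r)) (s * 1)
        (C' + s * 1 * Aq - Bq * (s * ((u : ℤ) * r))) (s * De) := by
      rw [hδconj, hδe, hupow, hCe, hC', nf_conj h]
    rw [hye', hδnf] at h1
    obtain ⟨h2, -⟩ := nf_inj h h1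
    rcases hpi.dvd_or_dvd (show (p : ℤ) ∣ (t ^ 2 - s * u) * r by
      rw [show (t ^ 2 - s * u) * r = r * t ^ 2 - s * ((u : ℤ) * r) by ring]; exact h2) with h3 | h3
    · rw [show (u : ℤ) - t ^ 3 = -((t ^ 2 - s * u) * t) - (s * t - 1) * u by ring]
      exact dvd_sub (h3.mul_right t).neg_right (hst.mul_right _)
    · exact absurd h3 hr
  -- `[x, y]` has no `f`-component
  have hG0 : (p : ℤ) ∣ G0 := by
    obtain ⟨Cx, hCx⟩ := hyxn u
    obtain ⟨C', hC'⟩ := nf_zpow h 1 0 Cx ((u : ℤ) * G0) (t ^ 2)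
    have h1 : δ (y⁻¹ * x * y) = nf x e c f (t ^ 2) 0 (C' + i + (u : ℤ) * D0 * j + 0 * Aq - Bq * t ^ 2)
        (t ^ 2 * ((u : ℤ) * G0) + j) := by
      rw [hδconj, hδx, show (y ^ u)⁻¹ * (x ^ (t ^ 2) * c ^ i * f ^ j) * y ^ u =
        ((y ^ u)⁻¹ * x ^ (t ^ 2) * y ^ u) * ((y ^ u)⁻¹ * c ^ i * y ^ u) * ((y ^ u)⁻¹ * f ^ j * y ^ u) by group,
        hupow, hupow, hupow, hCx, hC', hyfn,
        show (y ^ u)⁻¹ * c * y ^ u = c by rw [mul_assoc, (hyc.pow_left u).symm.eq, inv_mul_cancel_left],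
        ((h.cf.symm).zpow_right _).mul_zpow, ← zpow_mul, (h.cf.symm.zpow_zpow _ _).eq,
        show c ^ i = nf x e c f 0 0 i 0 by simp [nf],
        show c ^ ((u : ℤ) * D0 * j) * f ^ j = nf x e c f 0 0 ((u : ℤ) * D0 * j) j by simp [nf],
        nf_mul h, nf_mul h, nf_conj h]
      congr 1 <;> ring
    rw [hyx, show x * c ^ B0 * f ^ G0 = nf x e c f 1 0 B0 G0 by simp [nf], hδnf] at h1
    obtain ⟨-, -, -, h2⟩ := nf_inj h h1
    have h3 : (p : ℤ) ∣ G0 * (t ^ 5 - 1) := by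
      rw [show G0 * (t ^ 5 - 1) = -((1 * j + G0) - (t ^ 2 * ((u : ℤ) * G0) + j)) - t ^ 2 * G0 * ((u : ℤ) - t ^ 3)
        by ring]
      exact dvd_sub h2.neg_right (hu.mul_left _)
    exact (hpi.dvd_or_dvd h3).resolve_right ht5
  -- the new element
  set y' := y * e ^ B0 with hy'def
  have hnfeB : e ^ B0 = nf x e c f 0 B0 0 0 := by simp [nf]
  have hy'conj : ∀ v, y'⁻¹ * v * y' = (e ^ B0)⁻¹ * (y⁻¹ * v * y) * e ^ B0 := fun v => by
    rw [hy'def]; group
  have hy'x : Commute y' x := by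
    have h1 : y'⁻¹ * x * y' = x := by
      rw [hy'conj, hyx, show x * c ^ B0 * f ^ G0 = nf x e c f 1 0 B0 G0 by simp [nf], hnfeB, nf_conj h]
      conv_rhs => rw [hnfx]
      refine nf_congr h (by simp) (by simp) ?_ (by simpa using hG0)
      simp
    rw [mul_assoc, inv_mul_eq_iff_eq_mul] at h1
    exact h1.symm
  have hy'c : Commute y' c := hyc.mul_left (h.ec.zpow_left B0)
  have hy'f : y'⁻¹ * f * y' = f * c ^ D0 := by
    rw [hy'conj, hyf, mul_assoc, ((h.ef.symm.zpow_right B0).mul_left ((h.ec.symm.zpow_zpow D0 B0))).eq,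
      inv_mul_cancel_left]
  have hy'e : ∃ C D, y'⁻¹ * e * y' = nf x e c f r 1 C D := by
    rw [hy'conj, hye', hnfeB, nf_conj h]; exact ⟨_, _, rfl⟩
  set π := QuotientGroup.mk' Q0
  have hπ1 : ∀ {v}, v ∈ Q0 → π v = 1 := fun {v} hv => (QuotientGroup.eq_one_iff v).2 hv
  have heQ : e ∈ Q0 := subset_closure (by simp)
  have hπy : π y' = π y := by rw [hy'def, map_mul, hπ1 (zpow_mem heQ _), mul_one]
  have hy'p : y' ^ p ∈ Q0 := by
    refine (QuotientGroup.eq_one_iff _).1 ?_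
    show π (y' ^ p) = 1
    rw [map_pow, hπy, ← map_pow]
    exact hπ1 hyp
  obtain ⟨q', hq', hδy'⟩ : ∃ q' ∈ Q0, δ y' = y' ^ u * q' := by
    refine ⟨(y' ^ u)⁻¹ * δ y', ?_, (mul_inv_cancel_left _ _).symm⟩
    refine (QuotientGroup.eq_one_iff _).1 ?_
    show π _ = 1
    rw [map_mul, map_inv, map_pow, hπy, hy'def, map_mul, hδy, map_mul, map_mul, map_pow,
      hπ1 (nf_mem _ _ _ _), map_zpow δ, hδe, hπ1 (zpow_mem (zpow_mem heQ _) _)]
    group
  obtain ⟨A1, B1, C1', D1, rfl⟩ := exists_nf h hq'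
  have hy'fn : ∀ n : ℕ, (y' ^ n)⁻¹ * f * y' ^ n = f * c ^ (n * D0) := by
    intro n
    induction n with
    | zero => simp
    | succ n ih =>
      calc (y' ^ (n + 1))⁻¹ * f * y' ^ (n + 1) = y'⁻¹ * ((y' ^ n)⁻¹ * f * y' ^ n) * y' := by
            rw [pow_succ]; group
        _ = (y'⁻¹ * f * y') * (y'⁻¹ * c ^ ((n : ℤ) * D0) * y') := by rw [ih]; group
        _ = f * (c ^ D0 * c ^ ((n : ℤ) * D0)) := by
            rw [hy'f, mul_assoc y'⁻¹, ((hy'c.zpow_right _).symm).eq, inv_mul_cancel_left, mul_assoc]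
        _ = _ := by rw [← zpow_add]; congr 2; push_cast; ring
  -- `f` is centralized
  have hD0 : (p : ℤ) ∣ D0 := by
    have h1 : δ (y'⁻¹ * f * y') = nf x e c f 0 0 ((u : ℤ) * D0 + 0 * A1 - B1 * 0) 1 := by
      rw [map_mul, map_mul, map_inv, hδy', hδf,
        show (y' ^ u * nf x e c f A1 B1 C1' D1)⁻¹ * f * (y' ^ u * nf x e c f A1 B1 C1' D1) =
          (nf x e c f A1 B1 C1' D1)⁻¹ * ((y' ^ u)⁻¹ * f * y' ^ u) * nf x e c f A1 B1 C1' D1 by group,
        hy'fn, (h.cf.symm.zpow_right _).eq,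
        show c ^ ((u : ℤ) * D0) * f = nf x e c f 0 0 ((u : ℤ) * D0) 1 by simp [nf], nf_conj h]
    rw [hy'f, (h.cf.symm.zpow_right _).eq, show c ^ D0 * f = nf x e c f 0 0 D0 1 by simp [nf], hδnf] at h1
    obtain ⟨-, -, h2, -⟩ := nf_inj h h1
    have h3 : (p : ℤ) ∣ D0 * (t ^ 2 - 1) := hst' (by
      rw [show D0 * (t ^ 2 - 1) * t = -((0 * i + D0 * t) - ((u : ℤ) * D0 + 0 * A1 - B1 * 0)) -
        D0 * ((u : ℤ) - t ^ 3) by ring]
      exact dvd_sub h2.neg_right (hu.mul_left _))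
    exact (hpi.dvd_or_dvd h3).resolve_right ht2
  have hy'f' : Commute y' f := by
    have h1 := hy'f
    rw [RankTwoResistant.zpow_eq_of_dvd h.cp (j := 0) (by simpa using hD0), zpow_zero, mul_one,
      mul_assoc, inv_mul_eq_iff_eq_mul] at h1
    exact h1.symm
  have hy'flat : ∀ A C D : ℤ, Commute y' (nf x e c f A 0 C D) := by
    intro A C D
    simp only [nf, zpow_zero, mul_one]
    exact ((hy'x.zpow_right A).mul_right (hy'c.zpow_right C)).mul_right (hy'f'.zpow_right D)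
  -- the correction lies in the abelian part
  have hB1 : (p : ℤ) ∣ B1 := by
    have h0 : δ y' * δ x = δ x * δ y' := by rw [← map_mul δ y' x, hy'x.eq, map_mul δ x y']
    rw [hδy', hδx, show x ^ (t ^ 2) * c ^ i * f ^ j = nf x e c f (t ^ 2) 0 i j by simp [nf]]
      at h0
    have h1 : nf x e c f A1 B1 C1' D1 * nf x e c f (t ^ 2) 0 i j =
        nf x e c f (t ^ 2) 0 i j * nf x e c f A1 B1 C1' D1 := by
      rw [← mul_assoc, ← ((hy'flat (t ^ 2) i j).pow_left u).eq, mul_assoc, mul_assoc] at h0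
      exact mul_left_cancel h0
    rw [nf_mul h, nf_mul h] at h1
    obtain ⟨-, -, h2, -⟩ := nf_inj h h1
    refine hst' (hst' ?_)
    rw [show B1 * t * t = (C1' + i + B1 * t ^ 2) - (i + C1' + 0 * A1) by ring]
    exact h2
  have hq'eq : nf x e c f A1 B1 C1' D1 = nf x e c f A1 0 C1' D1 :=
    nf_congr h (by simp) (by simpa using hB1) (by simp) (by simp)
  rw [hq'eq] at hδy'
  -- `y'` has order `p`
  obtain ⟨A, B, C, D, hypnf⟩ := exists_nf h hy'p
  have hB : (p : ℤ) ∣ B := by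
    obtain ⟨Ce, De, hCe⟩ := hy'e
    obtain ⟨C', hC'⟩ := nf_zpow h r 1 Ce De B
    have h1 : y'⁻¹ * nf x e c f A B C D * y' = nf x e c f A B C D := by
      rw [← hypnf, mul_assoc, ← ((Commute.refl y').pow_right p).eq, inv_mul_cancel_left]
    have h2 : y'⁻¹ * nf x e c f A B C D * y' = nf x e c f A 0 0 0 * nf x e c f (B * r) (B * 1) C' (B * De) *
        nf x e c f 0 0 C 0 * nf x e c f 0 0 0 D := by
      rw [← hC', ← hCe, show y'⁻¹ * e * y' = y'⁻¹ * e * (y'⁻¹)⁻¹ by rw [inv_inv], conj_zpow, inv_inv]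
      simp only [nf, zpow_zero, mul_one, one_mul]
      calc y'⁻¹ * (x ^ A * e ^ B * c ^ C * f ^ D) * y'
          = (y'⁻¹ * x ^ A * y') * (y'⁻¹ * e ^ B * y') * (y'⁻¹ * c ^ C * y') * (y'⁻¹ * f ^ D * y') := by group
        _ = _ := by
            rw [mul_assoc y'⁻¹ (x ^ A), (hy'x.zpow_right A).symm.eq, inv_mul_cancel_left,
              mul_assoc y'⁻¹ (c ^ C), (hy'c.zpow_right C).symm.eq, inv_mul_cancel_left,
              mul_assoc y'⁻¹ (f ^ D), (hy'f'.zpow_right D).symm.eq, inv_mul_cancel_left]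
    rw [h1, nf_mul h, nf_mul h, nf_mul h] at h2
    obtain ⟨h3, -⟩ := nf_inj h h2
    rcases hpi.dvd_or_dvd (show (p : ℤ) ∣ B * r by
      rw [show B * r = -(A - (A + B * r + 0 + 0)) by ring]; exact h3.neg_right) with h4 | h4
    · exact h4
    · exact absurd h4 hr
  rw [nf_congr h (A' := A) (B' := 0) (C' := C) (D' := D) (by simp) (by simpa using hB) (by simp) (by simp)]
    at hypnf
  have hy'1 : y' ^ p = 1 := by
    have h1 : δ (y' ^ p) = nf x e c f ((u : ℤ) * A) 0 ((u : ℤ) * C) ((u : ℤ) * D) := by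
      rw [map_pow, hδy', ((hy'flat A1 C1' D1).pow_left u).mul_pow, ← pow_mul, mul_comm, pow_mul, hypnf,
        ← zpow_natCast (nf x e c f A 0 C D) u, nf_zpow_flat h,
        ← zpow_natCast (nf x e c f A1 0 C1' D1) p, nf_zpow_flat h, nf_mul h]
      exact nf_congr h (by simp) (by simp) (by simp) (by simp)
    rw [hypnf, hδnf] at h1
    obtain ⟨hA', -, hC', hD'⟩ := nf_inj h h1
    have hA0 : (p : ℤ) ∣ A := by
      have h2 : (p : ℤ) ∣ A * (t - 1) := hst' (hst' (by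
        rw [show A * (t - 1) * t * t = -(A * t ^ 2 - (u : ℤ) * A) - A * ((u : ℤ) - t ^ 3) by ring]
        exact dvd_sub hA'.neg_right (hu.mul_left _)))
      exact (hpi.dvd_or_dvd h2).resolve_right ht1
    have hC0 : (p : ℤ) ∣ C := by
      have h2 : (p : ℤ) ∣ C * (t ^ 2 - 1) := hst' (by
        rw [show C * (t ^ 2 - 1) * t = -((A * i + C * t) - (u : ℤ) * C) + A * i - C * ((u : ℤ) - t ^ 3) by ring]
        exact dvd_sub (dvd_add hC'.neg_right (hA0.mul_right _)) (hu.mul_left _))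
      exact (hpi.dvd_or_dvd h2).resolve_right ht2
    have hD0' : (p : ℤ) ∣ D := by
      have h2 : (p : ℤ) ∣ D * (t ^ 3 - 1) := by
        rw [show D * (t ^ 3 - 1) = -((A * j + D) - (u : ℤ) * D) + A * j - D * ((u : ℤ) - t ^ 3) by ring]
        exact dvd_sub (dvd_add hD'.neg_right (hA0.mul_right _)) (hu.mul_left _)
      exact (hpi.dvd_or_dvd h2).resolve_right ht3
    rw [hypnf, ← nf_zero (x := x) (e := e) (c := c) (f := f)]
    exact nf_congr h (by simpa using hA0) (by simp) (by simpa using hC0) (by simpa using hD0')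
  -- the elementary abelian subgroup
  set Bc := zpowers c ⊔ zpowers f ⊔ zpowers x with hBc
  have hBc' : Elem p Bc := by
    have h1 : Elem p (zpowers c) := ⟨fun a ha b hb => by
        obtain ⟨i, rfl⟩ := mem_zpowers_iff.1 ha; obtain ⟨j, rfl⟩ := mem_zpowers_iff.1 hb
        exact (Commute.refl c).zpow_zpow i j, fun a ha => by
        obtain ⟨i, rfl⟩ := mem_zpowers_iff.1 ha
        rw [← zpow_natCast, ← zpow_mul, mul_comm, zpow_mul, zpow_natCast, h.cp, one_zpow]⟩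
    refine (h1.sup_zpowers (fun b hb => ?_) h.fp).sup_zpowers (fun b hb => ?_) h.xp
    · obtain ⟨i, rfl⟩ := mem_zpowers_iff.1 hb; exact h.cf.symm.zpow_right i
    · have hle : zpowers c ⊔ zpowers f ≤ centralizer {x} := sup_le
        (zpowers_le.2 (mem_centralizer_singleton_iff.2 h.xc.symm.eq))
        (zpowers_le.2 (mem_centralizer_singleton_iff.2 h.xf.symm.eq))
      exact (mem_centralizer_singleton_iff.1 (hle hb)).symm
  have hflat : ∀ z ∈ Bc, ∃ A C D, z = nf x e c f A 0 C D := by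
    intro z hz
    have hcomm : ∀ a ∈ zpowers c ⊔ zpowers f, ∀ b ∈ zpowers x, Commute a b := fun a ha b hb =>
      hBc'.1 a (mem_sup_left ha) b (mem_sup_right hb)
    rw [hBc, sup_comm] at hz
    have hN : zpowers c ⊔ zpowers f ≤ normalizer (zpowers x : Set G) := fun a ha =>
      centralizer_le_normalizer _ fun b hb => (hcomm a ha b hb).symm
    rw [← SetLike.mem_coe, coe_mul_of_right_le_normalizer_left (zpowers x) (zpowers c ⊔ zpowers f) hN] at hz
    obtain ⟨_, ⟨A, rfl⟩, w, hw, rfl⟩ := hz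
    have hN' : zpowers f ≤ normalizer (zpowers c : Set G) := fun a ha =>
      centralizer_le_normalizer _ fun b hb =>
        (hBc'.1 a (mem_sup_left (mem_sup_right ha)) b (mem_sup_left (mem_sup_left hb))).symm
    rw [coe_mul_of_right_le_normalizer_left (zpowers c) (zpowers f) hN'] at hw
    obtain ⟨_, ⟨C, rfl⟩, _, ⟨D, rfl⟩, rfl⟩ := hw
    exact ⟨A, C, D, by simp [nf, mul_assoc]⟩
  have hy'B : y' ∉ Bc := by
    intro hy
    obtain ⟨A', C', D', hyeq⟩ := hflat y' hy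
    obtain ⟨Ce, De, hCe⟩ := hy'e
    have hcj := nf_conj h 0 1 0 0 A' 0 C' D'
    rw [← hnfe] at hcj
    rw [hyeq, hcj] at hCe
    obtain ⟨h1, -⟩ := nf_inj h hCe
    exact hr (by simpa using h1.neg_right)
  refine ⟨Bc ⊔ zpowers y', hBc'.sup_zpowers (fun b hb => ?_) hy'1, ?_⟩
  · obtain ⟨A', C', D', rfl⟩ := hflat b hb
    exact hy'flat A' C' D'
  have hxB : x ∉ zpowers c ⊔ zpowers f := by
    intro hx
    have hle : zpowers c ⊔ zpowers f ≤ centralizer {e} := sup_le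
      (zpowers_le.2 (mem_centralizer_singleton_iff.2 h.ec.symm.eq))
      (zpowers_le.2 (mem_centralizer_singleton_iff.2 h.ef.symm.eq))
    have h1 : cm e x = 1 := cm_eq_one_iff.2 (mem_centralizer_singleton_iff.1 (hle hx)).symm
    rw [h.ex] at h1
    have h2 := (h.uniq 0 0 1 0 (by simp [h1])).2.2.1
    exact hpp.ne_one (Nat.dvd_one.1 (by exact_mod_cast h2))
  have hfB : f ∉ zpowers c := by
    intro hf
    obtain ⟨k, hk⟩ := mem_zpowers_iff.1 hf
    have h1 := nf_inj h (A := 0) (B := 0) (C := k) (D := 0) (A' := 0) (B' := 0) (C' := 0) (D' := 1)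
      (by simp [nf, hk])
    exact hpp.ne_one (Nat.dvd_one.1 (by
      have h2 := h1.2.2.2
      rw [zero_sub, dvd_neg] at h2
      exact_mod_cast h2))
  have hc1 : c ∉ (⊥ : Subgroup G) := fun hc => by
    have h2 := (h.uniq 0 0 1 0 (by simp [(mem_bot).1 hc])).2.2.1
    exact hpp.ne_one (Nat.dvd_one.1 (by exact_mod_cast h2))
  have e1 := mul_card_le_sup hG hy'B
  have e2 := mul_card_le_sup hG hxB
  have e3 := mul_card_le_sup hG hfB
  have e4 := mul_card_le_sup hG hc1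
  rw [bot_sup_eq, card_bot, mul_one] at e4
  calc p ^ 4 = p * (p * (p * p)) := by ring
    _ ≤ p * (p * (p * Nat.card (zpowers c))) := by gcongr
    _ ≤ p * (p * Nat.card (zpowers c ⊔ zpowers f : Subgroup G)) := by gcongr
    _ ≤ p * Nat.card Bc := by gcongr
    _ ≤ _ := e1

end Cfsg.Agent.Fusion.RankThree.Tower
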