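import Cfsg.Agent.Lib.Fusion.RankThree.Setup
import Cfsg.Agent.Lib.Fusion.RankThree.CaseB
import Cfsg.Agent.Lib.Fusion.RankThree.Line
import Cfsg.Agent.Lib.Fusion.Alperin

/-!
A transvection in the normalizer of `E` and an element moving `E` give a section of rank four in the
normalizer of a conjugate of `N(E)`.
-/

set_option autoImplicit false
set_option linter.unusedSectionVars false
set_option linter.style.haveILetI false

namespace Cfsg.Agent.Fusion.RankThree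

open Cfsg Cfsg.FusionSystem
open Cfsg.Agent.Fusion Cfsg.Agent.Fusion.Basic Cfsg.Agent.Fusion.Saturation
open Subgroup (zpowers normalizer mem_zpowers mem_zpowers_iff center closure)

variable {X : Type*} [Group X] [Finite X] {p : ℕ} [hp : Fact p.Prime] {F : FusionSystem (⊤ : Subgroup X)}
  {E : Subgroup X}

set_option maxHeartbeats 4000000 in
/-- No element moves `E` in the transvection case. -/
theorem torus_false (hX : IsPGroup p X) (h5 : 5 ≤ p) (hsr : Cfsg.SectionalPRankLE p 3 X)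
    (hF : F.IsSaturated p) (hE : F.IsEssential p E)
    (hidx : E.relIndex (normalizer (E : Set X)) = p) {δ β : MulAut E} {x e c f : X} {s t : ℤ}
    (hT : Torus F p E δ β x e c f s t) {y : X}
    (hy : y ∈ normalizer (normalizer (E : Set X) : Set X)) (hyP : y ∉ normalizer (E : Set X)) : False := by
  have hpp := hp.out
  have hS : IsPGroup p (⊤ : Subgroup X) := hX.to_subgroup ⊤
  set P := normalizer (E : Set X) with hPdef
  have hEP : E ≤ P := Subgroup.le_normalizer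
  -- extending the torus to the normalizer
  have hδmap : IsMap F E (autFun δ) := isMap_of_mem_autGroup le_top hT.δ_mem
  obtain ⟨θ0, hθ0, hθ0e⟩ := exists_extension hS hF hδmap
    (by rw [autFun_img]; exact fullyNormalized_fullyCentralized hS hF hE.2.1)
  have hθ : IsMap F P θ0 := hθ0.restrict fun g hg => by
    obtain ⟨h, hh⟩ := hT.normal g hg
    exact mem_nSub.2 ⟨Subgroup.mem_top g, hg, h, Subgroup.mem_top h, hh⟩
  have hθE : img θ0 E = E := by rw [img_congr hθ0e, autFun_img]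
  have hθP : ∀ g ∈ P, θ0 g ∈ P := fun g hg => by
    have h := hθ.mem_normalizer_img hEP hg hg
    rwa [hθE] at h
  obtain ⟨δP, hδPA, hδPv⟩ := hθ.exists_aut (eq_of_le_card (img_le hθP) hθ.card_img.ge)
  set E' := E.subgroupOf P
  haveI hE'n : E'.Normal := (Subgroup.normal_subgroupOf_iff_le_normalizer hEP).2 le_rfl
  haveI : (phi p E').Normal := phi_normal
  have hGp : IsPGroup p P := hX.to_subgroup P
  set xg : P := ⟨x, hT.x_mem⟩
  set eg : P := ⟨e, hEP hT.e_mem⟩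
  set cg : P := ⟨c, hEP hT.c_mem⟩
  set fg : P := ⟨f, hEP hT.f_mem⟩
  have hmem : ∀ {z : P}, (z : X) ∈ phi p E → z ∈ phi p E' := fun {z} h => (mem_phi_subgroupOf hEP).2 h
  have hcoe : ∀ a b : P, ((cm a b : P) : X) = cm (a : X) b := fun a b => map_cm P.subtype a b
  have hδe : ∀ v (hv : v ∈ E), ((δP ⟨v, hEP hv⟩ : P) : X) = autFun δ v := fun v hv => by
    rw [← hθ0e v hv, ← hδPv v (hEP hv), autFun_of_mem _ (hEP hv)]
  have hβe : ∀ v (hv : v ∈ E), (((MulAut.congr (Subgroup.subgroupOfEquivOfLe hEP).symm β)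
      ⟨⟨v, hEP hv⟩, Subgroup.mem_subgroupOf.2 hv⟩ : E') : X) = autFun β v := fun v hv => by
    rw [autFun_of_mem _ hv]; rfl
  have hB : BData p E' δP.toMonoidHom (MulAut.congr (Subgroup.subgroupOfEquivOfLe hEP).symm β) xg eg cg fg s t := by
    refine ⟨fun h => hT.x_notMem (Subgroup.mem_subgroupOf.1 h), Subgroup.mem_subgroupOf.2 hT.e_mem,
      Subgroup.mem_subgroupOf.2 hT.c_mem, Subgroup.mem_subgroupOf.2 hT.f_mem, Subtype.ext ?_, hmem ?_, hmem ?_,
      fun v hv => ?_, fun A B C h => ?_, fun v hv => ?_, hmem ?_, hmem ?_, hmem ?_, ?_, hmem ?_, hmem ?_, hmem ?_⟩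
    · rw [hcoe]; exact hT.c_eq
    · rw [hcoe]; exact hT.cx
    · rw [hcoe]; exact hT.fx
    · obtain ⟨A, B, C, h⟩ := hT.gen v (Subgroup.mem_subgroupOf.1 hv)
      exact ⟨A, B, C, QuotientGroup.eq.2 (hmem (by simpa using h))⟩
    · exact hT.uniq A B C (by simpa using (mem_phi_subgroupOf hEP).1 h)
    · have hv' := Subgroup.mem_subgroupOf.1 hv
      refine Subgroup.mem_subgroupOf.2 ?_
      show ((δP v : P) : X) ∈ E
      rw [show v = ⟨(v : X), hEP hv'⟩ from rfl, hδe _ hv']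
      exact autFun_mem δ hv'
    · rw [Subgroup.coe_mul, Subgroup.coe_inv, Subgroup.coe_zpow]
      show _ * ((δP eg : P) : X) ∈ _
      rw [hδe e hT.e_mem]; exact hT.δe
    · rw [Subgroup.coe_mul, Subgroup.coe_inv, Subgroup.coe_zpow]
      show _ * ((δP cg : P) : X) ∈ _
      rw [hδe c hT.c_mem]; exact hT.δc
    · rw [Subgroup.coe_mul, Subgroup.coe_inv]
      show _ * ((δP fg : P) : X) ∈ _
      rw [hδe f hT.f_mem]; exact hT.δf
    · refine Subgroup.mem_subgroupOf.2 ?_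
      rw [Subgroup.coe_mul, Subgroup.coe_inv, Subgroup.coe_zpow]
      show _ * ((δP xg : P) : X) ∈ E
      rw [show ((δP xg : P) : X) = θ0 x by rw [← hδPv x hT.x_mem, autFun_of_mem _ hT.x_mem]]
      refine hT.image _ (hθP x hT.x_mem) fun v hv => ?_
      have hv' : x * v * x⁻¹ ∈ E := (Subgroup.mem_normalizer_iff.1 hT.x_mem v).1 hv
      rw [← hθ0e v hv, ← hθ0e _ hv', hθ.map_conj hT.x_mem (hEP hv)]
    · rw [Subgroup.coe_mul, Subgroup.coe_inv, hβe e hT.e_mem]; exact hT.βe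
    · rw [Subgroup.coe_mul, Subgroup.coe_inv, Subgroup.coe_mul, hβe c hT.c_mem]; exact hT.βc
    · rw [Subgroup.coe_mul, Subgroup.coe_inv, hβe f hT.f_mem]; exact hT.βf
  obtain ⟨hN, x', i0, j0, hx'E, hrel, hδx⟩ :=
    case_b hGp h5 (sectional_subgroup hsr P) hidx hT.st hT.t2 hT.t3 hB
  -- the quotient of order `p ^ 4`
  set N := phi p E' with hNdef
  set π := QuotientGroup.mk' N with hπdef
  have hπs : Function.Surjective π := QuotientGroup.mk'_surjective N
  have hπ1 : ∀ {v}, v ∈ N → π v = 1 := fun {v} hv => (QuotientGroup.eq_one_iff v).2 hv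
  set xb := π x'
  set eb := π eg
  set cb := π cg
  set fb := π fg
  have hδeb : π (δP eg) = eb ^ s := by rw [← map_zpow]; exact mk_eq_of_mem hB.δe
  have hδcb : π (δP cg) = cb ^ t := by rw [← map_zpow]; exact mk_eq_of_mem hB.δc
  have hδfb : π (δP fg) = fb := mk_eq_of_mem hB.δf
  have hidx' : E'.relIndex ⊤ = p := by rw [Subgroup.relIndex_top_right]; exact hidx
  have hgenE : ∀ v ∈ E', ∃ B C D : ℤ, π v = Tower.nf xb eb cb fb 0 B C D := fun v hv => by
    obtain ⟨A, B, C, h⟩ := hB.gen v hv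
    refine ⟨A, B, C, ?_⟩
    rw [h, map_mul, map_mul, map_zpow, map_zpow, map_zpow]
    simp [Tower.nf, eb, cb, fb]
    rfl
  have hnfall : ∀ g, ∃ A B C D : ℤ, g = Tower.nf xb eb cb fb A B C D := fun g => by
    obtain ⟨g, rfl⟩ := hπs g
    obtain ⟨i, hi⟩ := exists_zpow_of_relIndex hGp hidx' (Subgroup.mem_top x') hx'E (Subgroup.mem_top g)
    have hv : (x' ^ i)⁻¹ * g ∈ E' := QuotientGroup.eq.1 (by
      rw [← QuotientGroup.mk'_apply, ← QuotientGroup.mk'_apply, hi, map_zpow])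
    obtain ⟨B, C, D, h⟩ := hgenE _ hv
    have h1 : π g = Tower.nf xb eb cb fb i 0 0 0 * Tower.nf xb eb cb fb 0 B C D := by
      rw [← h, map_mul, map_inv, map_zpow]
      simp [Tower.nf, xb]
    exact ⟨_, _, _, _, h1.trans (Tower.nf_mul hrel i 0 0 0 0 B C D)⟩
  have hGb : IsPGroup p (P ⧸ N) := hGp.to_quotient N
  have hcm : ∀ g h : (P ⧸ N), cm g h ∈ zpowers cb := by
    intro g h
    obtain ⟨A, B, C, D, rfl⟩ := hnfall g
    obtain ⟨A', B', C', D', rfl⟩ := hnfall h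
    refine mem_zpowers_iff.2 ⟨B * A' - B' * A, ?_⟩
    have h1 := Tower.nf_conj hrel A B C D A' B' C' D'
    have h2 : Tower.nf xb eb cb fb A B (C + B * A' - B' * A) D =
        Tower.nf xb eb cb fb A B C D * cb ^ (B * A' - B' * A) := by
      rw [show cb ^ (B * A' - B' * A) = Tower.nf xb eb cb fb 0 0 (B * A' - B' * A) 0 by simp [Tower.nf],
        Tower.nf_mul hrel]
      congr 1 <;> ring
    rw [h2] at h1
    rw [show cm (Tower.nf xb eb cb fb A B C D) (Tower.nf xb eb cb fb A' B' C' D') =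
      (Tower.nf xb eb cb fb A B C D)⁻¹ * ((Tower.nf xb eb cb fb A' B' C' D')⁻¹ *
        Tower.nf xb eb cb fb A B C D * Tower.nf xb eb cb fb A' B' C' D') by rw [cm_def]; group, h1,
      inv_mul_cancel_left]
  have hcen : ∀ g : (P ⧸ N), g ∈ center (P ⧸ N) ↔ ∃ C D : ℤ, g = Tower.nf xb eb cb fb 0 0 C D := by
    intro g
    constructor
    · intro hg
      obtain ⟨A, B, C, D, rfl⟩ := hnfall g
      have key : ∀ A' B', (p : ℤ) ∣ B * A' - B' * A := fun A' B' => by
        have h1 := Tower.nf_conj hrel A B C D A' B' 0 0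
        rw [mul_assoc, ← (Subgroup.mem_center_iff.1 hg _), inv_mul_cancel_left] at h1
        have h2 := (Tower.nf_inj hrel h1).2.2.1
        rw [show C - (C + B * A' - B' * A) = -(B * A' - B' * A) by ring, dvd_neg] at h2
        exact h2
      refine ⟨C, D, Tower.nf_congr hrel ?_ ?_ (by simp) (by simp)⟩
      · simpa using key 0 1
      · simpa using key 1 0
    · rintro ⟨C, D, rfl⟩
      refine Subgroup.mem_center_iff.2 fun h => ?_
      obtain ⟨A, B, C', D', rfl⟩ := hnfall h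
      rw [Tower.nf_mul hrel, Tower.nf_mul hrel]; congr 1 <;> ring
  have hcb : cb ∈ center (P ⧸ N) := (hcen cb).2 ⟨1, 0, by simp [Tower.nf]⟩
  have hfb : fb ∈ center (P ⧸ N) := (hcen fb).2 ⟨0, 1, by simp [Tower.nf]⟩
  haveI : (zpowers cb).Normal := ⟨fun a ha g => by
    rw [Subgroup.mem_center_iff.1 (Subgroup.zpowers_le.2 hcb ha) g, mul_inv_cancel_right]; exact ha⟩
  set S3 := center (P ⧸ N) ⊔ zpowers xb with hS3def
  haveI : S3.Normal := ⟨fun a ha g => by
    rw [show g * a * g⁻¹ = a * cm a g⁻¹ by rw [cm_def]; group]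
    exact mul_mem ha (Subgroup.mem_sup_left (Subgroup.zpowers_le.2 hcb (hcm a g⁻¹)))⟩
  have hS3 : ∀ g : (P ⧸ N), g ∈ S3 ↔ ∃ A C D : ℤ, g = Tower.nf xb eb cb fb A 0 C D := by
    intro g
    constructor
    · intro hg
      obtain ⟨z, hz, w, hw, rfl⟩ := Subgroup.mem_sup_of_normal_left.1 hg
      obtain ⟨C, D, rfl⟩ := (hcen z).1 hz
      obtain ⟨A, rfl⟩ := mem_zpowers_iff.1 hw
      refine ⟨A, C, D, ?_⟩
      rw [show xb ^ A = Tower.nf xb eb cb fb A 0 0 0 by simp [Tower.nf], Tower.nf_mul hrel]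
      congr 1 <;> ring
    · rintro ⟨A, C, D, rfl⟩
      rw [show Tower.nf xb eb cb fb A 0 C D = xb ^ A * Tower.nf xb eb cb fb 0 0 C D by
        simp [Tower.nf, mul_assoc]]
      exact mul_mem (Subgroup.mem_sup_right (zpow_mem (mem_zpowers xb) A))
        (Subgroup.mem_sup_left ((hcen _).2 ⟨C, D, rfl⟩))
  have hctop : closure ({xb, eb, cb, fb} : Set (P ⧸ N)) = ⊤ := eq_top_iff.2 fun g _ => by
    obtain ⟨A, B, C, D, rfl⟩ := hnfall g; exact Tower.nf_mem A B C D
  -- the automorphisms of `P`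
  set AP := F.autGroup P with hAPdef
  have hNinv : ∀ α : MulAut P, N.map α.toMonoidHom = N := fun α =>
    Subgroup.eq_of_le_of_card_ge (by rw [hN]; exact nTop_map_le _)
      (le_of_eq (Subgroup.card_map_of_injective α.injective).symm)
  let Γ0 : MulAut P →* MulAut (P ⧸ N) :=
    { toFun := fun α => QuotientGroup.congr N N α (hNinv α)
      map_one' := MulEquiv.ext fun w => by
        induction w using QuotientGroup.induction_on with
        | H w => rfl
      map_mul' := fun α β => MulEquiv.ext fun w => by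
        induction w using QuotientGroup.induction_on with
        | H w => rfl }
  let Γ : AP →* MulAut (P ⧸ N) := Γ0.comp AP.subtype
  have hΓ : ∀ (α : AP) (v : P), Γ α (π v) = π ((α : MulAut P) v) := fun α v => rfl
  have hσcen : ∀ (σ : MulAut (P ⧸ N)), ∀ g ∈ center (P ⧸ N), σ g ∈ center (P ⧸ N) := fun σ g hg => by
    refine Subgroup.mem_center_iff.2 fun h => ?_
    obtain ⟨h, rfl⟩ := σ.surjective h
    rw [← map_mul, ← map_mul, Subgroup.mem_center_iff.1 hg h]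
  have hσzc : ∀ (σ : MulAut (P ⧸ N)), ∀ g ∈ zpowers cb, σ g ∈ zpowers cb := fun σ g hg => by
    obtain ⟨k, rfl⟩ := mem_zpowers_iff.1 hg
    rw [map_zpow]
    refine zpow_mem ?_ k
    rw [← hrel.ex, map_cm, hrel.ex]
    exact hcm _ _
  -- the quotient of order `p ^ 2`
  let V := (P ⧸ N) ⧸ center (P ⧸ N)
  letI : CommGroup V :=
    { (inferInstance : Group V) with
      mul_comm := fun a b => by
        induction a using QuotientGroup.induction_on with
        | H a => induction b using QuotientGroup.induction_on with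
          | H b => exact (mk_cm_eq_one_iff.2 (Subgroup.zpowers_le.2 hcb (hcm a b))).eq }
  set mv := QuotientGroup.mk' (center (P ⧸ N)) with hmvdef
  have hσmap : ∀ σ : MulAut (P ⧸ N), (center (P ⧸ N)).map σ.toMonoidHom = center (P ⧸ N) := fun σ =>
    Subgroup.eq_of_le_of_card_ge (Subgroup.map_le_iff_le_comap.2 fun g hg => hσcen σ g hg)
      (le_of_eq (Subgroup.card_map_of_injective σ.injective).symm)
  let Λ0 : MulAut (P ⧸ N) →* MulAut V :=
    { toFun := fun σ => QuotientGroup.congr _ _ σ (hσmap σ)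
      map_one' := MulEquiv.ext fun w => by
        induction w using QuotientGroup.induction_on with
        | H w => rfl
      map_mul' := fun σ τ => MulEquiv.ext fun w => by
        induction w using QuotientGroup.induction_on with
        | H w => rfl }
  have hΛ : ∀ (σ : MulAut (P ⧸ N)) (g : (P ⧸ N)), Λ0 σ (mv g) = mv (σ g) := fun σ g => rfl
  have hmvnf : ∀ A B C D : ℤ, mv (Tower.nf xb eb cb fb A B C D) = mv xb ^ A * mv eb ^ B := by
    intro A B C D
    rw [Tower.map_nf, show mv cb = 1 from (QuotientGroup.eq_one_iff cb).2 hcb,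
      show mv fb = 1 from (QuotientGroup.eq_one_iff fb).2 hfb, one_zpow, one_zpow, mul_one, mul_one]
  have hVe : ∀ w : V, w ^ p = 1 := fun w => by
    obtain ⟨g, rfl⟩ := QuotientGroup.mk'_surjective _ w
    obtain ⟨g, rfl⟩ := hπs g
    rw [← map_pow, ← map_pow, hπ1 (by rw [hN]; exact Subgroup.subset_closure (Or.inl ⟨g, rfl⟩)), map_one]
  have hVdec : ∀ w : V, ∃ i j : ℤ, w = mv xb ^ i * mv eb ^ j := fun w => by
    obtain ⟨g, rfl⟩ := QuotientGroup.mk'_surjective _ w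
    obtain ⟨A, B, C, D, rfl⟩ := hnfall g
    exact ⟨A, B, hmvnf A B C D⟩
  have hVuniq : ∀ i j : ℤ, mv xb ^ i * mv eb ^ j = 1 → (p : ℤ) ∣ i ∧ (p : ℤ) ∣ j := by
    intro i j h
    rw [← hmvnf i j 0 0] at h
    obtain ⟨C, D, hCD⟩ := (hcen _).1 ((QuotientGroup.eq_one_iff _).1 h)
    obtain ⟨a, b, -⟩ := Tower.nf_inj hrel hCD
    exact ⟨by simpa using a, by simpa using b⟩
  let φ : AP →* MulAut V := Λ0.comp Γ
  have hφ : ∀ (α : AP) (v : P), φ α (mv (π v)) = mv (π ((α : MulAut P) v)) := fun α v => rfl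
  have hmemE : ∀ v : P, v ∈ E' ↔ mv (π v) ∈ zpowers (mv eb) := by
    intro v
    constructor
    · intro hv
      obtain ⟨B, C, D, h⟩ := hgenE v hv
      refine mem_zpowers_iff.2 ⟨B, ?_⟩
      rw [h, hmvnf, zpow_zero, one_mul]
    · intro hv
      obtain ⟨B, hB'⟩ := mem_zpowers_iff.1 hv
      obtain ⟨A, B', C, D, hnf⟩ := hnfall (π v)
      rw [hnf, hmvnf] at hB'
      have hA := (hVuniq A (B' - B) (by rw [zpow_sub, ← mul_assoc, ← hB', mul_inv_cancel])).1
      refine (mem_map_mk (N := N) (A := E') (hNdef ▸ phi_le)).1 ?_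
      show π v ∈ E'.map π
      rw [hnf, Tower.nf_congr hrel (A' := 0) (B' := B') (C' := C) (D' := D) (by simpa using hA) (by simp)
        (by simp) (by simp)]
      simp only [Tower.nf, zpow_zero, one_mul, eb, cb, fb, ← map_zpow, ← map_mul]
      exact Subgroup.mem_map_of_mem π (mul_mem (mul_mem (zpow_mem hB.e_mem _) (zpow_mem hB.c_mem _))
        (zpow_mem hB.f_mem _))
  have hpresE : ∀ α : AP, φ α (mv eb) ∈ zpowers (mv eb) → ∀ v ∈ E', (α : MulAut P) v ∈ E' := by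
    intro α h v hv
    rw [hmemE] at hv ⊢
    rw [← hφ]
    obtain ⟨k, hk⟩ := mem_zpowers_iff.1 hv
    rw [← hk, map_zpow]
    exact zpow_mem h k
  -- the element moving `E`
  set γ0 : AP := ⟨P.normalizerMonoidHom ⟨y, hy⟩,
    autInducedBy_le le_top (mem_autInducedBy_iff.2 ⟨y, Subgroup.mem_top y, fun _ => rfl⟩)⟩
  set dA : AP := ⟨δP, hδPA⟩
  obtain ⟨k0, hk0⟩ := hX y
  have hγ0k : φ γ0 ^ p ^ k0 = 1 := by
    rw [← map_pow, show γ0 ^ p ^ k0 = 1 from Subtype.ext (MulEquiv.ext fun v => Subtype.ext (by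
      show (((P.normalizerMonoidHom ⟨y, hy⟩) ^ p ^ k0) v : X) = v
      rw [← map_pow, show (⟨y, hy⟩ : normalizer (P : Set X)) ^ p ^ k0 = 1 from Subtype.ext hk0, map_one]
      rfl)), map_one]
  have hdx' : φ dA (mv xb) = mv xb ^ (t ^ 2) := by
    show φ dA (mv (π x')) = _
    rw [hφ]
    show mv (π (δP x')) = _
    rw [show π (δP x') = xb ^ (t ^ 2) * cb ^ i0 * fb ^ j0 from hδx,
      show xb ^ (t ^ 2) * cb ^ i0 * fb ^ j0 = Tower.nf xb eb cb fb (t ^ 2) 0 i0 j0 by simp [Tower.nf],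
      hmvnf, zpow_zero, mul_one]
  have hde' : φ dA (mv eb) = mv eb ^ s := by
    show φ dA (mv (π eg)) = _
    rw [hφ]
    show mv (π (δP eg)) = _
    rw [hδeb, map_zpow]
  have hae : φ γ0 (mv eb) ∉ zpowers (mv eb) := fun h => hyP (mem_normalizer_of_forall fun v hv => by
    have := Subgroup.mem_subgroupOf.1 (hpresE γ0 h ⟨v, hEP hv⟩ (Subgroup.mem_subgroupOf.2 hv))
    exact this)
  obtain ⟨τ, hσx, r0, hr0, hσe⟩ :=
    exists_fix_x hVe φ hγ0k hVdec hVuniq hT.st hT.t3 hdx' hde' hae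
  set γ1 : AP := τ * γ0 * τ⁻¹ with hγ1
  -- the `p`-group of automorphisms
  let Sr : ℕ → Subgroup (P ⧸ N) := fun i =>
    if i = 0 then ⊥ else if i = 1 then zpowers cb else if i = 2 then center (P ⧸ N) else if i = 3 then S3 else ⊤
  have hSmono : ∀ i < 4, Sr i ≤ Sr (i + 1) := by
    intro i hi
    interval_cases i <;> simp [Sr, hS3def, Subgroup.zpowers_le.2 hcb]
  have hSstep : ∀ i < 4, (Sr i).relIndex (Sr (i + 1)) ≤ p := by
    have hle : ∀ (A : Subgroup (P ⧸ N)) [A.Normal] (z : (P ⧸ N)), A.relIndex (A ⊔ zpowers z) ≤ p := fun A _ z => by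
      refine Nat.le_of_dvd hpp.pos (Solvable.Basics.relIndex_sup_zpowers_dvd ?_)
      obtain ⟨z, rfl⟩ := hπs z
      rw [← map_pow, hπ1 (by rw [hN]; exact Subgroup.subset_closure (Or.inl ⟨z, rfl⟩))]
      exact one_mem _
    intro i hi
    interval_cases i
    · show (⊥ : Subgroup (P ⧸ N)).relIndex (zpowers cb) ≤ p
      simpa [bot_sup_eq] using hle ⊥ cb
    · show (zpowers cb).relIndex (center (P ⧸ N)) ≤ p
      have heq : center (P ⧸ N) = zpowers cb ⊔ zpowers fb := by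
        refine le_antisymm (fun g hg => ?_)
          (sup_le (Subgroup.zpowers_le.2 hcb) (Subgroup.zpowers_le.2 hfb))
        obtain ⟨C, D, rfl⟩ := (hcen g).1 hg
        simp only [Tower.nf, zpow_zero, one_mul]
        exact mul_mem (Subgroup.mem_sup_left (zpow_mem (mem_zpowers cb) C))
          (Subgroup.mem_sup_right (zpow_mem (mem_zpowers fb) D))
      rw [heq]; exact hle _ fb
    · show (center (P ⧸ N)).relIndex S3 ≤ p
      exact hle _ xb
    · show S3.relIndex (⊤ : Subgroup (P ⧸ N)) ≤ p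
      have heq : (⊤ : Subgroup (P ⧸ N)) = S3 ⊔ zpowers eb := by
        refine (eq_top_iff.2 fun g _ => ?_).symm
        obtain ⟨A, B, C, D, rfl⟩ := hnfall g
        simp only [Tower.nf]
        exact mul_mem (mul_mem (mul_mem
          (Subgroup.mem_sup_left (Subgroup.mem_sup_right (zpow_mem (mem_zpowers xb) A)))
          (Subgroup.mem_sup_right (zpow_mem (mem_zpowers eb) B)))
          (Subgroup.mem_sup_left (Subgroup.mem_sup_left (zpow_mem hcb C))))
          (Subgroup.mem_sup_left (Subgroup.mem_sup_left (zpow_mem hfb D)))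
      rw [heq]; exact hle _ eb
  have hpres : ∀ σ : MulAut (P ⧸ N), σ xb ∈ S3 → ∀ i ≤ 4, ∀ g ∈ Sr i, σ g ∈ Sr i := by
    intro σ hx i hi g hg
    interval_cases i
    · have hg1 : g = 1 := hg
      show σ g ∈ (⊥ : Subgroup (P ⧸ N))
      rw [hg1, map_one]; exact one_mem _
    · exact hσzc σ g hg
    · exact hσcen σ g hg
    · show σ g ∈ S3
      obtain ⟨z, hz, w, hw, rfl⟩ := Subgroup.mem_sup_of_normal_left.1 (show g ∈ S3 from hg)
      obtain ⟨A, rfl⟩ := mem_zpowers_iff.1 hw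
      rw [map_mul, map_zpow]
      exact mul_mem (Subgroup.mem_sup_left (hσcen σ z hz)) (zpow_mem hx A)
    · exact Subgroup.mem_top _
  set K := stab Sr 4
  set R : Subgroup AP := K.comap Γ with hRdef
  have hγ1R : γ1 ∈ R := by
    intro i hi v hv
    have hσ3 : Γ γ1 xb ∈ S3 := by
      have h1 : mv xb = mv (Γ γ1 xb) := hσx.symm
      have h2 : xb⁻¹ * Γ γ1 xb ∈ center (P ⧸ N) := QuotientGroup.eq.1 h1
      have := mul_mem (Subgroup.mem_sup_right (mem_zpowers xb) : xb ∈ S3) (Subgroup.mem_sup_left h2)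
      rwa [mul_inv_cancel_left] at this
    refine ⟨hpres _ hσ3 (i + 1) hi v hv, ?_⟩
    refine EssentialShape.step_fixed (p := p) (hSstep i hi) (hpres _ hσ3 i hi.le) (hpres _ hσ3 (i + 1) hi)
      (k := k0) ?_ v hv
    have hk1 : γ0 ^ p ^ k0 = 1 := Subtype.ext (MulEquiv.ext fun v => Subtype.ext (by
      show (((P.normalizerMonoidHom ⟨y, hy⟩) ^ p ^ k0) v : X) = v
      rw [← map_pow, show (⟨y, hy⟩ : normalizer (P : Set X)) ^ p ^ k0 = 1 from Subtype.ext hk0, map_one]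
      rfl))
    rw [← map_pow, hγ1, conj_pow, hk1, mul_one, mul_inv_cancel, map_one]
  have hdσ : Γ dA xb ∈ S3 := by
    rw [hS3]
    exact ⟨t ^ 2, i0, j0, by rw [hΓ]; show π (δP x') = _; rw [show π (δP x') = _ from hδx]; simp [Tower.nf]⟩
  have hdR : ∀ α ∈ R, dA * α * dA⁻¹ ∈ R := by
    intro α hα i hi v hv
    have hmap : ∀ j ≤ 4, (Sr j).map (Γ dA).toMonoidHom = Sr j := fun j hj =>
      Subgroup.eq_of_le_of_card_ge (Subgroup.map_le_iff_le_comap.2 fun g hg => hpres _ hdσ j hj g hg)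
        (le_of_eq (Subgroup.card_map_of_injective (Γ dA).injective).symm)
    obtain ⟨w, hw, hwv⟩ := (hmap (i + 1) hi).ge hv
    obtain ⟨h1, h2⟩ := hα i hi w hw
    have hval : Γ (dA * α * dA⁻¹) v = Γ dA (Γ α w) := by
      rw [map_mul, map_mul, map_inv, MulAut.mul_apply, MulAut.mul_apply, ← hwv]
      exact congrArg (fun z => Γ dA (Γ α z)) (MulAut.inv_apply_self _ _ _)
    rw [hval]
    refine ⟨hpres _ hdσ (i + 1) hi _ h1, ?_⟩
    rw [show v⁻¹ * Γ dA (Γ α w) = Γ dA (w⁻¹ * Γ α w) by rw [map_mul, map_inv, ← hwv]; rfl]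
    exact hpres _ hdσ i hi.le _ h2
  let cP : P → AP := fun h => ⟨MulAut.conj h,
    Basic.inn_le_autGroup le_top ⟨h, rfl⟩⟩
  have hInnR : ∀ h : P, cP h ∈ R := by
    intro h i hi v hv
    obtain ⟨v, rfl⟩ := hπs v
    have h1 : Γ (cP h) (π v) = π v * cm (π v) (π h)⁻¹ := by
      rw [hΓ]
      show π (h * v * h⁻¹) = _
      rw [map_mul, map_mul, map_inv, cm_def]; group
    have h2 : cm (π v) (π h)⁻¹ ∈ Sr i := by
      interval_cases i
      · show _ ∈ (⊥ : Subgroup (P ⧸ N))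
        rw [Subgroup.mem_bot]
        exact cm_eq_one_iff.2 (Subgroup.mem_center_iff.1 (Subgroup.zpowers_le.2 hcb hv) (π h)⁻¹).symm
      · exact hcm _ _
      · exact Subgroup.zpowers_le.2 hcb (hcm _ _)
      · exact Subgroup.mem_sup_left (Subgroup.zpowers_le.2 hcb (hcm _ _))
    rw [h1]
    refine ⟨mul_mem hv (hSmono i hi h2), ?_⟩
    rwa [inv_mul_cancel_left]
  obtain ⟨n4, hn4⟩ := IsPGroup.iff_card.1 hGp
  obtain ⟨r4, hr4⟩ := hGp.index (frattini P)
  have hRp : IsPGroup p R := by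
    have hker : IsPGroup p Γ.ker := by
      have hle : N ≤ frattini P := by
        rw [frattini_eq_phi hGp, hNdef]
        exact phi_le_iff.2 ⟨fun v _ => pow_mem_phi (Subgroup.mem_top v),
          fun u _ v _ => cm_mem_phi (Subgroup.mem_top u) (Subgroup.mem_top v)⟩
      have hdvd := GroupStructure3.FrattiniAut.card_stab_dvd hn4 hr4 (Γ.ker.map AP.subtype) (fun a ha v => by
        obtain ⟨b, hb, rfl⟩ := ha
        refine hle ((QuotientGroup.eq_one_iff _).1 ?_)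
        show π ((b : MulAut P) v * v⁻¹) = 1
        rw [map_mul, map_inv, ← hΓ, MonoidHom.mem_ker.1 hb, MulAut.one_apply, mul_inv_cancel])
      rw [Subgroup.card_map_of_injective AP.subtype_injective] at hdvd
      obtain ⟨i, -, hi⟩ := (Nat.dvd_prime_pow hpp).1 hdvd
      exact IsPGroup.of_card hi
    intro α
    obtain ⟨k, hk⟩ := stab_pow_eq_one (p := p) hGb (S := Sr) (n := 4) rfl rfl hSmono (σ := Γ α) α.2
    obtain ⟨l, hl⟩ := hker ⟨(α : AP) ^ p ^ k, by rw [MonoidHom.mem_ker, map_pow, hk]⟩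
    refine ⟨k + l, Subtype.ext ?_⟩
    rw [SubgroupClass.coe_pow, pow_add, pow_mul]
    exact congrArg Subtype.val hl
  -- a fully normalized conjugate
  obtain ⟨Q, hPQ, hQn⟩ := exists_fullyNormalized (F := F) (le_top : P ≤ ⊤)
  obtain ⟨ψ0, hψ0, rfl⟩ := isConj_iff_map.1 hPQ
  set Q := img ψ0 P
  obtain ⟨ε, hε⟩ := hψ0.exists_autEquiv
  obtain ⟨RQ, hRQ⟩ := (fullyNormalized_fullyAutomized hS hF hQn).2
  obtain ⟨c0, hc0⟩ := exists_conj_le_sylow RQ (hRp.map ε.toMonoidHom)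
  have hc0map : IsMap F Q (autFun (c0 : MulAut Q)) := isMap_of_mem_autGroup le_top c0.2
  set ψ : X → X := fun v => autFun (c0 : MulAut Q) (ψ0 v) with hψdef
  have hψ : IsMap F P ψ := hc0map.comp hψ0 fun v hv => mem_img_self ψ0 hv
  have hψimg : img ψ P = Q := by rw [hψdef, ← hψ0.img_img, autFun_img]
  let ε' : AP → F.autGroup Q := fun α => c0 * ε α * c0⁻¹
  have hε' : ∀ (α : AP) (v : X), v ∈ P → autFun (ε' α : MulAut Q) (ψ v) = ψ (autFun (α : MulAut P) v) := by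
    intro α v hv
    show autFun ((c0 : MulAut Q) * (ε α : MulAut Q) * (c0 : MulAut Q)⁻¹) (autFun (c0 : MulAut Q) (ψ0 v)) =
      autFun (c0 : MulAut Q) (ψ0 (autFun (α : MulAut P) v))
    rw [autFun_mul, autFun_mul, autFun_inv_apply, hε α v hv]
  let T : Subgroup X :=
    { carrier := {g | g ∈ normalizer (Q : Set X) ∧
        ∃ α ∈ R, ∀ v ∈ P, g * ψ v * g⁻¹ = ψ (autFun (α : MulAut P) v)}
      one_mem' := ⟨one_mem _, 1, one_mem _, fun v _ => by
        rw [Subgroup.coe_one, autFun_one, one_mul, inv_one, mul_one]; rfl⟩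
      mul_mem' := by
        rintro g g' ⟨hg, α, hα, ha⟩ ⟨hg', α', hα', ha'⟩
        refine ⟨mul_mem hg hg', α * α', mul_mem hα hα', fun v hv => ?_⟩
        rw [Subgroup.coe_mul, autFun_mul, ← ha _ (autFun_mem _ hv), ← ha' v hv]; group
      inv_mem' := by
        rintro g ⟨hg, α, hα, ha⟩
        refine ⟨inv_mem hg, α⁻¹, inv_mem hα, fun v hv => ?_⟩
        have h1 := ha _ (autFun_mem (α : MulAut P)⁻¹ hv)
        rw [autFun_apply_inv] at h1
        rw [Subgroup.coe_inv, inv_inv, ← h1]; group }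
  have hreal : ∀ α ∈ R, ∃ g ∈ T, ∀ v ∈ P, g * ψ v * g⁻¹ = ψ (autFun (α : MulAut P) v) := by
    intro α hα
    have h1 : ε' α ∈ (RQ : Subgroup (F.autGroup Q)) := hc0 (ε α) ⟨α, hα, rfl⟩
    rw [hRQ] at h1
    obtain ⟨g, hg, hge⟩ := mem_autInducedBy_iff'.1 (Subgroup.mem_subgroupOf.1 h1)
    have h2 : ∀ v ∈ P, g * ψ v * g⁻¹ = ψ (autFun (α : MulAut P) v) := fun v hv => by
      rw [← hε' α v hv, hge _ (hψimg ▸ mem_img_self ψ hv)]; rfl
    exact ⟨g, ⟨hg.2, α, hα, h2⟩, h2⟩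
  have hQN : ∀ g : X, (∀ v ∈ P, g * ψ v * g⁻¹ ∈ Q) → g ∈ normalizer (Q : Set X) := fun g hg =>
    mem_normalizer_of_forall fun q hq => by
      obtain ⟨v, hv, rfl⟩ := hψ.mem_img.1 (hψimg.symm ▸ hq)
      exact hg v hv
  have hQT : Q ≤ T := by
    intro q hq
    obtain ⟨h, hh, rfl⟩ := hψ.mem_img.1 (hψimg.symm ▸ hq)
    refine ⟨Subgroup.le_normalizer hq, cP ⟨h, hh⟩, hInnR _, fun v hv => ?_⟩
    rw [autFun_of_mem _ hv]
    exact (hψ.map_conj hh hv).symm
  -- the normalizer of the image of `E`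
  set E2 := img ψ E with hE2
  have hψE : IsMap F E ψ := hψ.restrict hEP
  have hE2Q : E2 ≤ Q := hψimg ▸ img_mono ψ hEP
  haveI : Finite Q := inferInstance
  have hNE2 : ∀ g : X, g ∈ normalizer (E2 : Set X) → g ∈ Q := by
    have hle : Q ≤ normalizer (E2 : Set X) := fun q hq => by
      obtain ⟨h, hh, rfl⟩ := hψ.mem_img.1 (hψimg.symm ▸ hq)
      exact hψ.mem_normalizer_img hEP hh hh
    have hcard : Nat.card (normalizer (E2 : Set X)) ≤ Nat.card Q := by
      have h1 := hE.2.1.2 _ hψE.isConj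
      simp only [normalizerIn, top_inf_eq] at h1
      rw [← hψimg, hψ.card_img]
      exact h1
    intro g hg
    exact (Subgroup.eq_of_le_of_card_ge hle hcard).ge hg
  have hmemQ : ∀ (g : X) (α : AP), (∀ v ∈ P, g * ψ v * g⁻¹ = ψ (autFun (α : MulAut P) v)) →
      φ α (mv eb) ∈ zpowers (mv eb) → g ∈ Q := by
    intro g α hg hα
    refine hNE2 g (mem_normalizer_of_forall fun q hq => ?_)
    obtain ⟨v, hv, rfl⟩ := hψE.mem_img.1 hq
    rw [hg v (hEP hv)]
    refine mem_img_self ψ ?_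
    rw [autFun_of_mem _ (hEP hv)]
    exact Subgroup.mem_subgroupOf.1 (hpresE α hα ⟨v, hEP hv⟩ (Subgroup.mem_subgroupOf.2 hv))
  -- extending the torus
  have hδ'map : IsMap F Q (autFun (ε' dA : MulAut Q)) := isMap_of_mem_autGroup le_top (ε' dA).2
  obtain ⟨θ, hθ', hθ'e⟩ := exists_extension hS hF hδ'map
    (by rw [autFun_img]; exact fullyNormalized_fullyCentralized hS hF hQn)
  have hθT : IsMap F T θ := hθ'.restrict fun g hg => by
    obtain ⟨hgN, α, hα, ha⟩ := hg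
    obtain ⟨h, -, hh⟩ := hreal _ (hdR α hα)
    refine mem_nSub.2 ⟨Subgroup.mem_top g, hgN, h, Subgroup.mem_top h, fun q hq => ?_⟩
    obtain ⟨v, hv, rfl⟩ := hψ.mem_img.1 (hψimg.symm ▸ hq)
    rw [ha v hv, hε' dA _ (autFun_mem _ hv), hε' dA v hv, hh _ (autFun_mem _ hv),
      Subgroup.coe_mul, Subgroup.coe_mul, Subgroup.coe_inv, autFun_mul, autFun_mul, autFun_inv_apply]
  have hθv : ∀ v ∈ P, θ (ψ v) = ψ (autFun δP v) := fun v hv => by
    rw [hθ'e _ (hψimg ▸ mem_img_self ψ hv)]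
    exact hε' dA v hv
  have hθconj : ∀ g ∈ T, ∀ α : AP, (∀ v ∈ P, g * ψ v * g⁻¹ = ψ (autFun (α : MulAut P) v)) →
      ∀ v ∈ P, θ g * ψ v * (θ g)⁻¹ = ψ (autFun ((dA * α * dA⁻¹ : AP) : MulAut P) v) := by
    intro g hg α ha v hv
    have hw := autFun_mem (δP⁻¹ : MulAut P) hv
    have hψw : ψ (autFun δP⁻¹ v) ∈ T := hQT (hψimg ▸ mem_img_self ψ hw)
    have h1 := hθT.map_conj hg hψw
    rw [ha _ hw, hθv _ (autFun_mem _ hw), hθv _ hw, autFun_apply_inv] at h1
    rw [← h1, Subgroup.coe_mul, Subgroup.coe_mul, Subgroup.coe_inv, autFun_mul, autFun_mul]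
  have hθmem : ∀ g ∈ T, θ g ∈ T := by
    intro g hg
    obtain ⟨α, hα, ha⟩ := hg.2
    have h2 := hθconj g hg α ha
    refine ⟨hQN _ fun v hv => ?_, _, hdR α hα, h2⟩
    rw [h2 v hv]
    exact hψimg ▸ mem_img_self ψ (autFun_mem _ hv)
  let θt : T →* T := MonoidHom.mk' (fun g => ⟨θ g, hθmem g g.2⟩) fun g g' =>
    Subtype.ext (hθT.map_mul g.2 g'.2)
  let ι : P →* T := MonoidHom.mk' (fun v => ⟨ψ v, hQT (hψimg ▸ mem_img_self ψ v.2)⟩) fun v w =>
    Subtype.ext (hψ.map_mul v.2 w.2)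
  have hιinj : Function.Injective ι := fun v w h =>
    Subtype.ext (hψ.inj v.2 w.2 (congrArg Subtype.val h))
  have hιconj : ∀ g : T, ∃ α ∈ R, ∀ v : P, g * ι v * g⁻¹ = ι ((α : MulAut P) v) := fun g => by
    obtain ⟨α, hα, ha⟩ := g.2.2
    exact ⟨α, hα, fun v => Subtype.ext (by
      show (g : X) * ψ v * (g : X)⁻¹ = ψ ((α : MulAut P) v : P)
      rw [ha v v.2, autFun_apply])⟩
  set Nt := N.map ι with hNt
  haveI hNtn : Nt.Normal := ⟨fun a ha g => by
    obtain ⟨v, hv, rfl⟩ := ha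
    obtain ⟨α, -, h⟩ := hιconj g
    rw [h v]
    refine Subgroup.mem_map_of_mem ι ?_
    exact (hNinv (α : MulAut P)).le ⟨v, hv, rfl⟩⟩
  haveI hιn : ι.range.Normal := ⟨fun a ha g => by
    obtain ⟨v, rfl⟩ := ha
    obtain ⟨α, -, h⟩ := hιconj g
    exact ⟨_, (h v).symm⟩⟩
  set μ := QuotientGroup.mk' Nt with hμdef
  let J : (P ⧸ N) →* T ⧸ Nt := QuotientGroup.map N Nt ι (Subgroup.map_le_iff_le_comap.1 le_rfl)
  have hJ : ∀ v : P, J (π v) = μ (ι v) := fun v => rfl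
  have hJinj : Function.Injective J := by
    rw [injective_iff_map_eq_one]
    intro g hg
    obtain ⟨v, rfl⟩ := hπs g
    obtain ⟨w, hw, hwv⟩ := (QuotientGroup.eq_one_iff (N := Nt) (ι v)).1 hg
    rw [← hιinj hwv]
    exact hπ1 hw
  have hJrange : J.range = ι.range.map μ := by
    ext z
    constructor
    · rintro ⟨g, rfl⟩
      obtain ⟨v, rfl⟩ := hπs g
      exact ⟨ι v, ⟨v, rfl⟩, rfl⟩
    · rintro ⟨_, ⟨v, rfl⟩, rfl⟩
      exact ⟨π v, rfl⟩
  have hcl : closure ({J xb, J eb, J cb, J fb} : Set (T ⧸ Nt)) = J.range := by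
    rw [MonoidHom.range_eq_map, ← hctop, MonoidHom.map_closure]
    congr 1
    simp [Set.image_insert_eq, Set.image_singleton]
  haveI : (closure ({J xb, J eb, J cb, J fb} : Set (T ⧸ Nt))).Normal := by
    rw [hcl, hJrange]; exact hιn.map μ (QuotientGroup.mk'_surjective Nt)
  have hrelJ : Tower.Rel p (J xb) (J eb) (J cb) (J fb) :=
    ⟨by rw [← map_pow, hrel.xp, map_one], by rw [← map_pow, hrel.ep, map_one],
      by rw [← map_pow, hrel.cp, map_one], by rw [← map_pow, hrel.fp, map_one],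
      hrel.xc.map J, hrel.xf.map J, hrel.ec.map J, hrel.ef.map J, hrel.cf.map J,
      by rw [← map_cm, hrel.ex],
      fun A B C D h => hrel.uniq A B C D (hJinj (by simpa only [map_mul, map_zpow, map_one] using h))⟩
  -- the element over `Q`
  obtain ⟨g1, hg1T, hg1⟩ := hreal γ1 hγ1R
  set yb := μ ⟨g1, hg1T⟩ with hybdef
  have hy1 : ∀ u : (P ⧸ N), yb * J u * yb⁻¹ = J (Γ γ1 u) := fun u => by
    obtain ⟨v, rfl⟩ := hπs u
    rw [hJ, hΓ, hJ, hybdef, ← map_inv, ← map_mul, ← map_mul]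
    congr 1
    exact Subtype.ext (by show g1 * ψ v * g1⁻¹ = ψ _; rw [hg1 v v.2, autFun_apply])
  set σ := (Γ γ1)⁻¹ with hσdef
  have hσK : σ ∈ K := inv_mem (show Γ γ1 ∈ K from hγ1R)
  have hy2 : ∀ u : (P ⧸ N), yb⁻¹ * J u * yb = J (σ u) := fun u => by
    have h := hy1 (σ u)
    rw [hσdef, MulAut.apply_inv_self] at h
    rw [← h, hσdef]; group
  have hsc : σ cb = cb := by
    have h := (hσK 0 (by norm_num) cb (mem_zpowers cb)).2
    exact (inv_mul_eq_one.1 (Subgroup.mem_bot.1 h)).symm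
  obtain ⟨D0, hD0⟩ : ∃ D0 : ℤ, σ fb = fb * cb ^ D0 := by
    obtain ⟨D0, hD0⟩ := mem_zpowers_iff.1 (hσK 1 (by norm_num) fb hfb).2
    exact ⟨D0, by rw [hD0, mul_inv_cancel_left]⟩
  obtain ⟨B0, G0, hx0⟩ : ∃ B0 G0 : ℤ, σ xb = xb * cb ^ B0 * fb ^ G0 := by
    obtain ⟨C, D, h⟩ := (hcen _).1
      (hσK 2 (by norm_num) xb (Subgroup.mem_sup_right (mem_zpowers xb))).2
    refine ⟨C, D, ?_⟩
    rw [eq_inv_mul_iff_mul_eq.1 h.symm |>.symm]
    simp [Tower.nf, mul_assoc]
  obtain ⟨A1, C1, D1, he0⟩ : ∃ A1 C1 D1 : ℤ, σ eb = eb * xb ^ A1 * cb ^ C1 * fb ^ D1 := by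
    obtain ⟨A, C, D, h⟩ := (hS3 _).1 (hσK 3 (by norm_num) eb (Subgroup.mem_top eb)).2
    refine ⟨A, C, D, ?_⟩
    rw [eq_inv_mul_iff_mul_eq.1 h.symm |>.symm]
    simp [Tower.nf, mul_assoc]
  have hA1 : ¬ (p : ℤ) ∣ A1 := by
    intro h
    refine hr0 ?_
    have h1 : Λ0 σ (mv eb) = mv eb := by
      rw [hΛ, he0, RankTwoResistant.zpow_eq_of_dvd hrel.xp (j := 0) (by simpa using h), zpow_zero, mul_one,
        map_mul, map_mul, map_zpow, map_zpow, show mv cb = 1 from (QuotientGroup.eq_one_iff cb).2 hcb,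
        show mv fb = 1 from (QuotientGroup.eq_one_iff fb).2 hfb, one_zpow, one_zpow, mul_one, mul_one]
    have h2 : φ γ1 (mv eb) = mv eb := by
      conv_lhs => rw [← h1]
      rw [← MulAut.mul_apply, show φ γ1 = Λ0 (Γ γ1) from rfl, ← map_mul, hσdef, mul_inv_cancel, map_one,
        MulAut.one_apply]
    rw [hσe, mul_eq_left] at h2
    exact (hVuniq r0 0 (by rw [h2, zpow_zero, mul_one])).1
  have hφpow : ∀ n : ℕ, φ (γ1 ^ n) (mv eb) = mv eb * mv xb ^ (r0 * n) := fun n => by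
    have h := RankTwoResistant.transvection_zpow (σ := φ γ1) (y := mv xb) (w := mv eb) (r := r0)
      hσx hσe (n : ℤ) 1 0
    simp only [zpow_one, zpow_zero, mul_one, zero_add, zpow_natCast] at h
    rw [map_pow]; exact h
  have hgpow : ∀ n : ℕ, ∀ v ∈ P, g1 ^ n * ψ v * (g1 ^ n)⁻¹ = ψ (autFun ((γ1 ^ n : AP) : MulAut P) v) := by
    intro n
    induction n with
    | zero =>
      intro v _
      rw [pow_zero, pow_zero, Subgroup.coe_one, autFun_one, one_mul, inv_one, mul_one]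
      rfl
    | succ n ih =>
      intro v hv
      rw [pow_succ' γ1, Subgroup.coe_mul, autFun_mul, ← hg1 _ (autFun_mem _ hv), ← ih v hv, pow_succ']
      group
  have hinQ : ∀ g : T, (g : X) ∈ Q → μ g ∈ closure ({J xb, J eb, J cb, J fb} : Set (T ⧸ Nt)) := by
    intro g hg
    obtain ⟨v, hv, hve⟩ := hψ.mem_img.1 (hψimg.symm ▸ hg)
    rw [hcl]
    exact ⟨π ⟨v, hv⟩, by rw [hJ]; exact congrArg μ (Subtype.ext hve)⟩
  have hyp : yb ^ p ∈ closure ({J xb, J eb, J cb, J fb} : Set (T ⧸ Nt)) := by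
    rw [hybdef, ← map_pow]
    refine hinQ _ ?_
    rw [SubgroupClass.coe_pow]
    refine hmemQ _ _ (hgpow p) ?_
    rw [hφpow, RankTwoResistant.zpow_eq_of_dvd (hVe (mv xb)) (j := 0) (by simp), zpow_zero, mul_one]
    exact mem_zpowers _
  obtain ⟨u, hu⟩ : ∃ u : ℕ, (p : ℤ) ∣ (u : ℤ) - t ^ 3 := by
    refine ⟨(t ^ 3 % (p : ℤ)).toNat, ?_⟩
    rw [Int.toNat_of_nonneg (Int.emod_nonneg _ (by exact_mod_cast hpp.ne_zero))]
    exact ⟨-(t ^ 3 / (p : ℤ)), by rw [Int.emod_def]; ring⟩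
  let δH : T ⧸ Nt →* T ⧸ Nt := QuotientGroup.map Nt Nt θt (by
    rintro _ ⟨v, hv, rfl⟩
    refine ⟨δP v, (hNinv δP).le ⟨v, hv, rfl⟩, Subtype.ext ?_⟩
    show ψ (δP v : P) = θ (ψ v)
    rw [hθv v v.2, autFun_apply])
  have hδJ : ∀ v : P, δH (J (π v)) = J (π (δP v)) := fun v => by
    rw [hJ, hJ]
    show μ (θt (ι v)) = μ (ι (δP v))
    congr 1
    exact Subtype.ext (by show θ (ψ v) = ψ _; rw [hθv v v.2, autFun_apply])
  obtain ⟨q, hq, hδy⟩ : ∃ q ∈ closure ({J xb, J eb, J cb, J fb} : Set (T ⧸ Nt)), δH yb = yb ^ u * q := by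
    refine ⟨(yb ^ u)⁻¹ * δH yb, ?_, (mul_inv_cancel_left _ _).symm⟩
    rw [show δH yb = μ (θt ⟨g1, hg1T⟩) from rfl, hybdef, ← map_pow, ← map_inv, ← map_mul]
    refine hinQ _ ?_
    show (g1 ^ u)⁻¹ * θ g1 ∈ Q
    set α2 : AP := (γ1 ^ u)⁻¹ * (dA * γ1 * dA⁻¹)
    refine hmemQ _ α2 (fun v hv => ?_) ?_
    · rw [Subgroup.coe_mul, autFun_mul, Subgroup.coe_inv,
        show autFun ((dA * γ1 * dA⁻¹ : AP) : MulAut P) v = autFun ((dA * γ1 * dA⁻¹ : AP) : MulAut P) v from rfl]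
      set w := autFun ((γ1 ^ u : AP) : MulAut P)⁻¹ (autFun ((dA * γ1 * dA⁻¹ : AP) : MulAut P) v)
      have h1 := hgpow u w (autFun_mem _ (autFun_mem _ hv))
      rw [autFun_apply_inv, ← hθconj g1 hg1T γ1 hg1 v hv] at h1
      calc (g1 ^ u)⁻¹ * θ g1 * ψ v * ((g1 ^ u)⁻¹ * θ g1)⁻¹
          = (g1 ^ u)⁻¹ * (θ g1 * ψ v * (θ g1)⁻¹) * g1 ^ u := by group
        _ = _ := by rw [← h1]; group
    · have hde3 : φ (dA * γ1 * dA⁻¹) (mv eb) = mv eb * mv xb ^ (r0 * t ^ 3) := by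
        have hinv : (φ dA)⁻¹ (mv eb) = mv eb ^ t := (φ dA).injective (by
          rw [MulAut.apply_inv_self, map_zpow, hde', ← zpow_mul,
            RankTwoResistant.zpow_eq_of_dvd (hVe _) (j := 1) hT.st, zpow_one])
        rw [map_mul, map_mul, map_inv, MulAut.mul_apply, MulAut.mul_apply, hinv, map_zpow, hσe, map_zpow,
          map_mul, map_zpow, hdx', hde', mul_zpow, ← zpow_mul, ← zpow_mul, ← zpow_mul,
          RankTwoResistant.zpow_eq_of_dvd (hVe (mv eb)) (j := 1) hT.st, zpow_one]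
        congr 2; ring
      have h4 : φ α2 (mv eb) = mv eb := by
        rw [map_mul, map_inv, MulAut.mul_apply, hde3]
        refine (φ (γ1 ^ u)).injective ?_
        rw [MulAut.apply_inv_self, hφpow]
        congr 1
        exact RankTwoResistant.zpow_eq_of_dvd (hVe _) (by
          rw [show r0 * t ^ 3 - r0 * (u : ℤ) = -(r0 * ((u : ℤ) - t ^ 3)) by ring]
          exact (hu.mul_left r0).neg_right)
      rw [h4]; exact mem_zpowers _
  have hTp : IsPGroup p (T ⧸ Nt) := (hX.to_subgroup T).to_quotient Nt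
  obtain ⟨B, hBe, hBc⟩ := Tower.exists_elem_card (δ := δH) hTp hT.st hT.t2 hT.t3 hT.t5 hrelJ (y := yb)
    (cm_eq_one_iff.1 (by
      rw [cm_def, show yb⁻¹ * (J cb)⁻¹ * yb * J cb = (yb⁻¹ * J cb * yb)⁻¹ * J cb by group, hy2, hsc,
        inv_mul_cancel]))
    (D0 := D0) (by rw [hy2, hD0, map_mul, map_zpow])
    (B0 := B0) (G0 := G0) (by rw [hy2, hx0, map_mul, map_mul, map_zpow, map_zpow])
    hA1 ⟨C1, D1, by rw [hy2, he0, map_mul, map_mul, map_mul, map_zpow, map_zpow, map_zpow]⟩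
    hyp
    (i := i0) (j := j0)
    (by
      rw [hδJ, show π (δP x') = xb ^ (t ^ 2) * cb ^ i0 * fb ^ j0 from hδx, map_mul, map_mul, map_zpow,
        map_zpow, map_zpow])
    (by rw [hδJ, hδeb, map_zpow])
    (by rw [hδJ, hδcb, map_zpow])
    (by rw [hδJ, hδfb])
    hq hδy
  have hle := pow_card_le_of_sectional hsr T μ
    (fun b _ => QuotientGroup.mk'_surjective Nt b) hBe
  have h4 := (Nat.pow_le_pow_iff_right hpp.one_lt).1 (hBc.trans hle)
  omega

end Cfsg.Agent.Fusion.RankThree
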